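import Mathlib

/-!
# Finite projective planes: incidence helpers

Total functions for the line through two points and the meet of two lines, counting, quadrangles.
-/

set_option autoImplicit false
set_option linter.unusedSectionVars false

open scoped Classical

namespace Cfsg.Agent.ProjPlane

open Configuration

variable {P L : Type*} [Membership P L] [ProjectivePlane P L]

variable (L) in
/-- The line through two points (an arbitrary line through the point if they are equal). -/
noncomputable def ln (a b : P) : L :=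
  if h : a = b then (Classical.choice (by
    obtain ⟨_, _, _, l, -⟩ := @ProjectivePlane.exists_config P L _ _
    exact ⟨l⟩))
  else HasLines.mkLine (P := P) (L := L) h

variable (P) in
/-- The meet of two lines (an arbitrary point if they are equal). -/
noncomputable def pt (l m : L) : P :=
  if h : l = m then (Classical.choice (by
    obtain ⟨p, -⟩ := @ProjectivePlane.exists_config P L _ _
    exact ⟨p⟩))
  else HasPoints.mkPoint (P := P) (L := L) h

theorem left_ln {a b : P} (h : a ≠ b) : a ∈ ln L a b := by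
  rw [ln, dif_neg h]; exact (HasLines.mkLine_ax h).1

theorem right_ln {a b : P} (h : a ≠ b) : b ∈ ln L a b := by
  rw [ln, dif_neg h]; exact (HasLines.mkLine_ax h).2

theorem pt_left {l m : L} (h : l ≠ m) : pt P l m ∈ l := by
  rw [pt, dif_neg h]; exact (HasPoints.mkPoint_ax h).1

theorem pt_right {l m : L} (h : l ≠ m) : pt P l m ∈ m := by
  rw [pt, dif_neg h]; exact (HasPoints.mkPoint_ax h).2

theorem eq_of_two {a b : P} {l m : L} (h : a ≠ b) (hal : a ∈ l) (hbl : b ∈ l) (ham : a ∈ m)
    (hbm : b ∈ m) : l = m :=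
  (Nondegenerate.eq_or_eq hal hbl ham hbm).resolve_left h

theorem eq_of_two' {a b : P} {l m : L} (h : l ≠ m) (hal : a ∈ l) (hbl : b ∈ l) (ham : a ∈ m)
    (hbm : b ∈ m) : a = b :=
  (Nondegenerate.eq_or_eq hal hbl ham hbm).resolve_right h

theorem eq_ln {a b : P} {l : L} (h : a ≠ b) (ha : a ∈ l) (hb : b ∈ l) : l = ln L a b :=
  eq_of_two h ha hb (left_ln h) (right_ln h)

theorem eq_pt {l m : L} {a : P} (h : l ≠ m) (ha : a ∈ l) (hb : a ∈ m) : a = pt P l m :=
  eq_of_two' h ha (pt_left h) hb (pt_right h)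

/-- Every two lines meet. -/
theorem exists_meet (l m : L) : ∃ a : P, a ∈ l ∧ a ∈ m := by
  by_cases h : l = m
  · subst h
    obtain ⟨_, p, _, _, m, _, -, -, -, hp, -⟩ := @ProjectivePlane.exists_config P L _ _
    by_cases hl : l = m
    · exact ⟨p, hl ▸ hp, hl ▸ hp⟩
    · exact ⟨pt P l m, pt_left hl, pt_left hl⟩
  · exact ⟨pt P l m, pt_left h, pt_right h⟩

/-- Three points lie on a line. -/
def Col (L : Type*) [Membership P L] (a b c : P) : Prop := ∃ l : L, a ∈ l ∧ b ∈ l ∧ c ∈ l

/-- Four points, no three on a line. -/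
structure Quad (L : Type*) [Membership P L] (a b c d : P) : Prop where
  abc : ¬ Col L a b c
  abd : ¬ Col L a b d
  acd : ¬ Col L a c d
  bcd : ¬ Col L b c d

theorem exists_line_through (a : P) : ∃ l : L, a ∈ l := by
  obtain ⟨p, q, _, _, l, _, hp, -, -, hq, -⟩ := @ProjectivePlane.exists_config P L _ _
  by_cases h : a = q
  · exact ⟨l, h ▸ hq⟩
  · exact ⟨ln L a q, left_ln h⟩

theorem col_self_left (a b : P) : Col L a a b := by
  by_cases h : a = b
  · obtain ⟨l, hl⟩ := exists_line_through (L := L) a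
    exact ⟨l, hl, hl, h ▸ hl⟩
  · exact ⟨ln L a b, left_ln h, left_ln h, right_ln h⟩

theorem Col.swap {a b c : P} (h : Col L a b c) : Col L b a c :=
  let ⟨l, ha, hb, hc⟩ := h; ⟨l, hb, ha, hc⟩

theorem Col.rot {a b c : P} (h : Col L a b c) : Col L b c a :=
  let ⟨l, ha, hb, hc⟩ := h; ⟨l, hb, hc, ha⟩

theorem ne_of_not_col {a b c : P} (h : ¬ Col L a b c) : a ≠ b ∧ a ≠ c ∧ b ≠ c :=
  ⟨fun e => h (e ▸ col_self_left a c), fun e => h (e ▸ (col_self_left a b).rot),
    fun e => h (e ▸ (col_self_left b a).rot.rot)⟩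

theorem col_iff {a b c : P} (h : a ≠ b) : Col L a b c ↔ c ∈ ln L a b :=
  ⟨fun ⟨_, ha, hb, hc⟩ => eq_ln h ha hb ▸ hc, fun hc => ⟨_, left_ln h, right_ln h, hc⟩⟩

section Finite

variable [Finite P] [Finite L]

variable (P L) in
/-- The order of the plane. -/
noncomputable abbrev ord : ℕ := ProjectivePlane.order P L

theorem card_on (l : L) : Nat.card {p : P // p ∈ l} = ord P L + 1 :=
  ProjectivePlane.pointCount_eq P l

theorem card_through (p : P) : Nat.card {l : L // p ∈ l} = ord P L + 1 :=
  ProjectivePlane.lineCount_eq L p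

theorem two_le_ord : 2 ≤ ord P L := ProjectivePlane.one_lt_order P L

variable (P L) in
theorem natCard_points : Nat.card P = ord P L ^ 2 + ord P L + 1 := by
  cases nonempty_fintype P
  rw [Nat.card_eq_fintype_card]
  exact ProjectivePlane.card_points P L

variable (P L) in
theorem natCard_lines : Nat.card L = ord P L ^ 2 + ord P L + 1 := by
  cases nonempty_fintype L
  rw [Nat.card_eq_fintype_card]
  exact ProjectivePlane.card_lines P L

/-- A line has a point outside a small set. -/
theorem exists_on_notMem (l : L) (s : Finset P) (hs : s.card ≤ ord P L) :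
    ∃ p : P, p ∈ l ∧ p ∉ s := by
  by_contra h
  push Not at h
  have h1 : Nat.card {p : P // p ∈ l} ≤ Nat.card {p : P // p ∈ s} :=
    Nat.card_le_card_of_injective (fun p => ⟨p.1, h p.1 p.2⟩) fun p q e => by
      exact Subtype.ext (congrArg (fun x : {p : P // p ∈ s} => x.1) e)
  rw [card_on, Nat.card_eq_fintype_card, Fintype.card_coe] at h1
  omega

/-- A point lies on a line outside a small set. -/
theorem exists_through_notMem (p : P) (s : Finset L) (hs : s.card ≤ ord P L) :
    ∃ l : L, p ∈ l ∧ l ∉ s := by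
  by_contra h
  push Not at h
  have h1 : Nat.card {l : L // p ∈ l} ≤ Nat.card {l : L // l ∈ s} :=
    Nat.card_le_card_of_injective (fun l => ⟨l.1, h l.1 l.2⟩) fun p q e => by
      exact Subtype.ext (congrArg (fun x : {l : L // l ∈ s} => x.1) e)
  rw [card_through, Nat.card_eq_fintype_card, Fintype.card_coe] at h1
  omega

theorem exists_on_ne (l : L) (a b : P) : ∃ p : P, p ∈ l ∧ p ≠ a ∧ p ≠ b := by
  obtain ⟨p, hp, hps⟩ := exists_on_notMem l {a, b} (le_trans Finset.card_le_two two_le_ord)
  exact ⟨p, hp, fun e => hps (by simp [e]), fun e => hps (by simp [e])⟩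

theorem exists_through_ne (p : P) (a b : L) : ∃ l : L, p ∈ l ∧ l ≠ a ∧ l ≠ b := by
  obtain ⟨l, hl, hls⟩ := exists_through_notMem p {a, b} (le_trans Finset.card_le_two two_le_ord)
  exact ⟨l, hl, fun e => hls (by simp [e]), fun e => hls (by simp [e])⟩

/-- A line through `p` missing `q`. -/
theorem exists_through_off {p q : P} (h : q ≠ p) : ∃ l : L, p ∈ l ∧ q ∉ l := by
  obtain ⟨l, hl, h1, -⟩ := exists_through_ne p (ln L q p) (ln L q p)
  exact ⟨l, hl, fun hq => h1 (eq_ln h hq hl)⟩

/-- A point on `l` off `m`. -/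
theorem exists_on_off {l m : L} (h : m ≠ l) : ∃ p : P, p ∈ l ∧ p ∉ m := by
  obtain ⟨p, hp, h1, -⟩ := exists_on_ne l (pt P m l) (pt P m l)
  exact ⟨p, hp, fun hq => h1 (eq_pt h hq hp)⟩

/-- A point outside two lines. -/
theorem exists_off_two (l m : L) : ∃ p : P, p ∉ l ∧ p ∉ m := by
  by_cases h : l = m
  · obtain ⟨p, hp⟩ := Nondegenerate.exists_point (P := P) l
    exact ⟨p, hp, h ▸ hp⟩
  obtain ⟨a, hal, ham⟩ := exists_on_off (P := P) (Ne.symm h)
  obtain ⟨b, hbm, hbl⟩ := exists_on_off (P := P) h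
  have hab : a ≠ b := fun e => ham (e ▸ hbm)
  obtain ⟨c, hc, hca, hcb⟩ := exists_on_ne (ln L a b) a b
  exact ⟨c, fun hcl => hbl (eq_of_two hca hcl hal hc (left_ln hab) ▸ right_ln hab),
    fun hcm => ham (eq_of_two hcb hcm hbm hc (right_ln hab) ▸ left_ln hab)⟩

end Finite

end Cfsg.Agent.ProjPlane
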