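import Cfsg.Agent.ProjPlane.Basic

/-!
# Collineation groups

A collineation fixes as many points as lines; hence a doubly transitive group is transitive on
antiflags and doubly transitive on lines.
-/

set_option autoImplicit false
set_option linter.unusedSectionVars false

open scoped Classical

namespace Cfsg.Agent.ProjPlane

open Configuration

theorem sum_ite_succ {α : Type*} [Fintype α] (N : ℕ) (q : α → Prop) :
    ∑ x : α, (if q x then N + 1 else 1) = N * Nat.card {x : α // q x} + Fintype.card α := by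
  rw [Nat.card_eq_fintype_card, Fintype.card_subtype, Finset.card_filter, Finset.mul_sum,
    ← Finset.card_univ, Finset.card_eq_sum_ones, ← Finset.sum_add_distrib]
  exact Finset.sum_congr rfl fun x _ => by split_ifs <;> simp

/-- `G` acts on the plane by collineations. -/
class IsColl (G P L : Type*) [Group G] [Membership P L] [MulAction G P] [MulAction G L] :
    Prop where
  smul_mem_smul : ∀ (g : G) (p : P) (l : L), g • p ∈ g • l ↔ p ∈ l

/-- `G` is transitive on ordered pairs of distinct elements. -/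
def TwoTrans (G α : Type*) [Group G] [MulAction G α] : Prop :=
  ∀ a b c d : α, a ≠ b → c ≠ d → ∃ g : G, g • a = c ∧ g • b = d

variable {G P L : Type*} [Group G] [Membership P L] [MulAction G P] [MulAction G L]

instance dualMulAction {α : Type*} [h : MulAction G α] : MulAction G (Configuration.Dual α) := h

instance dualFaithful {α : Type*} [MulAction G α] [h : FaithfulSMul G α] :
    FaithfulSMul G (Configuration.Dual α) := h

instance dualIsColl [IsColl G P L] : IsColl G (Configuration.Dual L) (Configuration.Dual P) where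
  smul_mem_smul g l p := IsColl.smul_mem_smul (P := P) (L := L) g p l

instance subIsColl [IsColl G P L] (H : Subgroup G) : IsColl H P L where
  smul_mem_smul g p l := IsColl.smul_mem_smul (g : G) p l

section

variable [IsColl G P L]

theorem smul_mem_iff (g : G) {p : P} {l : L} : g • p ∈ g • l ↔ p ∈ l :=
  IsColl.smul_mem_smul g p l

theorem smul_mem (g : G) {p : P} {l : L} (h : p ∈ l) : g • p ∈ g • l := (smul_mem_iff g).2 h

theorem mem_smul_iff (g : G) {p : P} {l : L} : p ∈ g • l ↔ g⁻¹ • p ∈ l := by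
  rw [← smul_mem_iff g (p := g⁻¹ • p) (l := l), smul_inv_smul]

theorem smul_mem_iff' (g : G) {p : P} {l : L} : g • p ∈ l ↔ p ∈ g⁻¹ • l := by
  rw [mem_smul_iff g⁻¹, inv_inv]

theorem smul_col {a b c : P} (g : G) (h : Col L a b c) : Col L (g • a) (g • b) (g • c) :=
  let ⟨l, ha, hb, hc⟩ := h; ⟨g • l, smul_mem g ha, smul_mem g hb, smul_mem g hc⟩

variable [ProjectivePlane P L]

theorem smul_ln (g : G) {a b : P} (h : a ≠ b) : g • ln L a b = ln L (g • a) (g • b) :=
  eq_ln (fun e => h (MulAction.injective g e)) (smul_mem g (left_ln h)) (smul_mem g (right_ln h))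

theorem smul_pt (g : G) {l m : L} (h : l ≠ m) : g • pt P l m = pt P (g • l) (g • m) :=
  eq_pt (fun e => h (MulAction.injective g e)) (smul_mem g (pt_left h)) (smul_mem g (pt_right h))

theorem fix_ln {g : G} {a b : P} (h : a ≠ b) (ha : g • a = a) (hb : g • b = b) :
    g • ln L a b = ln L a b := by rw [smul_ln g h, ha, hb]

theorem fix_line_of_two {g : G} {a b : P} {l : L} (h : a ≠ b) (hal : a ∈ l) (hbl : b ∈ l)
    (ha : g • a = a) (hb : g • b = b) : g • l = l := by
  rw [eq_ln h hal hbl]; exact fix_ln h ha hb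

theorem fix_point_of_two {g : G} {l m : L} {a : P} (h : l ≠ m) (hal : a ∈ l) (ham : a ∈ m)
    (hl : g • l = l) (hm : g • m = m) : g • a = a := by
  rw [eq_pt h hal ham, smul_pt g h, hl, hm]

/-- Fixing all points means fixing all lines. -/
theorem fix_lines [Finite P] [Finite L] {g : G} (h : ∀ p : P, g • p = p) (l : L) : g • l = l := by
  obtain ⟨a, ha, -⟩ := exists_on_notMem (P := P) l ∅ (Nat.zero_le _)
  obtain ⟨b, hb, hba, -⟩ := exists_on_ne (P := P) l a a
  exact fix_line_of_two hba hb ha (h b) (h a)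

variable [Finite P] [Finite L]

theorem faithful_lines [FaithfulSMul G P] : FaithfulSMul G L where
  eq_of_smul_eq_smul {g g'} h := by
    refine FaithfulSMul.eq_of_smul_eq_smul fun p : P => ?_
    obtain ⟨l, hl, -⟩ := exists_through_notMem (L := L) p ∅ (Nat.zero_le _)
    obtain ⟨m, hm, hml, -⟩ := exists_through_ne (P := P) p l l
    have e : ∀ k : L, g • k = g' • k := h
    refine eq_of_two' (fun e' => hml (MulAction.injective g e'))
      (smul_mem g hm) ?_ (smul_mem g hl) ?_
    · show g' • p ∈ g • m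
      rw [e m]; exact smul_mem g' hm
    · show g' • p ∈ g • l
      rw [e l]; exact smul_mem g' hl

theorem eq_one_of_fix_points [FaithfulSMul G P] {g : G} (h : ∀ p : P, g • p = p) : g = 1 :=
  FaithfulSMul.eq_of_smul_eq_smul fun p : P => by rw [h, one_smul]

/-- **A collineation fixes as many points as lines.** -/
theorem card_fix_eq (g : G) :
    Nat.card {p : P // g • p = p} = Nat.card {l : L // g • l = l} := by
  cases nonempty_fintype P
  cases nonempty_fintype L
  have hp : ∀ p : P, ∑ l : L, (if p ∈ l ∧ g • p ∈ l then 1 else 0 : ℕ) =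
      if g • p = p then ord P L + 1 else 1 := by
    intro p
    rw [← Finset.card_filter, ← Fintype.card_subtype, ← Nat.card_eq_fintype_card]
    split_ifs with h
    · simp only [h, and_self]; exact card_through p
    · rw [Nat.card_eq_one_iff_unique]
      exact ⟨⟨fun a b => Subtype.ext (eq_of_two (Ne.symm h) a.2.1 a.2.2 b.2.1 b.2.2)⟩,
        ⟨⟨ln L p (g • p), left_ln (Ne.symm h), right_ln (Ne.symm h)⟩⟩⟩
  have hl : ∀ l : L, ∑ p : P, (if p ∈ l ∧ g • p ∈ l then 1 else 0 : ℕ) =
      if g • l = l then ord P L + 1 else 1 := by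
    intro l
    rw [← Finset.card_filter, ← Fintype.card_subtype, ← Nat.card_eq_fintype_card]
    split_ifs with h
    · have e : ∀ p : P, (p ∈ l ∧ g • p ∈ l) ↔ p ∈ l := fun p =>
        ⟨And.left, fun hp => ⟨hp, by have := smul_mem g hp; rwa [h] at this⟩⟩
      simp only [e]; exact card_on l
    · have h' : l ≠ g⁻¹ • l := fun e => h (by rw [eq_inv_smul_iff] at e; exact e)
      simp only [smul_mem_iff']
      rw [Nat.card_eq_one_iff_unique]
      exact ⟨⟨fun a b => Subtype.ext (eq_of_two' h' a.2.1 b.2.1 a.2.2 b.2.2)⟩,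
        ⟨⟨pt P l (g⁻¹ • l), pt_left h', pt_right h'⟩⟩⟩
  have h := Finset.sum_comm (s := (Finset.univ : Finset P)) (t := (Finset.univ : Finset L))
    (f := fun p l => (if p ∈ l ∧ g • p ∈ l then 1 else 0 : ℕ))
  simp only [hp, hl] at h
  rw [sum_ite_succ, sum_ite_succ, ProjectivePlane.card_points_eq_card_lines P L] at h
  exact Nat.eq_of_mul_eq_mul_left (by have := two_le_ord (P := P) (L := L); omega)
    (Nat.add_right_cancel h)

/-- A group of collineations has as many orbits on points as on lines. -/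
theorem card_orbits_eq [Finite G] :
    Nat.card (MulAction.orbitRel.Quotient G P) = Nat.card (MulAction.orbitRel.Quotient G L) := by
  cases nonempty_fintype G
  cases nonempty_fintype P
  cases nonempty_fintype L
  have hP := MulAction.sum_card_fixedBy_eq_card_orbits_mul_card_group G P
  have hL := MulAction.sum_card_fixedBy_eq_card_orbits_mul_card_group G L
  have e : ∀ g : G, Fintype.card (MulAction.fixedBy P g) = Fintype.card (MulAction.fixedBy L g) :=
    fun g => by
      rw [← Nat.card_eq_fintype_card, ← Nat.card_eq_fintype_card]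
      exact card_fix_eq g
  simp only [e] at hP
  rw [Nat.card_eq_fintype_card, Nat.card_eq_fintype_card]
  exact Nat.eq_of_mul_eq_mul_right Fintype.card_pos (hP.symm.trans hL)

end

/-- An invariant property with both values separates two orbits. -/
theorem orbit_of_two {H α : Type*} [Group H] [MulAction H α]
    (hc : Nat.card (MulAction.orbitRel.Quotient H α) = 2) (q : α → Prop)
    (hq : ∀ (g : H) x, q (g • x) ↔ q x) (ht : ∃ x, q x) (hf : ∃ x, ¬ q x) {x y : α}
    (h : q x ↔ q y) : ∃ g : H, g • x = y := by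
  let f : MulAction.orbitRel.Quotient H α → Prop :=
    Quotient.lift q fun a b (hab : a ∈ MulAction.orbit H b) => by
      obtain ⟨g, rfl⟩ := hab
      exact propext (hq g b)
  have hs : Function.Surjective f := by
    intro r
    by_cases hr : r
    · obtain ⟨z, hz⟩ := ht; exact ⟨Quotient.mk'' z, propext (iff_of_true hz hr)⟩
    · obtain ⟨z, hz⟩ := hf; exact ⟨Quotient.mk'' z, propext (iff_of_false hz hr)⟩
  haveI : Finite (MulAction.orbitRel.Quotient H α) := Nat.finite_of_card_ne_zero (by omega)
  have hbij := (Nat.bijective_iff_surjective_and_card f).2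
    ⟨hs, by rw [hc, Nat.card_eq_fintype_card]; rfl⟩
  exact Quotient.exact (hbij.1 (propext h.symm : f (Quotient.mk'' y) = f (Quotient.mk'' x)))

/-- An invariant property with both values, transitive on both classes: two orbits. -/
theorem two_orbits {H α : Type*} [Group H] [MulAction H α] (q : α → Prop)
    (hq : ∀ (g : H) x, q (g • x) ↔ q x) (ht : ∃ x, q x) (hf : ∃ x, ¬ q x)
    (htr : ∀ x y, (q x ↔ q y) → ∃ g : H, g • x = y) :
    Nat.card (MulAction.orbitRel.Quotient H α) = 2 := by
  let f : MulAction.orbitRel.Quotient H α → Prop :=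
    Quotient.lift q fun a b (hab : a ∈ MulAction.orbit H b) => by
      obtain ⟨g, rfl⟩ := hab
      exact propext (hq g b)
  have hbij : Function.Bijective f := by
    refine ⟨fun a b => ?_, fun r => ?_⟩
    · induction a using Quotient.inductionOn' with
      | h x =>
        induction b using Quotient.inductionOn' with
        | h y =>
          intro e
          obtain ⟨g, hg⟩ := htr y x (iff_of_eq e).symm
          exact Quotient.sound (s := MulAction.orbitRel H α) ⟨g, hg⟩
    · by_cases hr : r
      · obtain ⟨z, hz⟩ := ht; exact ⟨Quotient.mk'' z, propext (iff_of_true hz hr)⟩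
      · obtain ⟨z, hz⟩ := hf; exact ⟨Quotient.mk'' z, propext (iff_of_false hz hr)⟩
  rw [Nat.card_congr (Equiv.ofBijective f hbij), Nat.card_eq_fintype_card]; rfl

/-! ### Doubly transitive groups -/

variable [IsColl G P L] [ProjectivePlane P L] [Finite P] [Finite L] [Finite G]

theorem TwoTrans.line (ht : TwoTrans G P) (l m : L) : ∃ g : G, g • l = m := by
  obtain ⟨a, ha, -⟩ := exists_on_notMem (P := P) l ∅ (Nat.zero_le _)
  obtain ⟨b, hb, hba, -⟩ := exists_on_ne (P := P) l a a
  obtain ⟨c, hc, -⟩ := exists_on_notMem (P := P) m ∅ (Nat.zero_le _)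
  obtain ⟨d, hd, hdc, -⟩ := exists_on_ne (P := P) m c c
  obtain ⟨g, hga, hgb⟩ := ht a b c d hba.symm hdc.symm
  refine ⟨g, eq_of_two hdc ?_ ?_ hd hc⟩
  · rw [← hgb]; exact smul_mem g hb
  · rw [← hga]; exact smul_mem g ha

variable (L) in
include L in
omit [IsColl G P L] [Finite G] in
theorem stabilizer_two_orbits (ht : TwoTrans G P) (a : P) :
    Nat.card (MulAction.orbitRel.Quotient (MulAction.stabilizer G a) P) = 2 := by
  refine two_orbits (fun x => x = a) (fun g x => ⟨fun e => ?_, fun e => by subst e; exact g.2⟩)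
    ⟨a, rfl⟩ ?_ fun x y h => ?_
  · exact MulAction.injective (g : G) (e.trans g.2.symm)
  · obtain ⟨l, hl⟩ := Nondegenerate.exists_line (L := L) a
    obtain ⟨x, hx, -⟩ := exists_on_notMem (P := P) l ∅ (Nat.zero_le _)
    exact ⟨x, fun e => hl (e ▸ hx)⟩
  · by_cases hx : x = a
    · exact ⟨1, by rw [one_smul, hx, h.1 hx]⟩
    · obtain ⟨g, hga, hgx⟩ := ht a x a y (Ne.symm hx) fun e => hx (h.2 e.symm)
      exact ⟨⟨g, hga⟩, hgx⟩

/-- The stabiliser of a point has two orbits on lines. -/
theorem stabilizer_line_orbit (ht : TwoTrans G P) (a : P) {l m : L} (h : a ∈ l ↔ a ∈ m) :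
    ∃ g : G, g • a = a ∧ g • l = m := by
  obtain ⟨g, hg⟩ := orbit_of_two (H := MulAction.stabilizer G a)
    ((card_orbits_eq (P := P) (L := L)).symm.trans (stabilizer_two_orbits L ht a))
    (fun k : L => a ∈ k) (fun g k => by
      have hga : (g : G) • a = a := g.2
      have := smul_mem_iff (g : G) (p := a) (l := k)
      rwa [hga] at this)
    (exists_line_through a) (Nondegenerate.exists_line a) h
  exact ⟨g, g.2, hg⟩

/-- A doubly transitive group is transitive on antiflags. -/
theorem TwoTrans.antiflag (ht : TwoTrans G P) {a b : P} {l m : L} (hal : a ∉ l) (hbm : b ∉ m) :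
    ∃ g : G, g • a = b ∧ g • l = m := by
  obtain ⟨k, hk, -⟩ := exists_on_notMem (P := P) l ∅ (Nat.zero_le _)
  obtain ⟨k', hk', -⟩ := exists_on_notMem (P := P) m ∅ (Nat.zero_le _)
  obtain ⟨g, hg, -⟩ := ht a k b k' (fun e => hal (e ▸ hk)) (fun e => hbm (e ▸ hk'))
  obtain ⟨h, hb, hh⟩ := stabilizer_line_orbit ht b
    (iff_of_false (by rw [← hg, smul_mem_iff g]; exact hal) hbm : b ∈ g • l ↔ b ∈ m)
  exact ⟨h * g, by rw [mul_smul, hg, hb], by rw [mul_smul]; exact hh⟩

/-- Transitivity on the lines through a point. -/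
theorem TwoTrans.pencil (ht : TwoTrans G P) {a : P} {l m : L} (hl : a ∈ l) (hm : a ∈ m) :
    ∃ g : G, g • a = a ∧ g • l = m := stabilizer_line_orbit ht a (iff_of_true hl hm)

/-- Transitivity on incident point-line pairs. -/
theorem TwoTrans.flag (ht : TwoTrans G P) {a b : P} {l m : L} (hl : a ∈ l) (hm : b ∈ m) :
    ∃ g : G, g • a = b ∧ g • l = m := by
  obtain ⟨x, hx, hxa, -⟩ := exists_on_ne (P := P) l a a
  obtain ⟨y, hy, hyb, -⟩ := exists_on_ne (P := P) m b b
  obtain ⟨g, hga, hgx⟩ := ht a x b y hxa.symm hyb.symm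
  refine ⟨g, hga, eq_of_two hyb ?_ ?_ hy hm⟩
  · rw [← hgx]; exact smul_mem g hx
  · rw [← hga]; exact smul_mem g hl

/-- The stabiliser of a line is transitive on the other lines. -/
theorem TwoTrans.line_stab (ht : TwoTrans G P) {l m m' : L} (h : m ≠ l) (h' : m' ≠ l) :
    ∃ g : G, g • l = l ∧ g • m = m' := by
  have hinv : ∀ (k : MulAction.stabilizer G l) (x : P), (k • x ∈ l ↔ x ∈ l) := fun k x => by
    have hk : (k : G) • l = l := k.2
    have := smul_mem_iff (k : G) (p := x) (l := l)
    rwa [hk] at this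
  have h2 : Nat.card (MulAction.orbitRel.Quotient (MulAction.stabilizer G l) P) = 2 := by
    obtain ⟨x, hx, -⟩ := exists_on_notMem (P := P) l ∅ (Nat.zero_le _)
    refine two_orbits (fun x => x ∈ l) hinv ⟨x, hx⟩ (Nondegenerate.exists_point l) fun y z e => ?_
    by_cases hy : y ∈ l
    · obtain ⟨g, hgy, hgl⟩ := ht.flag hy (e.1 hy)
      exact ⟨⟨g, hgl⟩, hgy⟩
    · obtain ⟨g, hgy, hgl⟩ := ht.antiflag hy (fun hz => hy (e.2 hz))
      exact ⟨⟨g, hgl⟩, hgy⟩
  obtain ⟨g, hg⟩ := orbit_of_two (H := MulAction.stabilizer G l)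
    ((card_orbits_eq (P := P) (L := L)).symm.trans h2) (fun k : L => k = l)
    (fun g k => ⟨fun e => MulAction.injective (g : G) (e.trans g.2.symm), fun e => by
      subst e; exact g.2⟩)
    ⟨l, rfl⟩ ⟨m, h⟩ (iff_of_false h h' : m = l ↔ m' = l)
  exact ⟨g, g.2, hg⟩

/-- **A doubly transitive group is doubly transitive on lines.** -/
theorem TwoTrans.dual (ht : TwoTrans G P) : TwoTrans G L := by
  intro l₁ m₁ l₂ m₂ h₁ h₂
  obtain ⟨g, hgl⟩ := ht.line l₁ l₂
  obtain ⟨h, hl, hm⟩ := ht.line_stab (l := l₂) (m := g • m₁) (m' := m₂)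
    (fun e => h₁ (MulAction.injective g (hgl.trans e.symm))) (Ne.symm h₂)
  exact ⟨h * g, by rw [mul_smul, hgl, hl], by rw [mul_smul, hm]⟩

end Cfsg.Agent.ProjPlane
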