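import Cfsg.Agent.ProjPlane.SpreadEigen

/-!
# A spread set closed under `A B⁻¹ A` is a field

The spread set of a finite plane with the little Desargues property: an additive group of maps of a finite
abelian group, all nonzero ones invertible, with the identity and closed under `A B⁻¹ A`, is commutative and
closed under multiplication.
-/

set_option autoImplicit false
set_option linter.unusedSectionVars false

open Finset

namespace Cfsg.Agent.ProjPlane

open SpreadAux SpreadProj SpreadCore

variable {M : Type*} [AddCommGroup M] [Finite M]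

namespace SpreadCore

variable {K : Type*} [Field K] [Finite K]

/-- A maximal field inside the set is everything. -/
theorem range_eq (S : AddSubgroup (AddMonoid.End M)) (ι : K →+* AddMonoid.End M)
    (h1 : (1 : AddMonoid.End M) ∈ S) (hinv : ∀ a ∈ S, a ≠ 0 → IsUnit a)
    (hU : ∀ a ∈ S, ∀ x ∈ S, a * x * a ∈ S) (hι : ∀ k, ι k ∈ S)
    (hmax : ∀ b ∈ S, (∀ k, ι k * b = b * ι k) → ∃ k, ι k = b) {b : AddMonoid.End M} (hb : b ∈ S) :
    ∃ k, ι k = b := by
  classical
  have : Finite (RingAut K) := Finite.of_injective (fun τ : RingAut K => (τ : K → K)) DFunLike.coe_injective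
  have : Fintype (RingAut K) := Fintype.ofFinite _
  obtain ⟨m, e, f, hef⟩ := exists_dual K
  have hef' : ∀ τ : RingAut K, ∑ i ∈ range m, e i * τ (f i) = if τ = 1 then 1 else 0 := fun τ => by
    rw [hef]
  have hL : ∀ a ∈ S, ∀ x ∈ S, ∀ c ∈ S, a * x * c + c * x * a ∈ S := fun a ha x hx c hc => by
    have := sub_mem (sub_mem (hU _ (add_mem ha hc) x hx) (hU a ha x hx)) (hU c hc x hx)
    convert this using 1
    simp only [add_mul, mul_add]
    abel
  suffices h : ∀ σ : RingAut K, σ ≠ 1 → proj ι m e f σ b = 0 by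
    refine hmax b hb fun k => ?_
    have hb' : b = proj ι m e f 1 b := by
      conv_lhs => rw [← sum_proj hef' (ι := ι) b]
      exact sum_eq_single 1 (fun σ _ hσ => h σ hσ) (fun h => absurd (mem_univ _) h)
    rw [hb']
    exact comm_proj hef' 1 k b
  intro σ hσ
  by_contra hu0
  set u := proj ι m e f σ b
  have hu : ∀ k, ι k * u = u * ι (σ k) := fun k => comm_proj hef' σ k b
  by_cases h2 : σ * σ = 1
  · have hinvσ : σ⁻¹ = σ := inv_eq_of_mul_eq_one_right h2
    have huS : u ∈ S := invol_mem hef' hU hL hι hb hinvσ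
    have huu : u * u ∈ S := by have := hU u huS 1 h1; rwa [mul_one] at this
    have hσσ : ∀ k, σ (σ k) = k := fun k => DFunLike.congr_fun h2 k
    obtain ⟨c, hc⟩ := hmax _ huu fun k => by
      rw [← mul_assoc, hu, mul_assoc, hu, hσσ, ← mul_assoc]
    have hunit : ∀ d : K, d ≠ 0 → IsUnit (ι d) := fun d hd => (IsUnit.mk0 d hd).map ι
    have hcσ : σ c = c := by
      refine sub_eq_zero.1 (by_contra fun h => hu0 ((hunit _ h).mul_left_eq_zero.1 ?_))
      rw [map_sub, mul_sub, ← hu, hc, mul_assoc, sub_self]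
    have : Fact (Nat.Prime 2) := ⟨Nat.prime_two⟩
    have ho : orderOf σ = 2 := orderOf_eq_prime (by rw [pow_two, h2]) hσ
    obtain ⟨μ, hμ⟩ := norm_fixed σ hcσ
    rw [ho, prod_range_succ, prod_range_succ, prod_range_zero, one_mul, pow_zero, pow_one] at hμ
    have hμ' : μ * σ μ = c := hμ
    have hprod : (u + ι μ) * (u - ι (σ μ)) = 0 := by
      rw [add_mul, mul_sub, mul_sub, ← hc, ← hμ', hu μ, map_mul]
      abel
    have hnot : ∀ d : K, u ≠ ι d := fun d hd => hσ (RingEquiv.ext fun k => by
      have h3 := hu k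
      rw [hd, ← map_mul, ← map_mul] at h3
      have : Nontrivial (AddMonoid.End M) := ⟨⟨u, 0, hu0⟩⟩
      have hd0 : d ≠ 0 := fun e => hu0 (by rw [hd, e, map_zero])
      exact mul_left_cancel₀ hd0 ((ι.injective h3).symm.trans (mul_comm k d)))
    have hne : u + ι μ ≠ 0 := fun h => hnot (-μ) (by rw [map_neg]; exact eq_neg_of_add_eq_zero_left h)
    exact hnot (σ μ) (sub_eq_zero.1 ((hinv _ (add_mem huS (hι μ)) hne).mul_right_eq_zero.1 hprod))
  · set v := proj ι m e f σ⁻¹ b
    have D : Conf S ι σ u v :=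
      { one := h1, unit := hinv, conj := hU, mem := hι, maximal := hmax, ne := h2, hu := hu,
        hv := fun k => comm_proj hef' σ⁻¹ k b, pair := pair_mem hef' hL hι hb σ, u0 := hu0 }
    obtain ⟨α, β, huv, hvu, hβ⟩ := D.products
    exact D.absurd_conf huv hvu hβ

end SpreadCore

/-- A spread set of a finite Moufang plane is a field. -/
theorem spread_comm (S : AddSubgroup (AddMonoid.End M)) (h1 : (1 : AddMonoid.End M) ∈ S)
    (hinv : ∀ A ∈ S, A ≠ 0 → IsUnit A)
    (hjord : ∀ A ∈ S, ∀ B ∈ S, ∀ B' : AddMonoid.End M, B * B' = 1 → A * B' * A ∈ S) :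
    ∀ A ∈ S, ∀ B ∈ S, A * B ∈ S ∧ A * B = B * A := by
  classical
  intro A hA B hB
  rcases subsingleton_or_nontrivial (AddMonoid.End M) with h | h
  · exact ⟨by rw [Subsingleton.elim (A * B) 1]; exact h1, Subsingleton.elim _ _⟩
  have hU : ∀ a ∈ S, ∀ x ∈ S, a * x * a ∈ S := by
    intro a ha x hx
    rcases eq_or_ne x 0 with rfl | hx0
    · rw [mul_zero, zero_mul]; exact S.zero_mem
    obtain ⟨x', hx'⟩ := (hinv x hx hx0).exists_right_inv
    have hx'S : x' ∈ S := by simpa using hjord 1 h1 x hx x' hx'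
    exact hjord a ha x' hx'S x (mul_eq_one_comm.1 hx')
  -- a maximal commutative subring
  let P : Subring (AddMonoid.End M) → Prop := fun R => (∀ a ∈ R, a ∈ S) ∧ ∀ a ∈ R, ∀ b ∈ R, a * b = b * a
  have hbot : P ⊥ := by
    constructor
    · intro a ha
      obtain ⟨n, rfl⟩ := Subring.mem_bot.1 ha
      rw [← zsmul_one n]
      exact S.zsmul_mem h1 n
    · intro a ha b hb
      obtain ⟨n, rfl⟩ := Subring.mem_bot.1 ha
      exact (Int.cast_commute n b).eq
  have : Finite (Subring (AddMonoid.End M)) := Finite.of_injective (fun R => (R : Set (AddMonoid.End M))) SetLike.coe_injective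
  obtain ⟨R, hR, hRmax⟩ := Set.Finite.exists_maximal (Set.toFinite {R | P R}) ⟨⊥, hbot⟩
  letI : CommRing R := { (inferInstance : Ring R) with mul_comm := fun a b => Subtype.ext (hR.2 a a.2 b b.2) }
  have hunitR : ∀ a : R, a ≠ 0 → IsUnit (a : AddMonoid.End M) := fun a ha =>
    hinv a (hR.1 a a.2) fun e => ha (Subtype.ext e)
  have : NoZeroDivisors R := ⟨fun {a b} h => by
    refine or_iff_not_imp_left.2 fun ha => Subtype.ext ?_
    exact (hunitR a ha).mul_right_eq_zero.1 (congrArg Subtype.val h)⟩
  have : Nontrivial R := ⟨⟨0, 1, fun e => zero_ne_one (congrArg Subtype.val e : (0 : AddMonoid.End M) = 1)⟩⟩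
  have : IsDomain R := NoZeroDivisors.to_isDomain R
  letI : Field R := (Finite.isField_of_domain R).toField
  have hmax : ∀ b ∈ S, (∀ k : R, R.subtype k * b = b * R.subtype k) → ∃ k : R, R.subtype k = b := by
    intro b hb hcomm
    -- products with the field stay in the set
    have hkc : ∀ (k : R) (c : AddMonoid.End M), c ∈ S → (∀ l : R, R.subtype l * c = c * R.subtype l) →
        R.subtype k * c ∈ S := by
      intro k c hc hcl
      by_cases h2 : ringChar R = 2
      · obtain ⟨r, rfl⟩ := FiniteField.isSquare_of_char_two h2 k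
        rw [map_mul, mul_assoc, hcl r, ← mul_assoc]
        exact hU _ (hR.1 _ r.2) c hc
      · have : NeZero (2 : R) := ⟨Ring.two_ne_zero h2⟩
        obtain ⟨r, rfl⟩ : ∃ r, k = r + r := ⟨k / 2, (add_halves k).symm⟩
        have := sub_mem (sub_mem (hU _ (add_mem (hR.1 _ r.2) hc) 1 h1) (hU _ (hR.1 _ r.2) 1 h1)) (hU c hc 1 h1)
        convert this using 1
        rw [map_add, add_mul]
        nth_rewrite 2 [hcl r]
        simp only [Subring.coe_subtype, mul_one, add_mul, mul_add]
        abel
    have hpow : ∀ n : ℕ, b ^ n ∈ S := by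
      intro n
      induction n using Nat.twoStepInduction with
      | zero => rw [pow_zero]; exact h1
      | one => rwa [pow_one]
      | more n ih _ =>
        have := hU b hb _ ih
        rwa [← pow_succ', ← pow_succ] at this
    let φ := Polynomial.eval₂RingHom' R.subtype b fun k => hcomm k
    have hφ : P φ.range := by
      constructor
      · rintro _ ⟨q, rfl⟩
        induction q using Polynomial.induction_on' with
        | add p q hp hq => rw [map_add]; exact add_mem hp hq
        | monomial n k =>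
          show Polynomial.eval₂ R.subtype b _ ∈ S
          rw [Polynomial.eval₂_monomial]
          exact hkc k _ (hpow n) fun l => ((show Commute (R.subtype l) b from hcomm l).pow_right n).eq
      · rintro _ ⟨q, rfl⟩ _ ⟨q', rfl⟩
        rw [← map_mul, mul_comm, map_mul]
    have hle : R ≤ φ.range := fun a ha => ⟨Polynomial.C ⟨a, ha⟩, Polynomial.eval₂_C _ _⟩
    exact ⟨⟨b, hRmax hφ hle ⟨Polynomial.X, Polynomial.eval₂_X _ _⟩⟩, rfl⟩
  obtain ⟨kA, hkA⟩ := range_eq S R.subtype h1 hinv hU (fun k => hR.1 k k.2) hmax hA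
  obtain ⟨kB, hkB⟩ := range_eq S R.subtype h1 hinv hU (fun k => hR.1 k k.2) hmax hB
  rw [← hkA, ← hkB, ← map_mul, ← map_mul]
  exact ⟨hR.1 _ (kA * kB).2, by rw [mul_comm]⟩

end Cfsg.Agent.ProjPlane
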