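import Mathlib
import Cfsg.Agent.ProjPlane.SpreadField

/-!
# A spread with shears is Desarguesian

A family of subgroups of a group of order `n ^ 2`, each of order `n`, pairwise meeting trivially and with
shears along each of them, consists of the lines through the origin of a plane over a field of order `n`.
-/

set_option autoImplicit false
set_option linter.unusedSectionVars false

open scoped Classical

namespace Cfsg.Agent.ProjPlane

/-- The shears with axis `Dir E` permute a spread and are transitive on the other members. -/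
def HasShears {V ι : Type*} [AddCommGroup V] (Dir : ι → AddSubgroup V) : Prop :=
  ∀ E D D' : ι, D ≠ E → D' ≠ E → ∃ φ : V →+ V, Function.Injective φ ∧
    (∀ v ∈ Dir E, φ v = v) ∧ (∀ v, φ v - v ∈ Dir E) ∧ (∀ v ∈ Dir D, φ v ∈ Dir D') ∧
    ∀ X, ∃ Y, ∀ v ∈ Dir X, φ v ∈ Dir Y

section

variable {ι M : Type*} [AddCommGroup M] [Finite M] [Nontrivial M]

/-- The spread set of a spread of `M × M` with shears is a field. -/
theorem spread_mul (Dir : ι → AddSubgroup (M × M)) (A : ι → AddMonoid.End M) (i0 i1 i2 : ι)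
    (h0 : i0 ≠ i1) (h2 : i2 ≠ i1) (hA0 : A i0 = 0) (hA2 : A i2 = 1)
    (hd1 : ∀ v : M × M, v ∈ Dir i1 ↔ v.1 = 0)
    (hdir : ∀ i, i ≠ i1 → ∀ v : M × M, v ∈ Dir i ↔ v.2 = A i v.1)
    (hinj : ∀ i, i ≠ i1 → ∀ j, j ≠ i1 → i ≠ j → Function.Injective ⇑(A i - A j))
    (hsh : HasShears Dir) :
    ∃ S : AddSubgroup (AddMonoid.End M), (∀ a, a ∈ S ↔ ∃ i, i ≠ i1 ∧ A i = a) ∧ 1 ∈ S ∧
      (∀ a ∈ S, a ≠ 0 → IsUnit a) ∧ ∀ a ∈ S, ∀ b ∈ S, a * b ∈ S ∧ a * b = b * a := by
  haveI : Nontrivial (AddMonoid.End M) := ⟨⟨0, 1, fun h => by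
    obtain ⟨x, hx⟩ := exists_ne (0 : M)
    exact hx (DFunLike.congr_fun h x).symm⟩⟩
  set T : Set (AddMonoid.End M) := {a | ∃ i, i ≠ i1 ∧ A i = a} with hT
  have T0 : (0 : AddMonoid.End M) ∈ T := ⟨i0, h0, hA0⟩
  have hneA : ∀ i, i ≠ i1 → i ≠ i0 → Function.Injective ⇑(A i) := fun i hi hi0 => by
    have := hinj i hi i0 h0 hi0
    rwa [hA0, sub_zero] at this
  have hadd : ∀ a ∈ T, ∀ b ∈ T, a + b ∈ T := by
    rintro _ ⟨i, hi, rfl⟩ _ ⟨j, hj, rfl⟩
    obtain ⟨φ, -, hfix, hsub, hmap, hperm⟩ := hsh i1 i0 i h0 hi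
    have hφ : ∀ x y : M, φ (x, y) = (x, A i x + y) := by
      intro x y
      have e : ((x, y) : M × M) = (x, 0) + (0, y) := by simp
      rw [e, map_add, hfix (0, y) ((hd1 _).2 rfl)]
      have h1 := (hd1 _).1 (hsub (x, 0))
      have h2 := (hdir i hi _).1 (hmap (x, 0) ((hdir i0 h0 _).2 (by simp [hA0])))
      rw [Prod.fst_sub, sub_eq_zero] at h1
      rw [h1] at h2
      rw [show φ (x, 0) = (x, A i x) from Prod.ext h1 h2]
      simp
    obtain ⟨k, hk⟩ := hperm j
    have hkey : ∀ x, (x, A i x + A j x) ∈ Dir k := fun x => by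
      rw [← hφ]; exact hk _ ((hdir j hj _).2 rfl)
    have hk1 : k ≠ i1 := by
      rintro rfl
      obtain ⟨x, hx⟩ := exists_ne (0 : M)
      exact hx ((hd1 _).1 (hkey x))
    exact ⟨k, hk1, AddMonoidHom.ext fun x => ((hdir k hk1 _).1 (hkey x)).symm⟩
  have hneg : ∀ a ∈ T, -a ∈ T := by
    intro a ha
    have hn : ∀ m : ℕ, m • a ∈ T := fun m => by
      induction m with
      | zero => rw [zero_smul]; exact T0
      | succ m ih => rw [succ_nsmul]; exact hadd _ ih _ ha
    haveI : Finite (AddMonoid.End M) :=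
      Finite.of_injective (fun f : AddMonoid.End M => (f : M → M)) DFunLike.coe_injective
    have hord : addOrderOf a • a = 0 := addOrderOf_nsmul_eq_zero a
    have h1 : (addOrderOf a - 1) • a = -a := by
      rw [eq_neg_iff_add_eq_zero, ← succ_nsmul]
      rwa [Nat.sub_add_cancel (addOrderOf_pos a)]
    rw [← h1]; exact hn _
  let S : AddSubgroup (AddMonoid.End M) :=
    { carrier := T
      zero_mem' := T0
      add_mem' := fun {a b} ha hb => hadd a ha b hb
      neg_mem' := fun {a} ha => hneg a ha }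
  have h1 : (1 : AddMonoid.End M) ∈ S := ⟨i2, h2, hA2⟩
  have hidx : ∀ a ∈ S, a ≠ 0 → ∃ i, i ≠ i1 ∧ i ≠ i0 ∧ A i = a := by
    rintro _ ⟨i, hi, rfl⟩ hne
    exact ⟨i, hi, fun e => hne (e ▸ hA0), rfl⟩
  have hinv : ∀ a ∈ S, a ≠ 0 → IsUnit a := by
    intro a ha hne
    obtain ⟨i, hi, hi0, rfl⟩ := hidx a ha hne
    have hb : Function.Bijective ⇑(A i) := Finite.injective_iff_bijective.1 (hneA i hi hi0)
    let E := AddEquiv.ofBijective (A i) hb
    exact ⟨⟨A i, E.symm.toAddMonoidHom, AddMonoidHom.ext fun x => E.apply_symm_apply x,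
      AddMonoidHom.ext fun x => E.symm_apply_apply x⟩, rfl⟩
  -- shears with the other axis
  have hpar : ∀ x ∈ S, ∀ y ∈ S, x ≠ 0 → x + y ≠ 0 → ∀ x' z' : AddMonoid.End M, x' * x = 1 →
      z' * (x + y) = 1 → y * z' * x ∈ S := by
    intro x hx y hy hx0 hxy x' z' hx' hz'
    obtain ⟨i, hi, hi0, rfl⟩ := hidx x hx hx0
    obtain ⟨j, hj, rfl⟩ := hy
    obtain ⟨φ, -, hfix, hsub, hmap, hperm⟩ := hsh i0 i1 i h0.symm hi0
    have hx'' : ∀ m, x' (A i m) = m := fun m => DFunLike.congr_fun hx' m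
    have hφ : ∀ a b : M, φ (a, b) = (a + x' b, b) := by
      intro a b
      have e : ((a, b) : M × M) = (a, 0) + (0, b) := by simp
      rw [e, map_add, hfix (a, 0) ((hdir i0 h0 _).2 (by simp [hA0]))]
      have h1 := (hdir i0 h0 _).1 (hsub (0, b))
      rw [hA0, AddMonoid.End.zero_apply, Prod.snd_sub, sub_eq_zero] at h1
      have h2 := (hdir i hi _).1 (hmap (0, b) ((hd1 _).2 rfl))
      rw [h1] at h2
      have h3 : (φ (0, b)).1 = x' b := by
        conv_rhs => rw [show b = A i (φ (0, b)).1 from h2]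
        rw [hx'']
      rw [show φ (0, b) = (x' b, b) from Prod.ext h3 h1]
      simp
    obtain ⟨k, hk⟩ := hperm j
    have hkey : ∀ a, (a + x' (A j a), A j a) ∈ Dir k := fun a => by
      rw [← hφ]; exact hk _ ((hdir j hj _).2 rfl)
    have hz : ∀ m, z' (A i m + A j m) = m := fun m => DFunLike.congr_fun hz' m
    have hsum : ∀ a, A i (a + x' (A j a)) = A i a + A j a := fun a => by
      have hbij : Function.Bijective ⇑(A i) := Finite.injective_iff_bijective.1 (hneA i hi hi0)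
      obtain ⟨c, hc⟩ := hbij.2 (A j a)
      rw [map_add, ← hc, hx'']
    have hinvz : ∀ a, z' (A i (a + x' (A j a))) = a := fun a => by rw [hsum, hz]
    have hsurj : Function.Surjective fun a : M => a + x' (A j a) := by
      refine Finite.surjective_of_injective fun a b e => ?_
      have e1 := hinvz a
      rw [show a + x' (A j a) = b + x' (A j b) from e, hinvz] at e1
      exact e1.symm
    have hk1 : k ≠ i1 := by
      rintro rfl
      obtain ⟨c, hc⟩ := exists_ne (0 : M)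
      obtain ⟨a, ha⟩ := hsurj c
      exact hc (ha ▸ (hd1 _).1 (hkey a))
    refine ⟨k, hk1, AddMonoidHom.ext fun c => ?_⟩
    obtain ⟨a, rfl⟩ := hsurj c
    show A k (a + x' (A j a)) = A j (z' (A i (a + x' (A j a))))
    rw [hinvz]
    exact ((hdir k hk1 _).1 (hkey a)).symm
  refine ⟨S, fun a => Iff.rfl, h1, hinv, spread_comm S h1 hinv ?_⟩
  intro a ha b hb b' hbb
  by_cases ha0 : a = 0
  · simp [ha0, S.zero_mem]
  by_cases hab : a = b
  · subst hab; rw [hbb, one_mul]; exact ha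
  have hb0 : b ≠ 0 := fun e => by
    obtain ⟨x, hx⟩ := exists_ne (0 : M)
    rw [e, zero_mul] at hbb
    exact hx (DFunLike.congr_fun hbb x).symm
  obtain ⟨u, rfl⟩ := hinv b hb hb0
  have hb' : b' = ↑u⁻¹ := by rw [← one_mul b', ← Units.inv_mul u, mul_assoc, hbb, mul_one]
  obtain ⟨w, hw⟩ := hinv a ha ha0
  have key := hpar a ha (↑u - a) (S.sub_mem hb ha) ha0 (by rw [add_sub_cancel]; exact u.ne_zero)
    ↑w⁻¹ b' (by rw [← hw, Units.inv_mul]) (by rw [add_sub_cancel, hb', Units.inv_mul])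
  have e : (↑u - a) * b' * a = a - a * b' * a := by
    rw [sub_mul, sub_mul, hb', Units.mul_inv, one_mul]
  rw [e] at key
  have := S.sub_mem ha key
  rwa [sub_sub_cancel] at this

end

/-- **A spread with shears is the pencil of lines of a plane over a field.** -/
theorem exists_field {V ι : Type} [AddCommGroup V] [Finite V] [Finite ι] (Dir : ι → AddSubgroup V)
    (n : ℕ) (hn : 2 ≤ n) (hι : Nat.card ι = n + 1) (hV : Nat.card V = n ^ 2)
    (hcard : ∀ i, Nat.card (Dir i) = n) (hinf : ∀ i j, i ≠ j → Dir i ⊓ Dir j = ⊥)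
    (hsh : HasShears Dir) (i1 : ι) :
    ∃ (F : Type) (_ : Field F) (_ : Finite F) (π : V ≃+ F × F) (s : ι → F), Nat.card F = n ∧
      (∀ v, v ∈ Dir i1 ↔ (π v).1 = 0) ∧
      (∀ i, i ≠ i1 → ∀ v, v ∈ Dir i ↔ (π v).2 = s i * (π v).1) ∧
      ∀ i, i ≠ i1 → ∀ j, j ≠ i1 → s i = s j → i = j := by
  cases nonempty_fintype ι
  obtain ⟨i0, h0, i2, h2, h20⟩ : ∃ i0, i0 ≠ i1 ∧ ∃ i2, i2 ≠ i1 ∧ i2 ≠ i0 := by
    have h : 1 < (Finset.univ.erase i1).card := by
      rw [Finset.card_erase_of_mem (Finset.mem_univ _), Finset.card_univ,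
        ← Nat.card_eq_fintype_card, hι]
      omega
    obtain ⟨a, b, ha, hb, hab⟩ := Finset.one_lt_card_iff.1 h
    exact ⟨a, Finset.ne_of_mem_erase ha, b, Finset.ne_of_mem_erase hb, hab.symm⟩
  have hz : ∀ {i j : ι}, i ≠ j → ∀ {v : V}, v ∈ Dir i → v ∈ Dir j → v = 0 := by
    intro i j h v hi hj
    have hv : v ∈ Dir i ⊓ Dir j := ⟨hi, hj⟩
    rwa [hinf i j h, AddSubgroup.mem_bot] at hv
  -- a complement pair and the identification of the two
  let cp : Dir i0 × Dir i1 →+ V := (Dir i0).subtype.coprod (Dir i1).subtype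
  have hcp : Function.Bijective cp := by
    refine (Nat.bijective_iff_injective_and_card cp).2 ⟨?_, by rw [Nat.card_prod, hcard, hcard, hV, sq]⟩
    rw [injective_iff_map_eq_zero]
    rintro ⟨a, b⟩ h
    have h' : (a : V) + b = 0 := h
    have ha : (a : V) = 0 := hz h0 a.2 (by
      rw [eq_neg_of_add_eq_zero_left h']; exact neg_mem b.2)
    rw [ha, zero_add] at h'
    exact Prod.ext (Subtype.ext ha) (Subtype.ext h')
  let c : V ≃+ Dir i0 × Dir i1 := (AddEquiv.ofBijective cp hcp).symm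
  have hc : ∀ v, ((c v).1 : V) + (c v).2 = v := fun v => (AddEquiv.ofBijective cp hcp).apply_symm_apply v
  have hsymm : ∀ x : Dir i0 × Dir i1, c.symm x = (x.1 : V) + x.2 := fun x => rfl
  have hfst : ∀ v, v ∈ Dir i1 ↔ (c v).1 = 0 := fun v => by
    refine ⟨fun hv => Subtype.ext (hz h0 (c v).1.2 ?_), fun h => ?_⟩
    · rw [eq_sub_of_add_eq (hc v)]; exact sub_mem hv (c v).2.2
    · rw [← hc v, h]; simp
  -- the graph maps
  have hgraph : ∀ i, i ≠ i1 → ∃ f : Dir i0 →+ Dir i1, ∀ v, v ∈ Dir i ↔ (c v).2 = f (c v).1 := by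
    intro i hi
    let pr : Dir i →+ Dir i0 :=
      (AddMonoidHom.fst (Dir i0) (Dir i1)).comp (c.toAddMonoidHom.comp (Dir i).subtype)
    have hpr : Function.Bijective pr := by
      refine (Nat.bijective_iff_injective_and_card pr).2 ⟨?_, by rw [hcard, hcard]⟩
      rw [injective_iff_map_eq_zero]
      exact fun x hx => Subtype.ext (hz hi x.2 ((hfst _).2 hx))
    refine ⟨((AddMonoidHom.snd (Dir i0) (Dir i1)).comp (c.toAddMonoidHom.comp (Dir i).subtype)).comp
      (AddEquiv.ofBijective pr hpr).symm.toAddMonoidHom, fun v => ⟨fun hv => ?_, fun h => ?_⟩⟩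
    · have e : (AddEquiv.ofBijective pr hpr).symm (c v).1 = ⟨v, hv⟩ :=
        (AddEquiv.ofBijective pr hpr).symm_apply_eq.2 rfl
      show (c v).2 = (c ((AddEquiv.ofBijective pr hpr).symm (c v).1 : V)).2
      rw [e]
    · set w := (AddEquiv.ofBijective pr hpr).symm (c v).1 with hw
      have h1 : (c (w : V)).1 = (c v).1 := (AddEquiv.ofBijective pr hpr).apply_symm_apply _
      have h2 : (c (w : V)).2 = (c v).2 := h.symm
      rw [← c.injective (Prod.ext h1 h2)]
      exact w.2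
  choose f hf using hgraph
  have he : Function.Bijective (f i2 h2) := by
    refine (Nat.bijective_iff_injective_and_card _).2 ⟨?_, by rw [hcard, hcard]⟩
    rw [injective_iff_map_eq_zero]
    intro a ha
    have hca : c (a : V) = (a, 0) := c.eq_symm_apply.mp (by rw [hsymm]; simp)
    exact Subtype.ext (hz h20.symm a.2 ((hf i2 h2 _).2 (by rw [hca]; exact ha.symm)))
  let e : Dir i0 ≃+ Dir i1 := AddEquiv.ofBijective (f i2 h2) he
  let ε : V ≃+ Dir i0 × Dir i0 := c.trans ((AddEquiv.refl _).prodCongr e.symm)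
  have hε : ∀ v, ε v = ((c v).1, e.symm (c v).2) := fun v => rfl
  let A : ι → AddMonoid.End (Dir i0) := fun i =>
    if h : i = i1 then 0 else e.symm.toAddMonoidHom.comp (f i h)
  have hA : ∀ i, i ≠ i1 → ∀ v, v ∈ Dir i ↔ (ε v).2 = A i (ε v).1 := fun i hi v => by
    rw [hf i hi, hε, show A i = e.symm.toAddMonoidHom.comp (f i hi) from dif_neg hi]
    exact e.symm.injective.eq_iff.symm
  let Dir' : ι → AddSubgroup ((Dir i0) × (Dir i0)) := fun i => (Dir i).map ε.toAddMonoidHom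
  have hmem : ∀ i w, w ∈ Dir' i ↔ ε.symm w ∈ Dir i := fun i w =>
    ⟨fun ⟨v, hv, hvw⟩ => by rw [← hvw]; simpa using hv, fun h => ⟨_, h, by simp⟩⟩
  haveI : Nontrivial (Dir i0) := by
    rw [← Finite.one_lt_card_iff_nontrivial, hcard]; omega
  have hd1 : ∀ w : (Dir i0) × (Dir i0), w ∈ Dir' i1 ↔ w.1 = 0 := fun w => by
    rw [hmem, hfst]
    conv_rhs => rw [← ε.apply_symm_apply w]
    rw [hε]
  have hdir : ∀ i, i ≠ i1 → ∀ w : (Dir i0) × (Dir i0), w ∈ Dir' i ↔ w.2 = A i w.1 := fun i hi w => by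
    rw [hmem, hA i hi, ε.apply_symm_apply]
  have hA0 : A i0 = 0 := AddMonoidHom.ext fun a => by
    have hca : c (a : V) = (a, 0) := c.eq_symm_apply.mp (by rw [hsymm]; simp)
    have := (hA i0 h0 _).1 a.2
    rw [hε, hca, map_zero] at this
    exact this.symm
  have hA2 : A i2 = 1 := AddMonoidHom.ext fun a => by
    show A i2 a = a
    rw [show A i2 = e.symm.toAddMonoidHom.comp (f i2 h2) from dif_neg h2]
    exact e.symm_apply_apply a
  have hinj : ∀ i, i ≠ i1 → ∀ j, j ≠ i1 → i ≠ j → Function.Injective ⇑(A i - A j) := by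
    intro i hi j hj hij
    rw [injective_iff_map_eq_zero]
    intro a ha
    have ha' : A i a = A j a := sub_eq_zero.1 ha
    have h1 := (hmem i (a, A i a)).1 ((hdir i hi _).2 rfl)
    have h2 := (hmem j (a, A i a)).1 ((hdir j hj _).2 ha')
    have h3 := congrArg Prod.fst (ε.symm.map_eq_zero_iff.1 (hz hij h1 h2))
    exact h3
  have hsh' : HasShears Dir' := by
    intro E D D' hD hD'
    obtain ⟨φ, hφ, h1, h2, h3, h4⟩ := hsh E D D' hD hD'
    refine ⟨ε.toAddMonoidHom.comp (φ.comp ε.symm.toAddMonoidHom),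
      ε.injective.comp (hφ.comp ε.symm.injective), fun w hw => ?_, fun w => ?_, fun w hw => ?_,
      fun X => ?_⟩
    · show ε (φ (ε.symm w)) = w
      rw [h1 _ ((hmem E w).1 hw), ε.apply_symm_apply]
    · rw [hmem, map_sub]
      show ε.symm (ε (φ (ε.symm w))) - ε.symm w ∈ Dir E
      rw [ε.symm_apply_apply]; exact h2 _
    · exact ⟨_, h3 _ ((hmem D w).1 hw), rfl⟩
    · obtain ⟨Y, hY⟩ := h4 X
      exact ⟨Y, fun w hw => ⟨_, hY _ ((hmem X w).1 hw), rfl⟩⟩
  obtain ⟨S, hS, h1S, hunit, hmul⟩ := spread_mul Dir' A i0 i1 i2 h0 h2 hA0 hA2 hd1 hdir hinj hsh'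
  let R : Subring (AddMonoid.End (Dir i0)) :=
    { S with
      one_mem' := h1S
      mul_mem' := fun {a b} ha hb => (hmul a ha b hb).1 }
  haveI : Finite (AddMonoid.End (Dir i0)) :=
    Finite.of_injective (fun g : AddMonoid.End (Dir i0) => (g : (Dir i0) → (Dir i0))) DFunLike.coe_injective
  letI : CommRing R := { R.toRing with mul_comm := fun a b => Subtype.ext (hmul a.1 a.2 b.1 b.2).2 }
  haveI : Nontrivial R := ⟨⟨0, 1, fun h => by
    obtain ⟨x, hx⟩ := exists_ne (0 : (Dir i0))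
    exact hx (DFunLike.congr_fun (congrArg Subtype.val h) x).symm⟩⟩
  haveI : NoZeroDivisors R := ⟨fun {a b} h => by
    by_contra hcon
    push Not at hcon
    obtain ⟨u, hu⟩ := hunit a.1 a.2 (fun h' => hcon.1 (Subtype.ext h'))
    refine hcon.2 (Subtype.ext ?_)
    have : (u : AddMonoid.End (Dir i0)) * b.1 = 0 := by rw [hu]; exact congrArg Subtype.val h
    simpa using this⟩
  haveI : IsDomain R := NoZeroDivisors.to_isDomain R
  letI : Field R := (Finite.isField_of_domain R).toField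
  obtain ⟨v0, hv0⟩ := exists_ne (0 : (Dir i0))
  let ev : R →+ (Dir i0) :=
    { toFun := fun a => a.1 v0
      map_zero' := rfl
      map_add' := fun a b => rfl }
  have hinjA : ∀ i, i ≠ i1 → ∀ j, j ≠ i1 → A i = A j → i = j := fun i hi j hj h => by
    by_contra hij
    have := hinj i hi j hj hij
    rw [h, sub_self] at this
    exact hv0 (this (by simp : (0 : AddMonoid.End (Dir i0)) v0 = (0 : AddMonoid.End (Dir i0)) 0))
  have hRcard : Nat.card R = n := by
    have h : Nat.card {i // i ≠ i1} = n := by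
      rw [Nat.card_eq_fintype_card, Fintype.card_subtype_compl, Fintype.card_subtype_eq,
        ← Nat.card_eq_fintype_card, hι]
      rfl
    rw [← h]
    refine (Nat.card_eq_of_bijective
      (fun i : {i // i ≠ i1} => (⟨A i.1, (hS _).2 ⟨i.1, i.2, rfl⟩⟩ : R)) ⟨?_, ?_⟩).symm
    · intro i j h
      exact Subtype.ext (hinjA i.1 i.2 j.1 j.2 (congrArg Subtype.val h))
    · intro a
      obtain ⟨i, hi, hia⟩ := (hS a.1).1 a.2
      exact ⟨⟨i, hi⟩, Subtype.ext hia⟩
  have hev : Function.Bijective ev := by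
    refine (Nat.bijective_iff_injective_and_card ev).2 ⟨?_, by rw [hRcard, hcard]⟩
    rw [injective_iff_map_eq_zero]
    intro a ha
    by_contra h
    obtain ⟨u, hu⟩ := hunit a.1 a.2 (fun h' => h (Subtype.ext h'))
    refine hv0 ?_
    have h1 : (↑u : AddMonoid.End (Dir i0)) v0 = 0 := by rw [hu]; exact ha
    have h2 := congrArg (↑u⁻¹ : AddMonoid.End (Dir i0)) h1
    rw [map_zero] at h2
    exact (DFunLike.congr_fun (Units.inv_mul u) v0).symm.trans h2
  let σ : R ≃+ (Dir i0) := AddEquiv.ofBijective ev hev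
  refine ⟨R, inferInstance, inferInstance, ε.trans (σ.symm.prodCongr σ.symm),
    fun i => if h : i = i1 then 0 else ⟨A i, (hS _).2 ⟨i, h, rfl⟩⟩, hRcard,
    fun v => ?_, fun i hi v => ?_, fun i hi j hj h => ?_⟩
  · show v ∈ Dir i1 ↔ σ.symm (ε v).1 = 0
    rw [σ.symm.map_eq_zero_iff, hfst, hε]
  · simp only [dif_neg hi]
    rw [hA i hi]
    show (ε v).2 = A i (ε v).1 ↔ σ.symm (ε v).2 = ⟨A i, _⟩ * σ.symm (ε v).1
    rw [σ.symm_apply_eq]
    have : σ ((⟨A i, (hS _).2 ⟨i, hi, rfl⟩⟩ : R) * σ.symm (ε v).1) = A i (ε v).1 := by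
      conv_rhs => rw [← σ.apply_symm_apply (ε v).1]
      rfl
    rw [this]
  · simp only [dif_neg hi, dif_neg hj] at h
    exact hinjA i hi j hj (congrArg Subtype.val h)

end Cfsg.Agent.ProjPlane
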