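import Cfsg.Agent.ProjPlane.Elations

/-!
# Planes with full translation groups

If every line is the axis of a full elation group, the translations of a line form a spread with shears.
-/

set_option autoImplicit false
set_option linter.unusedSectionVars false

open scoped Classical

namespace Cfsg.Agent.ProjPlane

open Configuration

variable {G P L : Type*} [Group G] [Membership P L] [MulAction G P] [MulAction G L]
  [IsColl G P L] [ProjectivePlane P L] [Finite P] [Finite L] [Finite G] [FaithfulSMul G P]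

/-- An elation moves a point along its line to the centre. -/
theorem dir_move {g : G} {D x : P} {l : L} (hg : g ∈ elatC G P D l) (hD : D ∈ l) (hx : x ∉ l) :
    g • x ∈ ln L D x := by
  have hDx : D ≠ x := fun e => hx (e ▸ hD)
  rw [← hg.2 _ (left_ln hDx)]
  exact smul_mem g (right_ln hDx)

/-- An elation with its image on the line to `D` has centre `D`. -/
theorem mem_dir {g : G} {D x : P} {l : L} (hg : g ∈ elat G P l) (hD : D ∈ l) (hx : x ∉ l)
    (hgx : g • x ∈ ln L D x) : g ∈ elatC G P D l := by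
  by_cases hg1 : g = 1
  · rw [hg1]; exact one_mem _
  obtain ⟨e, he, hp⟩ := exists_persp_of_elat hg hg1
  have hne : g • x ≠ x := fun h => hg1 (hg.2 x hx h)
  have hDx : D ≠ x := fun e' => hx (e' ▸ hD)
  have h1 := dir_move (mem_elatC_of_persp hp he) he hx
  have hex : e ≠ x := fun e' => hx (e' ▸ he)
  have hl : ln L e x = ln L D x := eq_of_two hne h1 (right_ln hex) hgx (right_ln hDx)
  have : e = D := eq_of_two' (fun h : ln L D x = l => hx (h ▸ right_ln hDx))
    (hl ▸ left_ln hex) (left_ln hDx) he hD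
  exact this ▸ mem_elatC_of_persp hp he

/-- A full elation group is regular off the axis. -/
theorem full_trans {l : L} (hF : Full G P l) {x y : P} (hx : x ∉ l) (hy : y ∉ l) :
    ∃ g ∈ elat G P l, g • x = y := by
  have hinj : Function.Injective fun t : elat G P l => t • (⟨x, hx⟩ : {z : P // z ∉ l}) := by
    intro a b e
    have e' : (a : G) • x = (b : G) • x := congrArg Subtype.val e
    refine Subtype.ext (inv_mul_eq_one.1 ((mul_mem (inv_mem b.2) a.2).2 x hx ?_)).symm
    rw [mul_smul, e', inv_smul_smul]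
  have hbij := (Nat.bijective_iff_injective_and_card _).2
    ⟨hinj, by rw [hF.card_eq, card_off]⟩
  obtain ⟨t, ht⟩ := hbij.2 ⟨y, hy⟩
  exact ⟨t, t.2, congrArg Subtype.val ht⟩

theorem full_eq {l : L} {a b : G} (ha : a ∈ elat G P l) (hb : b ∈ elat G P l) {x : P}
    (hx : x ∉ l) (h : a • x = b • x) : a = b := by
  refine (inv_mul_eq_one.1 ((mul_mem (inv_mem hb) ha).2 x hx ?_)).symm
  rw [mul_smul, h, inv_smul_smul]

/-- Transitivity along a line through the centre. -/
theorem dir_trans {l : L} (hF : Full G P l) {D x y : P} (hD : D ∈ l) (hx : x ∉ l) (hy : y ∉ l)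
    (hyx : y ∈ ln L D x) : ∃ g ∈ elatC G P D l, g • x = y := by
  obtain ⟨g, hg, hgx⟩ := full_trans hF hx hy
  exact ⟨g, mem_dir hg hD hx (hgx ▸ hyx), hgx⟩

theorem card_dir {l : L} (hF : Full G P l) {D : P} (hD : D ∈ l) :
    Nat.card (elatC G P D l) = ord P L := by
  obtain ⟨x, hx⟩ := Nondegenerate.exists_point (P := P) l
  have hDx : D ≠ x := fun e => hx (e ▸ hD)
  have hne : ln L D x ≠ l := fun e => hx (e ▸ right_ln hDx)
  have hset : Nat.card {y : P // y ∈ ln L D x ∧ y ≠ D} = ord P L := by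
    cases nonempty_fintype P
    have h1 := card_on (P := P) (ln L D x)
    rw [Nat.card_eq_fintype_card, Fintype.card_subtype] at h1
    rw [Nat.card_eq_fintype_card, Fintype.card_subtype]
    have h2 := Finset.card_erase_add_one (s := Finset.univ.filter fun y : P => y ∈ ln L D x) (a := D)
      (by simp [left_ln hDx])
    have h3 : (Finset.univ.filter fun y : P => y ∈ ln L D x ∧ y ≠ D) =
        (Finset.univ.filter fun y : P => y ∈ ln L D x).erase D := by ext y; simp [and_comm]
    rw [h3]; omega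
  rw [← hset]
  refine Nat.card_eq_of_bijective (fun g : elatC G P D l =>
    (⟨(g : G) • x, dir_move g.2 hD hx, fun e => hx ?_⟩ : {y : P // y ∈ ln L D x ∧ y ≠ D})) ⟨?_, ?_⟩
  · have h1 : (g : G) • D = D := g.2.1.1 D hD
    rw [MulAction.injective (g : G) (e.trans h1.symm)]; exact hD
  · intro a b h
    exact Subtype.ext (full_eq a.2.1 b.2.1 hx (congrArg Subtype.val h))
  · rintro ⟨y, hy, hyD⟩
    obtain ⟨g, hg, hgx⟩ := dir_trans hF hD hx
      (fun h => hyD (eq_of_two' hne hy (left_ln hDx) h hD)) hy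
    exact ⟨⟨g, hg⟩, Subtype.ext hgx⟩

theorem elat_conj_fix {s t : G} {l : L} (hs : s • l = l) (ht : t ∈ elat G P l) :
    s * t * s⁻¹ ∈ elat G P l := by
  by_cases h1 : t = 1
  · rw [h1, mul_one, mul_inv_cancel]; exact one_mem _
  obtain ⟨c, hc, hp⟩ := exists_persp_of_elat ht h1
  exact mem_elat_iff.2 (Or.inr ⟨s • c, hs ▸ smul_mem s hc, hs ▸ hp.conj s⟩)

/-- **The translations of a line form a spread with shears.** -/
theorem exists_shear {l : L} (hF : ∀ m : L, Full G P m) (hab : ∀ a ∈ elat G P l, ∀ b ∈ elat G P l,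
    a * b = b * a) {O : P} (hO : O ∉ l) {E D D' : P} (hE : E ∈ l) (hD : D ∈ l) (hD' : D' ∈ l)
    (hDE : D ≠ E) (hDE' : D' ≠ E) :
    ∃ s : G, s • l = l ∧ s • O = O ∧ s • D = D' ∧ (∀ t ∈ elatC G P E l, s * t * s⁻¹ = t) ∧
      ∀ t ∈ elat G P l, s * t * s⁻¹ * t⁻¹ ∈ elatC G P E l := by
  set j := ln L O E with hj
  have hOE : O ≠ E := fun e => hO (e ▸ hE)
  have hjl : j ≠ l := fun e => hO (e ▸ left_ln hOE)
  have hEj : E ∈ j := right_ln hOE
  have hoff : ∀ {z : P}, z ∈ l → z ≠ E → z ∉ j := fun hz hne h =>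
    hne (eq_of_two' hjl h hEj hz hE)
  obtain ⟨s, hs, hsD⟩ := dir_trans (hF j) hEj (hoff hD hDE) (hoff hD' hDE')
    (by rw [← eq_ln hDE.symm hE hD]; exact hD')
  have hsl : s • l = l := hs.2 l hE
  have hsO : s • O = O := hs.1.1 O (left_ln hOE)
  have hsi : s⁻¹ • O = O := by rw [inv_smul_eq_iff, hsO]
  refine ⟨s, hsl, hsO, hsD, fun t ht => ?_, fun t ht => ?_⟩
  · refine full_eq (elat_conj_fix hsl ht.1) ht.1 hO ?_
    rw [mul_smul, mul_smul, hsi]
    have htO : t • O ∈ j := by
      have := dir_move ht hE hO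
      rwa [← eq_ln hOE.symm hEj (left_ln hOE)] at this
    exact hs.1.1 _ htO
  · have hT := mul_mem (elat_conj_fix hsl ht) (inv_mem ht)
    rw [hab _ (elat_conj_fix hsl ht) _ (inv_mem ht)] at hT ⊢
    refine mem_dir hT hE hO ?_
    rw [mul_smul, mul_smul, mul_smul, hsi]
    have hy : t • O ∉ l := fun h => hO (MulAction.injective t ((ht.1 _ h)) ▸ h)
    have hEy : E ≠ t • O := fun e => hy (e ▸ hE)
    have h1 : s • t • O ∈ ln L E (t • O) := by
      rw [← hs.2 _ (left_ln hEy)]; exact smul_mem s (right_ln hEy)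
    have h2 := smul_mem t⁻¹ h1
    have hEfix : t⁻¹ • E = E := by rw [inv_smul_eq_iff, ht.1 E hE]
    rwa [smul_ln _ hEy, hEfix, inv_smul_smul] at h2

end Cfsg.Agent.ProjPlane
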