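import Cfsg.Agent.ProjPlane.Order
import Cfsg.Agent.ProjPlane.Translation
import Cfsg.Agent.ProjPlane.SpreadCoord

/-!
# Ostrom–Wagner

A finite plane with a doubly transitive collineation group is Desarguesian.
-/

set_option autoImplicit false
set_option linter.unusedSectionVars false

open scoped Classical

namespace Cfsg.Agent.ProjPlane

open Configuration

variable {G P L : Type} [Group G] [Membership P L] [MulAction G P] [MulAction G L]
  [IsColl G P L] [ProjectivePlane P L] [Finite G] [Finite P] [Finite L] [FaithfulSMul G P]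

/-- The linear form with given coefficients. -/
def form {F : Type} [Field F] (a b c : F) : (Fin 3 → F) →ₗ[F] F :=
  a • LinearMap.proj 0 + b • LinearMap.proj 1 + c • LinearMap.proj 2

theorem form_apply {F : Type} [Field F] (a b c : F) (v : Fin 3 → F) :
    form a b c v = a * v 0 + b * v 1 + c * v 2 := by simp [form]

theorem finrank_ker_eq_two {F : Type} [Field F] {f : (Fin 3 → F) →ₗ[F] F} (hf : f ≠ 0) :
    Module.finrank F (LinearMap.ker f) = 2 := by
  have hr : LinearMap.range f = ⊤ := by
    rw [LinearMap.range_eq_top]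
    obtain ⟨v, hv⟩ : ∃ v, f v ≠ 0 := by
      by_contra h
      push Not at h
      exact hf (LinearMap.ext h)
    exact fun c => ⟨(c / f v) • v, by rw [map_smul, smul_eq_mul, div_mul_cancel₀ _ hv]⟩
  have h := f.finrank_range_add_finrank_ker
  rw [hr, finrank_top, Module.finrank_self, Module.finrank_fin_fun] at h
  omega

/-- A full translation spread coordinatises the plane. -/
theorem coord (hF : ∀ m : L, Full G P m) (h2 : ∀ m : L, TwoDir G P m) :
    ∃ (F : Type) (_ : Field F) (_ : Finite F) (φ : P ≃ Projectivization F (Fin 3 → F)),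
      ∀ m : L, ∃ W : Submodule F (Fin 3 → F), Module.finrank F W = 2 ∧
          ∀ p : P, p ∈ m ↔ (φ p).submodule ≤ W := by
  obtain ⟨x₀, -⟩ := @ProjectivePlane.exists_config P L _ _
  obtain ⟨l, hEl⟩ := exists_line_through (L := L) x₀
  obtain ⟨O, hO⟩ := Nondegenerate.exists_point (P := P) l
  set T := elat G P l with hT
  letI : CommGroup T :=
    { T.toGroup with mul_comm := fun a b => Subtype.ext (elat_abelian (h2 l) a.2 b.2) }
  let Dir : {D : P // D ∈ l} → AddSubgroup (Additive T) := fun D =>
    Subgroup.toAddSubgroup ((elatC G P D.1 l).subgroupOf T)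
  have hmem : ∀ D (v : Additive T), v ∈ Dir D ↔ ((Additive.toMul v : T) : G) ∈ elatC G P D.1 l :=
    fun D v => Iff.rfl
  set n := ord P L with hn
  have hV : Nat.card (Additive T) = n ^ 2 := (hF l).card_eq
  have hcard : ∀ D, Nat.card (Dir D) = n := fun D => by
    exact (Nat.card_congr (Subgroup.subgroupOfEquivOfLe
      (fun g hg => hg.1 : elatC G P D.1 l ≤ T)).toEquiv).trans (card_dir (hF l) D.2)
  have hinf : ∀ D D', D ≠ D' → Dir D ⊓ Dir D' = ⊥ := fun D D' hne => by
    rw [AddSubgroup.eq_bot_iff_forall]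
    rintro v ⟨h1, h1'⟩
    have h3 : ((Additive.toMul v : T) : G) ∈ elatC G P D.1 l ⊓ elatC G P D'.1 l := ⟨h1, h1'⟩
    rw [elatC_inf (fun e => hne (Subtype.ext e)), Subgroup.mem_bot] at h3
    exact (Subtype.ext h3 : (Additive.toMul v : T) = 1)
  have hsh : HasShears Dir := by
    intro E D D' hD hD'
    obtain ⟨s, hsl, -, hsD, hfix, hsub⟩ := exists_shear hF
      (fun a ha b hb => elat_abelian (h2 l) ha hb) hO E.2 D.2 D'.2
      (fun e => hD (Subtype.ext e)) (fun e => hD' (Subtype.ext e))
    let ψ : T →* T :=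
      { toFun := fun t => ⟨s * t * s⁻¹, elat_conj_fix hsl t.2⟩
        map_one' := Subtype.ext (by simp)
        map_mul' := fun a b => Subtype.ext (by simp [mul_assoc]) }
    refine ⟨ψ.toAdditive, fun a b h => ?_, fun v hv => ?_, fun v => ?_, fun v hv => ?_, fun X => ?_⟩
    · have h' : ψ (Additive.toMul a) = ψ (Additive.toMul b) := h
      have h'' := congrArg Subtype.val h'
      exact Additive.toMul.injective (Subtype.ext (mul_left_cancel (mul_right_cancel h'')))
    · exact (Subtype.ext (hfix _ hv) : ψ (Additive.toMul v) = Additive.toMul v)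
    · show ((ψ (Additive.toMul v) / Additive.toMul v : T) : G) ∈ elatC G P E.1 l
      rw [div_eq_mul_inv]
      exact hsub _ (Additive.toMul v).2
    · show s * _ * s⁻¹ ∈ elatC G P D'.1 l
      have := elatC_conj s D.2 hv
      rwa [hsD, hsl] at this
    · refine ⟨⟨s • X.1, by have := smul_mem s X.2; rwa [hsl] at this⟩, fun v hv => ?_⟩
      show s * _ * s⁻¹ ∈ elatC G P (s • X.1) l
      have := elatC_conj s X.2 hv
      rwa [hsl] at this
  obtain ⟨F, hField, hFin, π, sl, hFcard, hvert, hslope, hslinj⟩ := exists_field Dir n two_le_ord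
    (card_on l) hV hcard hinf hsh ⟨x₀, hEl⟩
  letI := hField
  haveI := hFin
  -- translations and points off the axis
  have hbij : Function.Bijective fun t : T => (t • (⟨O, hO⟩ : {x : P // x ∉ l})) := by
    refine ⟨fun a b e => Subtype.ext (full_eq a.2 b.2 hO (congrArg Subtype.val e)), fun x => ?_⟩
    obtain ⟨g, hg, hgx⟩ := full_trans (hF l) hO x.2
    exact ⟨⟨g, hg⟩, Subtype.ext hgx⟩
  let eT : T ≃ {x : P // x ∉ l} := Equiv.ofBijective _ hbij
  let cv : {x : P // x ∉ l} → F × F := fun x => π (Additive.ofMul (eT.symm x))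
  have hcv : ∀ x, ((eT.symm x : T) : G) • O = x.1 := fun x =>
    congrArg Subtype.val (eT.apply_symm_apply x)
  -- the difference criterion
  have hline : ∀ {D : {D : P // D ∈ l}} (x q : {x : P // x ∉ l}),
      x.1 ∈ ln L D.1 q.1 ↔
        Additive.ofMul (eT.symm x) - Additive.ofMul (eT.symm q) ∈ Dir D := by
    intro D x q
    rw [hmem]
    show _ ↔ ((eT.symm x / eT.symm q : T) : G) ∈ _
    rw [div_eq_mul_inv]
    have hmove : ((eT.symm x * (eT.symm q)⁻¹ : T) : G) • q.1 = x.1 := by
      rw [← hcv q, Subgroup.coe_mul, Subgroup.coe_inv, mul_smul, inv_smul_smul, hcv]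
    refine ⟨fun h => mem_dir (eT.symm x * (eT.symm q)⁻¹).2 D.2 q.2 (hmove ▸ h), fun h => ?_⟩
    rw [← hmove]; exact dir_move h D.2 q.2
  let vec : P → (Fin 3 → F) := fun x =>
    if h : x ∈ l then (if x = x₀ then ![0, 0, 1] else ![0, 1, sl ⟨x, h⟩])
    else ![1, (cv ⟨x, h⟩).1, (cv ⟨x, h⟩).2]
  have vec_off : ∀ {x} (h : x ∉ l), vec x = ![1, (cv ⟨x, h⟩).1, (cv ⟨x, h⟩).2] :=
    fun h => dif_neg h
  have vec_inf : vec x₀ = ![0, 0, 1] := (dif_pos hEl).trans (if_pos rfl)
  have vec_on : ∀ {x} (h : x ∈ l), x ≠ x₀ → vec x = ![0, 1, sl ⟨x, h⟩] :=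
    fun h hne => (dif_pos h).trans (if_neg hne)
  have hne0 : ∀ x, vec x ≠ 0 := fun x e => by
    by_cases h : x ∈ l
    · by_cases h' : x = x₀
      · rw [h', vec_inf] at e; simpa using congrFun e 2
      · rw [vec_on h h'] at e; simpa using congrFun e 1
    · rw [vec_off h] at e; simpa using congrFun e 0
  let φ₀ : P → Projectivization F (Fin 3 → F) := fun x => Projectivization.mk F (vec x) (hne0 x)
  have hinj : Function.Injective φ₀ := by
    intro x y e
    obtain ⟨a, ha⟩ := (Projectivization.mk_eq_mk_iff' F _ _ _ _).1 e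
    have e0 := congrFun ha 0
    have e1 := congrFun ha 1
    have e2 := congrFun ha 2
    by_cases hx : x ∈ l <;> by_cases hy : y ∈ l
    · by_cases hx' : x = x₀ <;> by_cases hy' : y = x₀
      · rw [hx', hy']
      · rw [hx', vec_inf, vec_on hy hy'] at e1 e2
        simp at e1 e2
        simp [e1] at e2
      · rw [hy', vec_inf, vec_on hx hx'] at e1
        simp at e1
      · rw [vec_on hx hx', vec_on hy hy'] at e1 e2
        simp at e1 e2
        rw [e1, one_mul] at e2
        exact congrArg Subtype.val (hslinj ⟨x, hx⟩ (fun h => hx' (congrArg Subtype.val h)) ⟨y, hy⟩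
          (fun h => hy' (congrArg Subtype.val h)) e2.symm)
    · have ha0 : a = 0 := by
        by_cases hx' : x = x₀
        · rw [hx', vec_inf, vec_off hy] at e0; simpa using e0
        · rw [vec_on hx hx', vec_off hy] at e0; simpa using e0
      rw [ha0, zero_smul] at ha
      exact absurd ha.symm (hne0 x)
    · by_cases hy' : y = x₀
      · rw [hy', vec_inf, vec_off hx] at e0; simp at e0
      · rw [vec_on hy hy', vec_off hx] at e0; simp at e0
    · rw [vec_off hx, vec_off hy] at e0 e1 e2
      simp at e0 e1 e2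
      rw [e0, one_mul] at e1 e2
      have h := eT.symm.injective (Additive.ofMul.injective (π.injective (Prod.ext e1 e2)))
      exact (congrArg Subtype.val h).symm
  have hφ : Function.Bijective φ₀ := by
    refine (Nat.bijective_iff_injective_and_card φ₀).2 ⟨hinj, ?_⟩
    rw [natCard_points P L, Projectivization.card_of_finrank F (Fin 3 → F) (n := 3) (by simp),
      hFcard, Finset.sum_range_succ, Finset.sum_range_succ, Finset.sum_range_one, ← hn]
    ring
  refine ⟨F, hField, hFin, Equiv.ofBijective φ₀ hφ, fun m => ?_⟩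
  suffices h : ∃ f : (Fin 3 → F) →ₗ[F] F, f ≠ 0 ∧ ∀ x : P, x ∈ m ↔ f (vec x) = 0 by
    obtain ⟨f, hf, hfm⟩ := h
    refine ⟨LinearMap.ker f, finrank_ker_eq_two hf, fun x => ?_⟩
    show x ∈ m ↔ (Projectivization.mk F (vec x) (hne0 x)).submodule ≤ _
    rw [Projectivization.submodule_mk, Submodule.span_singleton_le_iff_mem, LinearMap.mem_ker]
    exact hfm x
  by_cases hm : m = l
  · subst hm
    refine ⟨form 1 0 0, fun e => ?_, fun x => ?_⟩
    · simpa [form_apply] using LinearMap.congr_fun e ![1, 0, 0]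
    rw [form_apply]
    by_cases hx : x ∈ m
    · by_cases hx' : x = x₀
      · subst hx'; rw [vec_inf]; simp [hx]
      · rw [vec_on hx hx']; simp [hx]
    · rw [vec_off hx]; simp [hx]
  set D : {D : P // D ∈ l} := ⟨pt P m l, pt_right hm⟩ with hD
  have hDm : D.1 ∈ m := pt_left hm
  obtain ⟨q, hqm, hql⟩ := exists_on_off (P := P) (Ne.symm hm)
  have hml : m = ln L D.1 q := eq_ln (fun e => hql (e ▸ D.2)) hDm hqm
  have hon : ∀ {x : P}, x ∈ l → (x ∈ m ↔ x = D.1) := fun hx =>
    ⟨fun h => eq_of_two' hm h hDm hx D.2, fun h => h ▸ hDm⟩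
  have hoff : ∀ {x : P} (hx : x ∉ l), x ∈ m ↔
      Additive.ofMul (eT.symm ⟨x, hx⟩) - Additive.ofMul (eT.symm ⟨q, hql⟩) ∈ Dir D := fun {x} hx => by
    rw [hml]; exact hline ⟨x, hx⟩ ⟨q, hql⟩
  set a := (cv ⟨q, hql⟩).1 with ha
  set b := (cv ⟨q, hql⟩).2 with hb
  by_cases hDE : D.1 = x₀
  · refine ⟨form (-a) 1 0, fun e => ?_, fun x => ?_⟩
    · simpa [form_apply] using LinearMap.congr_fun e ![0, 1, 0]
    rw [form_apply]
    by_cases hx : x ∈ l
    · rw [hon hx, hDE]
      by_cases hx' : x = x₀
      · subst hx'; rw [vec_inf]; simp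
      · rw [vec_on hx hx']; simp [hx']
    · rw [hoff hx, vec_off hx, show D = ⟨x₀, hEl⟩ from Subtype.ext hDE, hvert, map_sub, Prod.fst_sub]
      simp [cv, ha, sub_eq_zero, neg_add_eq_sub]
  · set k := sl D with hk
    refine ⟨form (k * a - b) (-k) 1, fun e => ?_, fun x => ?_⟩
    · simpa [form_apply] using LinearMap.congr_fun e ![0, 0, 1]
    rw [form_apply]
    by_cases hx : x ∈ l
    · rw [hon hx]
      by_cases hx' : x = x₀
      · subst hx'; rw [vec_inf]; simp [Ne.symm hDE]
      · rw [vec_on hx hx']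
        simp only [Matrix.cons_val_zero, Matrix.cons_val_one, Matrix.cons_val, mul_zero, zero_add,
          mul_one, one_mul, neg_add_eq_zero]
        constructor
        · intro e; simp only [hk]; congr; exact Subtype.ext e.symm
        · intro e
          exact (congrArg Subtype.val (hslinj D (fun h => hDE (congrArg Subtype.val h)) ⟨x, hx⟩
            (fun h => hx' (congrArg Subtype.val h)) e)).symm
    · rw [hoff hx, vec_off hx, hslope D (fun h => hDE (congrArg Subtype.val h)), map_sub]
      simp only [Prod.fst_sub, Prod.snd_sub, Matrix.cons_val_zero, Matrix.cons_val_one,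
        Matrix.cons_val, mul_one, one_mul, cv, ha, hb, ← hk]
      constructor <;> intro e <;> linear_combination e

/-- **Ostrom–Wagner**: a doubly transitive finite plane is Desarguesian. -/
theorem ostrom_wagner (ht : TwoTrans G P) :
    ∃ (F : Type) (_ : Field F) (_ : Finite F) (φ : P ≃ Projectivization F (Fin 3 → F)),
      (∀ m : L, ∃ W : Submodule F (Fin 3 → F), Module.finrank F W = 2 ∧
          ∀ p : P, p ∈ m ↔ (φ p).submodule ≤ W) ∧
      (∀ W : Submodule F (Fin 3 → F), Module.finrank F W = 2 →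
          ∃ m : L, ∀ p : P, p ∈ m ↔ (φ p).submodule ≤ W) := by
  obtain ⟨g, c, m₀, hg⟩ := exists_persp_of_primePow ht (isPrimePow_ord (L := L) ht)
  obtain ⟨F, hFld, hFin, φ, hφ⟩ := coord (G := G) (fun m => (full_of_persp ht hg m).1)
    (fun m => (full_of_persp ht hg m).2.1)
  refine ⟨F, hFld, hFin, φ, hφ, fun W hW => ?_⟩
  obtain ⟨v, hv, hv0⟩ := W.exists_mem_ne_zero_of_ne_bot (fun e => by
    rw [e, finrank_bot] at hW; omega)
  have hlt : ¬ W ≤ F ∙ v := fun h => by
    have := Submodule.finrank_mono h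
    rw [hW, finrank_span_singleton hv0] at this
    omega
  obtain ⟨w, hw, hwv⟩ := SetLike.not_le_iff_exists.1 hlt
  have hw0 : w ≠ 0 := fun e => hwv (e ▸ zero_mem _)
  set p := φ.symm (Projectivization.mk F v hv0) with hp
  set q := φ.symm (Projectivization.mk F w hw0) with hq
  have hpq : p ≠ q := fun e => hwv (by
    have h := congrArg Projectivization.submodule (φ.symm.injective e)
    rw [Projectivization.submodule_mk, Projectivization.submodule_mk] at h
    rw [h]; exact Submodule.mem_span_singleton_self w)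
  obtain ⟨W', hW', hmem⟩ := hφ (ln L p q)
  refine ⟨ln L p q, fun x => ?_⟩
  have h1 := (hmem p).1 (left_ln hpq)
  have h2 := (hmem q).1 (right_ln hpq)
  rw [hp, φ.apply_symm_apply, Projectivization.submodule_mk] at h1
  rw [hq, φ.apply_symm_apply, Projectivization.submodule_mk] at h2
  set U := F ∙ v ⊔ F ∙ w with hU
  have hUW : U ≤ W := sup_le ((Submodule.span_singleton_le_iff_mem _ _).2 hv)
    ((Submodule.span_singleton_le_iff_mem _ _).2 hw)
  have hUW' : U ≤ W' := sup_le h1 h2
  have hrank : 2 ≤ Module.finrank F U := by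
    have hlt' : F ∙ v < U := lt_of_le_of_ne le_sup_left fun e =>
      hwv (e.symm ▸ Submodule.mem_sup_right (Submodule.mem_span_singleton_self w))
    have := Submodule.finrank_lt_finrank_of_lt hlt'
    rw [finrank_span_singleton hv0] at this
    omega
  rw [← Submodule.eq_of_le_of_finrank_le hUW (by omega),
    Submodule.eq_of_le_of_finrank_le hUW' (by omega)]
  exact hmem x

end Cfsg.Agent.ProjPlane
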