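import Cfsg.Agent.ProjPlane.Persp

/-!
# Elation groups

The elations with a given axis form a group, semiregular off the axis; it is elementary abelian if it
has two directions, and it is the whole translation group if all directions have the same size.
-/

set_option autoImplicit false
set_option linter.unusedSectionVars false

open scoped Classical

namespace Cfsg.Agent.ProjPlane

open Configuration

variable {G P L : Type*} [Group G] [Membership P L] [MulAction G P] [MulAction G L]

section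

variable [IsColl G P L] [ProjectivePlane P L] [Finite P] [Finite L] [FaithfulSMul G P]

theorem elat_mul_off {a b : G} {l : L} {x : P}
    (ha : IsAxis P a l ∧ ∀ y, y ∉ l → a • y = y → a = 1)
    (hb : IsAxis P b l ∧ ∀ y, y ∉ l → b • y = y → b = 1) (hx : x ∉ l) (h : (a * b) • x = x) :
    a * b = 1 := by
  by_cases ha1 : a = 1
  · rw [ha1, one_mul] at h ⊢; exact hb.2 x hx h
  by_cases hb1 : b = 1
  · rw [hb1, mul_one] at h ⊢; exact ha.2 x hx h
  obtain ⟨C, hC⟩ := exists_cent ha.1 ha1
  obtain ⟨D, hD⟩ := exists_cent hb.1 hb1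
  have hCl : C ∈ l := by_contra fun h' => ha1 (ha.2 C h' hC.smul_cent)
  have hDl : D ∈ l := by_contra fun h' => hb1 (hb.2 D h' hD.smul_cent)
  have hbx : b • x ∉ l := fun h' => hx (by
    have := hb.1 (b • x) h'
    rwa [MulAction.injective b this] at h')
  have hxx : x ≠ b • x := fun e => hb1 (hb.2 x hx e.symm)
  set m := ln L x (b • x) with hm
  have hml : m ≠ l := fun e => hx (e ▸ left_ln hxx)
  have hDm : D ∈ m := by
    have hxD : x ≠ D := fun e => hx (e ▸ hDl)
    have hb' : b • ln L x D = ln L x D := hD.cent _ (right_ln hxD)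
    have h1 : b • x ∈ ln L x D := by rw [← hb']; exact smul_mem b (left_ln hxD)
    rw [hm, ← eq_ln hxx (left_ln hxD) h1]
    exact right_ln hxD
  have hCm : C ∈ m := by
    have hxC : b • x ≠ C := fun e => hbx (e ▸ hCl)
    have ha' : a • ln L (b • x) C = ln L (b • x) C := hC.cent _ (right_ln hxC)
    have h1 : x ∈ ln L (b • x) C := by
      have := smul_mem (L := L) a (left_ln (L := L) hxC)
      rwa [ha', ← mul_smul, h] at this
    rw [hm, ← eq_ln hxx h1 (left_ln hxC)]
    exact right_ln hxC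
  have e : C = D := eq_of_two' hml hCm hDm hCl hDl
  subst e
  by_contra hab
  have hP : Persp (a * b) C l := ⟨hab, fun p hp => by rw [mul_smul, hb.1 p hp, ha.1 p hp],
    fun k hk => by rw [mul_smul, hD.cent k hk, hC.cent k hk]⟩
  rcases hP.fix_iff.1 h with h' | h'
  · exact hx h'
  · exact hx (h' ▸ hCl)

variable (G P) in
/-- The group of elations with axis `l`. -/
def elat (l : L) : Subgroup G where
  carrier := {g | IsAxis P g l ∧ ∀ y : P, y ∉ l → g • y = y → g = 1}
  one_mem' := ⟨fun p _ => one_smul G p, fun _ _ _ => rfl⟩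
  mul_mem' {a b} ha hb := ⟨fun p hp => by rw [mul_smul, hb.1 p hp, ha.1 p hp],
    fun _ hy h => elat_mul_off ha hb hy h⟩
  inv_mem' {a} ha := ⟨fun p hp => by conv_lhs => rw [← ha.1 p hp, inv_smul_smul],
    fun y hy h => by rw [ha.2 y hy (inv_smul_eq_iff.1 h).symm, inv_one]⟩

theorem mem_elat_iff {g : G} {l : L} :
    g ∈ elat G P l ↔ g = 1 ∨ ∃ c, c ∈ l ∧ Persp g c l := by
  constructor
  · intro h
    by_cases hg : g = 1
    · exact Or.inl hg
    · obtain ⟨c, hc⟩ := exists_cent h.1 hg
      exact Or.inr ⟨c, by_contra fun h' => hg (h.2 c h' hc.smul_cent), hc⟩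
  · rintro (rfl | ⟨c, hc, h⟩)
    · exact one_mem _
    · refine ⟨h.axis, fun y hy hg => ?_⟩
      rcases h.fix_iff.1 hg with h' | h'
      · exact absurd h' hy
      · exact absurd hc (h' ▸ hy)

theorem exists_persp_of_elat {g : G} {l : L} (h : g ∈ elat G P l) (hg : g ≠ 1) :
    ∃ c, c ∈ l ∧ Persp g c l := (mem_elat_iff.1 h).resolve_left hg

variable (G P) in
/-- The elations with axis `l` and centre `c`. -/
def elatC (c : P) (l : L) : Subgroup G where
  carrier := {g | g ∈ elat G P l ∧ IsCent L g c}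
  one_mem' := ⟨one_mem _, fun m _ => one_smul G m⟩
  mul_mem' {a b} ha hb := ⟨mul_mem ha.1 hb.1, fun m hm => by rw [mul_smul, hb.2 m hm, ha.2 m hm]⟩
  inv_mem' {a} ha := ⟨inv_mem ha.1, fun m hm => by conv_lhs => rw [← ha.2 m hm, inv_smul_smul]⟩

theorem mem_elatC {g : G} {c : P} {l : L} :
    g ∈ elatC G P c l ↔ g ∈ elat G P l ∧ IsCent L g c := Iff.rfl

theorem persp_of_elatC {g : G} {c : P} {l : L} (h : g ∈ elatC G P c l) (hg : g ≠ 1) :
    Persp g c l := ⟨hg, h.1.1, h.2⟩

theorem mem_elatC_of_persp {g : G} {c : P} {l : L} (h : Persp g c l) (hc : c ∈ l) :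
    g ∈ elatC G P c l := ⟨mem_elat_iff.2 (Or.inr ⟨c, hc, h⟩), h.cent⟩

theorem elatC_le (c : P) (l : L) : elatC G P c l ≤ elat G P l := fun _ h => h.1

theorem elatC_inf {c d : P} {l : L} (h : c ≠ d) : elatC G P c l ⊓ elatC G P d l = ⊥ := by
  refine (Subgroup.eq_bot_iff_forall _).2 fun g hg => ?_
  by_contra hne
  exact h ((persp_of_elatC hg.2 hne).cent_unique hg.1.2)

theorem elat_conj {g : G} {l : L} (k : G) (h : g ∈ elat G P l) :
    k * g * k⁻¹ ∈ elat G P (k • l) := by
  rcases mem_elat_iff.1 h with rfl | ⟨c, hc, hp⟩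
  · simp
  · exact mem_elat_iff.2 (Or.inr ⟨k • c, smul_mem k hc, hp.conj k⟩)

theorem elatC_conj {g : G} {c : P} {l : L} (k : G) (hc : c ∈ l) (h : g ∈ elatC G P c l) :
    k * g * k⁻¹ ∈ elatC G P (k • c) (k • l) := by
  by_cases hg : g = 1
  · simp [hg]
  · exact mem_elatC_of_persp ((persp_of_elatC h hg).conj k) (smul_mem k hc)

theorem card_elatC_smul [Finite G] (k : G) {c : P} {l : L} (hc : c ∈ l) :
    Nat.card (elatC G P (k • c) (k • l)) = Nat.card (elatC G P c l) := by
  refine (Nat.card_congr (Equiv.subtypeEquiv (MulAut.conj k).toEquiv fun g => ⟨fun h => ?_,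
    fun h => ?_⟩)).symm
  · exact elatC_conj k hc h
  · have := elatC_conj k⁻¹ (smul_mem k hc) h
    simpa [inv_smul_smul, mul_assoc] using this

/-- Elations with the same axis and different centres commute. -/
theorem elat_comm {a b : G} {l : L} {C D : P} (ha : a ∈ elatC G P C l) (hb : b ∈ elatC G P D l)
    (hC : C ∈ l) (hD : D ∈ l) (h : C ≠ D) : a * b = b * a := by
  have hgl : ∀ {g : G} {E : P}, E ∈ l → g ∈ elat G P l → g • l = l ∧ g • E = E := fun {g E} hE hg => by
    obtain ⟨e, he, hne, -⟩ := exists_on_ne (P := P) l E E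
    exact ⟨fix_line_of_two hne he hE (hg.1 e he) (hg.1 E hE), hg.1 E hE⟩
  have h1 : a * b * a⁻¹ ∈ elatC G P D l := by
    have := elatC_conj a hD hb
    rwa [(hgl hD ha.1).1, (hgl hD ha.1).2] at this
  have h2 : b * a⁻¹ * b⁻¹ ∈ elatC G P C l := by
    have := elatC_conj b hC (inv_mem ha)
    rwa [(hgl hC hb.1).1, (hgl hC hb.1).2] at this
  have h3 : a * b * a⁻¹ * b⁻¹ ∈ elatC G P C l ⊓ elatC G P D l := by
    refine Subgroup.mem_inf.2 ⟨?_, mul_mem h1 (inv_mem hb)⟩
    rw [show a * b * a⁻¹ * b⁻¹ = a * (b * a⁻¹ * b⁻¹) by group]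
    exact mul_mem ha h2
  rw [elatC_inf h, Subgroup.mem_bot] at h3
  exact mul_inv_eq_iff_eq_mul.1 (mul_inv_eq_one.1 h3)

variable (G P) in
/-- The elation group has two directions. -/
def TwoDir (l : L) : Prop :=
  ∃ a ∈ elat G P l, ∃ b ∈ elat G P l, ∃ C D, Persp a C l ∧ Persp b D l ∧ C ≠ D

theorem TwoDir.exists_other {l : L} (h : TwoDir G P l) (C : P) :
    ∃ b ∈ elat G P l, ∃ D, Persp b D l ∧ D ≠ C := by
  obtain ⟨a, ha, b, hb, A, B, hA, hB, hAB⟩ := h
  by_cases e : A = C
  · exact ⟨b, hb, B, hB, e ▸ hAB.symm⟩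
  · exact ⟨a, ha, A, hA, e⟩

/-- Two directions: abelian. -/
theorem elat_abelian {l : L} (h2 : TwoDir G P l) {a b : G} (ha : a ∈ elat G P l)
    (hb : b ∈ elat G P l) : a * b = b * a := by
  by_cases ha1 : a = 1
  · simp [ha1]
  by_cases hb1 : b = 1
  · simp [hb1]
  obtain ⟨C, hC, hCa⟩ := exists_persp_of_elat ha ha1
  obtain ⟨D, hD, hDb⟩ := exists_persp_of_elat hb hb1
  by_cases hCD : C = D
  · subst hCD
    obtain ⟨c, hc, E, hE, hEC⟩ := h2.exists_other C
    have hEl : E ∈ l := by
      obtain ⟨E', hE', hcE'⟩ := exists_persp_of_elat hc hE.ne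
      rwa [hcE'.cent_unique hE.cent]
    have hac := elat_comm (mem_elatC_of_persp hCa hC) (mem_elatC_of_persp hE hEl) hC hEl hEC.symm
    have hbc : b * c ∈ elat G P l := mul_mem hb hc
    have hbc1 : b * c ≠ 1 := fun e => hEC (hDb.inv.unique (eq_inv_of_mul_eq_one_right e ▸ hE)).1
    obtain ⟨F, hF, hFbc⟩ := exists_persp_of_elat hbc hbc1
    have hFC : F ≠ C := fun e => by
      subst e
      have hc' : c ∈ elatC G P F l := by
        have := mul_mem (inv_mem (mem_elatC_of_persp hDb hD)) (mem_elatC_of_persp hFbc hF)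
        rwa [inv_mul_cancel_left] at this
      exact hEC (hE.cent_unique hc'.2).symm
    have h := elat_comm (mem_elatC_of_persp hCa hC) (mem_elatC_of_persp hFbc hF) hC hF hFC.symm
    refine mul_right_cancel (b := c) ?_
    rw [mul_assoc, h, mul_assoc, mul_assoc, hac]
  · exact elat_comm (mem_elatC_of_persp hCa hC) (mem_elatC_of_persp hDb hD) hC hD hCD

/-- Two directions: a single prime exponent. -/
theorem elat_exponent [Finite G] {l : L} (h2 : TwoDir G P l) :
    ∃ p : ℕ, p.Prime ∧ ∀ g ∈ elat G P l, g ^ p = 1 := by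
  obtain ⟨a, ha, -, -, A, -, hA, -, -⟩ := id h2
  have ho : orderOf a ≠ 1 := fun e => hA.ne (orderOf_eq_one_iff.1 e)
  obtain ⟨p, hp, hpd⟩ := Nat.exists_prime_and_dvd ho
  set c := a ^ (orderOf a / p) with hc
  have hcp : c ^ p = 1 := by
    rw [hc, ← pow_mul, Nat.div_mul_cancel hpd, pow_orderOf_eq_one]
  have hc1 : c ≠ 1 := fun e => by
    have := orderOf_dvd_of_pow_eq_one e
    have h1 : orderOf a / p < orderOf a := Nat.div_lt_self (orderOf_pos a) hp.one_lt
    have h2 : 0 < orderOf a / p := Nat.div_pos (Nat.le_of_dvd (orderOf_pos a) hpd) hp.pos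
    exact absurd (Nat.le_of_dvd h2 this) (not_le.2 h1)
  obtain ⟨C, hC, hCc⟩ := exists_persp_of_elat ((elat G P l).pow_mem ha _) hc1
  -- one element of order `p` in a direction spreads to all other directions
  have spread : ∀ {u : G} {U : P}, u ∈ elat G P l → Persp u U l → u ^ p = 1 →
      ∀ {v : G} {V : P}, v ∈ elat G P l → Persp v V l → U ≠ V → v ^ p = 1 := by
    intro u U hu hU hup v V hv hV hUV
    by_contra hvp
    have hUl : U ∈ l := by
      obtain ⟨U', hU', h⟩ := exists_persp_of_elat hu hU.ne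
      rwa [← h.cent_unique hU.cent] at hU'
    have hVl : V ∈ l := by
      obtain ⟨V', hV', h⟩ := exists_persp_of_elat hv hV.ne
      rwa [← h.cent_unique hV.cent] at hV'
    have huv1 : u * v ≠ 1 := fun e =>
      hUV (hU.inv.unique (eq_inv_of_mul_eq_one_right e ▸ hV)).1.symm
    obtain ⟨W, hW, hWuv⟩ := exists_persp_of_elat (mul_mem hu hv) huv1
    have hpow : (u * v) ^ p = v ^ p := by
      rw [Commute.mul_pow (elat_abelian h2 hu hv), hup, one_mul]
    have hWV : W = V := by
      by_contra hne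
      refine hvp ?_
      have h1 : v ^ p ∈ elatC G P W l ⊓ elatC G P V l :=
        ⟨hpow ▸ pow_mem (mem_elatC_of_persp hWuv hW) p, pow_mem (mem_elatC_of_persp hV hVl) p⟩
      rwa [elatC_inf hne, Subgroup.mem_bot] at h1
    subst hWV
    have hu' : u ∈ elatC G P W l := by
      have := mul_mem (mem_elatC_of_persp hWuv hW) (inv_mem (mem_elatC_of_persp hV hVl))
      rwa [mul_inv_cancel_right] at this
    exact hUV (hU.cent_unique hu'.2).symm
  refine ⟨p, hp, fun g hg => ?_⟩
  by_cases hg1 : g = 1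
  · simp [hg1]
  obtain ⟨D, hD, hDg⟩ := exists_persp_of_elat hg hg1
  obtain ⟨e, he, E, hE, hEC⟩ := h2.exists_other C
  by_cases hDC : D = C
  · exact spread he hE (spread ((elat G P l).pow_mem ha _) hCc hcp he hE hEC.symm) hg hDg
      (hDC ▸ hEC)
  · exact spread ((elat G P l).pow_mem ha _) hCc hcp hg hDg (Ne.symm hDC)

theorem elat_smul_notMem {l : L} (g : elat G P l) {x : P} (h : x ∉ l) : (g : G) • x ∉ l := by
  intro h'
  have := g.2.1 _ h'
  exact h (MulAction.injective (g : G) this ▸ h')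

/-- The elations act on the points off the axis. -/
instance elatAction (l : L) : MulAction (elat G P l) {x : P // x ∉ l} where
  smul g x := ⟨(g : G) • x.1, elat_smul_notMem g x.2⟩
  one_smul x := Subtype.ext (one_smul G x.1)
  mul_smul g h x := Subtype.ext (mul_smul (g : G) (h : G) x.1)

theorem card_off (l : L) : Nat.card {x : P // x ∉ l} = ord P L ^ 2 := by
  cases nonempty_fintype P
  have h1 := Fintype.card_subtype_compl (α := P) (fun x => x ∈ l)
  rw [← Nat.card_eq_fintype_card, ← Nat.card_eq_fintype_card, ← Nat.card_eq_fintype_card,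
    natCard_points P L, card_on] at h1
  omega

/-- The elation group is semiregular off the axis. -/
theorem card_elat_dvd [Finite G] (l : L) : Nat.card (elat G P l) ∣ ord P L ^ 2 := by
  cases nonempty_fintype G
  rw [← card_off (P := P) l]
  have hst : ∀ x : {x : P // x ∉ l}, MulAction.stabilizer (elat G P l) x = ⊥ := fun x =>
    (Subgroup.eq_bot_iff_forall _).2 fun g hg =>
      Subtype.ext (g.2.2 x.1 x.2 (congrArg Subtype.val hg))
  haveI := Fintype.ofFinite (MulAction.orbitRel.Quotient (elat G P l) {x : P // x ∉ l})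
  haveI : Fintype (Quotient (MulAction.orbitRel (elat G P l) {x : P // x ∉ l})) :=
    Fintype.ofFinite _
  rw [Nat.card_congr (MulAction.selfEquivSigmaOrbitsQuotientStabilizer (elat G P l) {x : P // x ∉ l}),
    Nat.card_sigma]
  refine Finset.dvd_sum fun o _ => ?_
  rw [hst, ← Subgroup.index_eq_card, Subgroup.index_bot]

variable (G P) in
/-- The elation group is the whole translation group. -/
def Full (l : L) : Prop := ord P L ^ 2 ≤ Nat.card (elat G P l)

theorem Full.card_eq [Finite G] {l : L} (h : Full G P l) :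
    Nat.card (elat G P l) = ord P L ^ 2 :=
  le_antisymm (Nat.le_of_dvd (by have := two_le_ord (P := P) (L := L); positivity) (card_elat_dvd l)) h

/-- Two directions and a full translation group: the order is a prime power. -/
theorem isPrimePow_of_full [Finite G] {l : L} (h : Full G P l) (h2 : TwoDir G P l) :
    IsPrimePow (ord P L) := by
  obtain ⟨p, hp, hexp⟩ := elat_exponent h2
  haveI := Fact.mk hp
  have hpg : IsPGroup p (elat G P l) := fun g => ⟨1, by
    rw [pow_one]; exact Subtype.ext (hexp g.1 g.2)⟩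
  obtain ⟨k, hk⟩ := hpg.exists_card_eq
  rw [h.card_eq] at hk
  have hd : ord P L ∣ p ^ k := hk ▸ Dvd.intro _ (sq _).symm
  obtain ⟨i, -, hi⟩ := (Nat.dvd_prime_pow hp).1 hd
  refine (isPrimePow_nat_iff _).2 ⟨p, i, hp, Nat.pos_of_ne_zero fun e => ?_, hi.symm⟩
  rw [e, pow_zero] at hi
  have := two_le_ord (P := P) (L := L)
  omega

/-- Two full directions give the whole translation group. -/
theorem full_of_two_centres [Finite G] {l : L} {C D : P} (h : C ≠ D)
    (hC : ord P L ≤ Nat.card (elatC G P C l)) (hD : ord P L ≤ Nat.card (elatC G P D l)) :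
    Full G P l ∧ TwoDir G P l := by
  constructor
  · show ord P L ^ 2 ≤ _
    refine le_trans (le_of_eq_of_le (sq _) (Nat.mul_le_mul hC hD)) ?_
    rw [← Nat.card_prod]
    refine Nat.card_le_card_of_injective
      (fun x => (⟨x.1.1 * x.2.1, mul_mem x.1.2.1 x.2.2.1⟩ : elat G P l)) ?_
    rintro ⟨a, b⟩ ⟨a', b'⟩ e
    have e' : (a : G) * b = a' * b' := congrArg Subtype.val e
    have hm : (a' : G)⁻¹ * a ∈ elatC G P C l ⊓ elatC G P D l := by
      refine Subgroup.mem_inf.2 ⟨mul_mem (inv_mem a'.2) a.2, ?_⟩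
      rw [show (a' : G)⁻¹ * a = b' * (b : G)⁻¹ by
        rw [eq_mul_inv_iff_mul_eq, mul_assoc, e', inv_mul_cancel_left]]
      exact mul_mem b'.2 (inv_mem b.2)
    rw [elatC_inf h, Subgroup.mem_bot, inv_mul_eq_one] at hm
    rw [hm, mul_right_inj] at e'
    exact Prod.ext (Subtype.ext hm.symm) (Subtype.ext e')
  · have h2 := two_le_ord (P := P) (L := L)
    obtain ⟨a, ha, ha1⟩ := (elatC G P C l).bot_or_exists_ne_one.resolve_left fun e => by
      rw [e, Subgroup.card_bot] at hC; omega
    obtain ⟨b, hb, hb1⟩ := (elatC G P D l).bot_or_exists_ne_one.resolve_left fun e => by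
      rw [e, Subgroup.card_bot] at hD; omega
    exact ⟨a, ha.1, b, hb.1, C, D, persp_of_elatC ha ha1, persp_of_elatC hb hb1, h⟩

/-- **All directions of the same size at least two: the whole translation group.** -/
theorem full_of_equal [Finite G] {l : L} {h : ℕ} (hh : 2 ≤ h)
    (hc : ∀ c : P, c ∈ l → Nat.card (elatC G P c l) = h) : Full G P l ∧ TwoDir G P l := by
  cases nonempty_fintype G
  cases nonempty_fintype P
  set n := ord P L with hn
  have h2n := two_le_ord (P := P) (L := L)
  have hne : ∀ c : {c : P // c ∈ l}, ∃ g ∈ elatC G P c.1 l, g ≠ 1 := fun c =>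
    (elatC G P c.1 l).bot_or_exists_ne_one.resolve_left fun e => by
      have := hc c.1 c.2; rw [e, Subgroup.card_bot] at this; omega
  have hbij : Nat.card (Σ c : {c : P // c ∈ l}, {g : elatC G P c.1 l // g ≠ 1}) =
      Nat.card {g : elat G P l // g ≠ 1} := by
    refine Nat.card_eq_of_bijective (fun x => ⟨⟨x.2.1.1, x.2.1.2.1⟩, fun e =>
      x.2.2 (Subtype.ext (congrArg (fun y : elat G P l => (y : G)) e))⟩) ⟨?_, ?_⟩
    · rintro ⟨c, g⟩ ⟨c', g'⟩ e
      have e' : (g.1 : G) = g'.1 := congrArg (fun y : {g : elat G P l // g ≠ 1} => (y.1 : G)) e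
      have hg : (g.1 : G) ≠ 1 := fun e'' => g.2 (Subtype.ext e'')
      have : c = c' := Subtype.ext ((persp_of_elatC g.1.2 hg).cent_unique (e' ▸ g'.1.2.2)).symm
      subst this
      exact Sigma.ext rfl (heq_of_eq (Subtype.ext (Subtype.ext e')))
    · rintro ⟨g, hg⟩
      obtain ⟨c, hcl, hp⟩ := exists_persp_of_elat g.2 (fun e => hg (Subtype.ext e))
      exact ⟨⟨⟨c, hcl⟩, ⟨g.1, mem_elatC_of_persp hp hcl⟩,
        fun e => hg (Subtype.ext (congrArg (fun y : elatC G P c l => (y : G)) e))⟩,
        Subtype.ext (Subtype.ext rfl)⟩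
  have hone : ∀ (H : Subgroup G), Nat.card {g : H // g ≠ 1} + 1 = Nat.card H := fun H => by
    rw [Nat.card_eq_fintype_card, Nat.card_eq_fintype_card, Fintype.card_subtype_compl,
      Fintype.card_subtype_eq]
    exact Nat.sub_add_cancel Fintype.card_pos
  rw [Nat.card_sigma] at hbij
  have hsum : ∀ c : {c : P // c ∈ l}, Nat.card {g : elatC G P c.1 l // g ≠ 1} = h - 1 := fun c => by
    have := hone (elatC G P c.1 l)
    rw [hc c.1 c.2] at this
    omega
  simp only [hsum, Finset.sum_const, Finset.card_univ, ← Nat.card_eq_fintype_card, card_on,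
    smul_eq_mul, ← hn] at hbij
  obtain ⟨k, hk⟩ := card_elat_dvd (G := G) (P := P) l
  have hT := hone (elat G P l)
  set T := Nat.card (elat G P l) with hT'
  have hT1 : T = (n + 1) * (h - 1) + 1 := by omega
  have hk1 : k = 1 := by
    by_contra hk1
    have hk0 : k ≠ 0 := fun e => by rw [e, mul_zero] at hk; nlinarith
    have h1 : n + 2 ≤ T := by
      rw [hT1]
      have : n + 1 ≤ (n + 1) * (h - 1) := Nat.le_mul_of_pos_right _ (by omega)
      omega
    have h2 : k < n := by
      by_contra hk2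
      push Not at hk2
      have : (n + 2) * n ≤ n ^ 2 := hk ▸ Nat.mul_le_mul h1 hk2
      nlinarith
    -- `n ^ 2 = T * k` is one more than a multiple of `n + 1`
    have h3 : ((T * k : ℕ) : ZMod (n + 1)) = 1 := by
      rw [← hk]
      have : (n : ZMod (n + 1)) = -1 := by
        have h0 := ZMod.natCast_self (n + 1)
        push_cast at h0
        exact eq_neg_of_add_eq_zero_left h0
      push_cast
      rw [this]; ring
    rw [hT1] at h3
    push_cast at h3
    have h0 := ZMod.natCast_self (n + 1)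
    push_cast at h0
    rw [h0, zero_mul, zero_add, one_mul] at h3
    have h4 : ((k : ℕ) : ZMod (n + 1)) = ((1 : ℕ) : ZMod (n + 1)) := by rw [h3, Nat.cast_one]
    rw [ZMod.natCast_eq_natCast_iff', Nat.mod_eq_of_lt (by omega), Nat.mod_eq_of_lt (by omega)] at h4
    exact hk1 h4
  refine ⟨by rw [Full, ← hn, hk, hk1, mul_one], ?_⟩
  obtain ⟨a, ha, -⟩ := exists_on_notMem (P := P) l ∅ (Nat.zero_le _)
  obtain ⟨b, hb, hba, -⟩ := exists_on_ne (P := P) l a a
  obtain ⟨ga, hga, hga1⟩ := hne ⟨a, ha⟩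
  obtain ⟨gb, hgb, hgb1⟩ := hne ⟨b, hb⟩
  exact ⟨ga, hga.1, gb, hgb.1, a, b, persp_of_elatC hga hga1, persp_of_elatC hgb hgb1, hba.symm⟩

/-- Two homologies with the same axis and different centres: their product is an elation. -/
theorem elation_of_two {h h' : G} {l : L} {c c' : P} (hh : h * h = 1) (hh' : h' * h' = 1)
    (hp : Persp h c l) (hp' : Persp h' c' l) (hc : c ∉ l) (hne : c ≠ c') :
    ∃ e, e ∈ l ∧ e ∈ ln L c c' ∧ Persp (h * h') e l := by
  have hτ : h * h' ≠ 1 := fun e => hne (hp.cent_unique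
    (by rw [← inv_eq_of_mul_eq_one_right hh, inv_eq_of_mul_eq_one_right e]; exact hp'.cent)).symm
  have hax : IsAxis P (h * h') l := fun p hp'' => by rw [mul_smul, hp'.axis p hp'', hp.axis p hp'']
  obtain ⟨e, he⟩ := exists_cent hax hτ
  have key : ∀ {k : G} {d : P}, Persp k d l → k * (h * h') * k⁻¹ = (h * h')⁻¹ → e ∈ l ∨ e = d := by
    intro k d hk hinv
    have h1 := he.conj k
    rw [hinv, hk.smul_axis] at h1
    exact hk.fix_iff.1 (he.inv.unique h1).1
  have hi : h⁻¹ = h := inv_eq_of_mul_eq_one_right hh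
  have hi' : h'⁻¹ = h' := inv_eq_of_mul_eq_one_right hh'
  have hel : e ∈ l := by
    rcases key hp (by
        rw [mul_inv_rev, hi, hi', ← mul_assoc, hh, one_mul]) with h1 | h1
    · exact h1
    rcases key hp' (by
        rw [mul_inv_rev, hi, hi', mul_assoc, mul_assoc, hh', mul_one]) with h2 | h2
    · exact h2
    · exact absurd (h1.symm.trans h2) hne
  refine ⟨e, hel, ?_, he⟩
  have hk : (h * h') • ln L c c' = ln L c c' := by
    rw [mul_smul, hp'.cent _ (right_ln hne), hp.cent _ (left_ln hne)]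
  rcases he.fix_line_iff.1 hk with h1 | h1
  · exact h1
  · exact absurd (h1 ▸ left_ln hne) hc

end

/-- An element for each point, of order a power of `p`, fixing only it: transitivity. -/
theorem trans_of_fix_one {X α : Type*} [Group X] [MulAction X α] [Finite X] [Finite α] {p : ℕ}
    [Fact p.Prime] (h : ∀ a : α, ∃ g : X, (∃ k, g ^ p ^ k = 1) ∧ g • a = a ∧ ∀ b, g • b = b → b = a)
    (a b : α) : ∃ x : X, x • a = b := by
  by_contra hab
  have key : ∀ a c : α, (Nat.card (MulAction.orbit X c) : ZMod p) =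
      if a ∈ MulAction.orbit X c then 1 else 0 := by
    intro a c
    obtain ⟨g, ⟨k, hk⟩, hga, huniq⟩ := h a
    set Z := Subgroup.zpowers g
    have hZ : IsPGroup p Z := by
      rintro ⟨x, hx⟩
      obtain ⟨i, rfl⟩ := Subgroup.mem_zpowers_iff.1 hx
      exact ⟨k, Subtype.ext (by
        show (g ^ i) ^ (p ^ k) = 1
        rw [← zpow_natCast, ← zpow_mul, mul_comm, zpow_mul, zpow_natCast, hk, one_zpow])⟩
    have h1 := hZ.card_modEq_card_fixedPoints (MulAction.orbit X c)
    rw [← ZMod.natCast_eq_natCast_iff] at h1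
    rw [h1]
    have hfix : ∀ y : MulAction.orbit X c, y ∈ MulAction.fixedPoints Z (MulAction.orbit X c) ↔
        (y : α) = a := by
      intro y
      constructor
      · intro hy
        exact huniq _ (congrArg Subtype.val (hy ⟨g, Subgroup.mem_zpowers g⟩))
      · intro e z
        refine Subtype.ext ?_
        have hz : (z : X) ∈ MulAction.stabilizer X (y : α) :=
          (Subgroup.zpowers_le.2 (by rw [MulAction.mem_stabilizer_iff, e, hga]) : Z ≤ _) z.2
        exact hz
    split_ifs with hac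
    · have : Nat.card (MulAction.fixedPoints Z (MulAction.orbit X c)) = 1 :=
        Nat.card_eq_one_iff_unique.2 ⟨⟨fun u v => Subtype.ext (Subtype.ext
          (((hfix u.1).1 u.2).trans ((hfix v.1).1 v.2).symm))⟩, ⟨⟨⟨a, hac⟩, (hfix _).2 rfl⟩⟩⟩
      rw [this, Nat.cast_one]
    · haveI : IsEmpty (MulAction.fixedPoints Z (MulAction.orbit X c)) :=
        ⟨fun u => hac ((hfix u.1).1 u.2 ▸ u.1.2)⟩
      rw [Nat.card_of_isEmpty, Nat.cast_zero]
  have h1 := key a a
  have h2 := key b a
  rw [if_pos (MulAction.mem_orbit_self a)] at h1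
  have hb : b ∉ MulAction.orbit X a := fun hm => hab hm
  rw [if_neg hb, h1] at h2
  exact one_ne_zero h2

end Cfsg.Agent.ProjPlane
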