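import Mathlib

/-!
# Sylow subgroups of subgroups
-/

set_option autoImplicit false

open scoped Classical

namespace Cfsg.Agent.ProjPlane

variable {G : Type*} [Group G]

/-- `Q` is a Sylow `p`-subgroup of `H`. -/
structure IsSyl (p : ℕ) (Q H : Subgroup G) : Prop where
  le : Q ≤ H
  isP : IsPGroup p Q
  idx : ¬ p ∣ Q.relIndex H

variable [Finite G] {p : ℕ} [hp : Fact p.Prime]

theorem exists_syl (H : Subgroup G) {S : Subgroup G} (hS : IsPGroup p S) (hSH : S ≤ H) :
    ∃ Q, S ≤ Q ∧ IsSyl p Q H := by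
  obtain ⟨Q, hQ⟩ := (hS.comap_of_injective H.subtype Subtype.coe_injective).exists_le_sylow
  refine ⟨(Q : Subgroup H).map H.subtype, fun s hs => ⟨⟨s, hSH hs⟩, hQ hs, rfl⟩,
    Subgroup.map_subtype_le _, Q.2.map _, ?_⟩
  rw [Subgroup.relIndex, ← Subgroup.comap_subtype,
    Subgroup.comap_map_eq_self_of_injective Subtype.coe_injective]
  exact Q.not_dvd_index

theorem IsSyl.card_mul {Q H : Subgroup G} (h : IsSyl p Q H) :
    Nat.card Q * Q.relIndex H = Nat.card H := by
  rw [← Nat.card_congr (Subgroup.subgroupOfEquivOfLe h.le).toEquiv]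
  exact Subgroup.card_mul_index (Q.subgroupOf H)

omit [Finite G] in
theorem IsSyl.card_dvd {Q H : Subgroup G} [Finite G] (h : IsSyl p Q H) {S : Subgroup G}
    (hS : IsPGroup p S) (hSH : S ≤ H) : Nat.card S ∣ Nat.card Q := by
  obtain ⟨k, hk⟩ := hS.exists_card_eq
  have h1 : Nat.card S ∣ Nat.card H := Subgroup.card_dvd_of_le hSH
  rw [← h.card_mul] at h1
  refine Nat.Coprime.dvd_of_dvd_mul_right ?_ h1
  rw [hk]
  exact Nat.Coprime.pow_left _ ((hp.out.coprime_iff_not_dvd).2 h.idx)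

theorem IsSyl.card_le {Q H : Subgroup G} (h : IsSyl p Q H) {S : Subgroup G} (hS : IsPGroup p S)
    (hSH : S ≤ H) : Nat.card S ≤ Nat.card Q :=
  Nat.le_of_dvd Nat.card_pos (h.card_dvd hS hSH)

/-- A largest `p`-subgroup is a Sylow subgroup. -/
theorem isSyl_of_max {Q H : Subgroup G} (hle : Q ≤ H) (hQ : IsPGroup p Q)
    (hmax : ∀ S ≤ H, IsPGroup p S → Nat.card S ≤ Nat.card Q) : IsSyl p Q H := by
  obtain ⟨S, hQS, hS⟩ := exists_syl H hQ hle
  rwa [Subgroup.eq_of_le_of_card_ge hQS (hmax S hS.le hS.isP)]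

/-- Sylow's theorem in a subgroup. -/
theorem IsSyl.exists_conj {Q H : Subgroup G} (h : IsSyl p Q H) {S : Subgroup G}
    (hS : IsPGroup p S) (hSH : S ≤ H) : ∃ g ∈ H, ∀ s ∈ S, g * s * g⁻¹ ∈ Q := by
  let P₀ : Sylow p H := (h.isP.comap_of_injective H.subtype Subtype.coe_injective).toSylow
    (by rw [Subgroup.comap_subtype]; exact h.idx)
  obtain ⟨Q', hQ'⟩ := (hS.comap_of_injective H.subtype Subtype.coe_injective).exists_le_sylow
  obtain ⟨g, hg⟩ := MulAction.exists_smul_eq H Q' P₀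
  refine ⟨g, g.2, fun s hs => ?_⟩
  have h1 : g * ⟨s, hSH hs⟩ * g⁻¹ ∈ ((g • Q' : Sylow p H) : Subgroup H) := by
    rw [Sylow.coe_subgroup_smul]
    exact ⟨⟨s, hSH hs⟩, hQ' hs, by simp⟩
  rw [hg] at h1
  exact h1

omit hp in
/-- Orbit and stabiliser inside a subgroup. -/
theorem card_orbit_mul {α : Type*} [MulAction G α] (H : Subgroup G) (x : α) :
    Nat.card (MulAction.orbit H x) * Nat.card ↥(H ⊓ MulAction.stabilizer G x) = Nat.card H := by
  rw [← Nat.card_congr (Subgroup.subgroupOfEquivOfLe (inf_le_left : H ⊓ _ ≤ H)).toEquiv,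
    ← Subgroup.card_mul_index ((H ⊓ MulAction.stabilizer G x).subgroupOf H), mul_comm]
  congr 1
  rw [show (H ⊓ MulAction.stabilizer G x).subgroupOf H = MulAction.stabilizer H x by
    ext g; simp [Subgroup.mem_subgroupOf, MulAction.mem_stabilizer_iff, Subgroup.smul_def],
    MulAction.index_stabilizer, Nat.card_coe_set_eq]

/-- If a subgroup has an orbit of `p`-power size, so does its Sylow subgroup. -/
theorem IsSyl.orbit_full {α : Type*} [MulAction G α] [Finite α] {Q H : Subgroup G}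
    (h : IsSyl p Q H) {x : α} {a : ℕ} (ha : Nat.card (MulAction.orbit H x) = p ^ a) {y : α}
    (hy : y ∈ MulAction.orbit H x) : ∃ q ∈ Q, q • x = y := by
  have hsub : MulAction.orbit Q x ⊆ MulAction.orbit H x := by
    rintro _ ⟨q, rfl⟩; exact ⟨⟨q, h.le q.2⟩, rfl⟩
  obtain ⟨S, hQS, hS⟩ := exists_syl (p := p) (H ⊓ MulAction.stabilizer G x)
    (S := Q ⊓ MulAction.stabilizer G x) (h.isP.to_le inf_le_left) (inf_le_inf_right _ h.le)
  have hQH : Nat.card (MulAction.orbit H x) ≤ Nat.card (MulAction.orbit Q x) := by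
    obtain ⟨b, hb⟩ := h.isP.exists_card_eq
    have e1 := card_orbit_mul H x
    have e2 := card_orbit_mul Q x
    have e3 := h.card_mul
    -- `|S| p^a` divides `|Q|`
    have h1 : Nat.card S * p ^ a ∣ Nat.card Q * Q.relIndex H := by
      rw [e3, ← e1, ha, mul_comm (p ^ a)]
      exact Nat.mul_dvd_mul_right (Subgroup.card_dvd_of_le hS.le) _
    obtain ⟨c, hc⟩ := hS.isP.exists_card_eq
    have h2 : Nat.card S * p ^ a ∣ Nat.card Q := by
      refine Nat.Coprime.dvd_of_dvd_mul_right ?_ h1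
      rw [hc, ← pow_add]
      exact Nat.Coprime.pow_left _ ((hp.out.coprime_iff_not_dvd).2 h.idx)
    have h3 := Nat.le_of_dvd Nat.card_pos h2
    rw [← e2, ← ha] at h3
    have h4 : Nat.card ↥(Q ⊓ MulAction.stabilizer G x) ≤ Nat.card S :=
      Subgroup.card_le_of_le hQS
    have h5 : 0 < Nat.card S := Nat.card_pos
    refine Nat.le_of_mul_le_mul_left ?_ h5
    calc Nat.card S * Nat.card (MulAction.orbit H x)
        ≤ Nat.card (MulAction.orbit Q x) * Nat.card ↥(Q ⊓ MulAction.stabilizer G x) := h3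
      _ ≤ Nat.card (MulAction.orbit Q x) * Nat.card S := Nat.mul_le_mul_left _ h4
      _ = _ := mul_comm _ _
  have := Set.eq_of_subset_of_ncard_le hsub (by rwa [← Nat.card_coe_set_eq, ← Nat.card_coe_set_eq])
    (Set.toFinite _)
  rw [← this] at hy
  obtain ⟨q, hq⟩ := hy
  exact ⟨q, q.2, hq⟩

/-- Sylow subgroups go to Sylow subgroups under homomorphisms. -/
theorem IsSyl.map {G' : Type*} [Group G'] {Q H : Subgroup G} (h : IsSyl p Q H) (f : G →* G') :
    IsSyl p (Q.map f) (H.map f) where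
  le := Subgroup.map_mono h.le
  isP := h.isP.map f
  idx hd := h.idx (dvd_trans hd (by
    have hsurj : Function.Surjective (f.subgroupMap H) := f.subgroupMap_surjective H
    have := Subgroup.index_map_dvd (Q.subgroupOf H) hsurj
    have e : (Q.subgroupOf H).map (f.subgroupMap H) = (Q.map f).subgroupOf (H.map f) := by
      ext ⟨y, hy⟩
      constructor
      · rintro ⟨x, hx, e⟩
        exact ⟨x, hx, congrArg Subtype.val e⟩
      · rintro ⟨x, hx, e⟩
        exact ⟨⟨x, h.le hx⟩, hx, Subtype.ext e⟩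
    rwa [e] at this))

end Cfsg.Agent.ProjPlane
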