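import Cfsg.Agent.ProjPlane.Tower
import Cfsg.Agent.ProjPlane.Syl
import Cfsg.Agent.ProjPlane.Elations

/-!
# Prime-power order: a doubly transitive group contains a perspectivity

A central element `z` of a Sylow subgroup of a flag stabiliser fixing no second point on the flag
line makes the stabiliser of an affine point fix a smaller subplane with the same situation.
-/

set_option autoImplicit false
set_option linter.unusedSectionVars false

open scoped Classical

namespace Cfsg.Agent.ProjPlane

open Configuration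

variable {G P L : Type*} [Group G] [Membership P L] [MulAction G P] [MulAction G L]
  [IsColl G P L] [ProjectivePlane P L] [Finite P] [Finite L] [Finite G]

variable (G) in
/-- The stabiliser of a flag. -/
def flagStab (A : P) (l : L) : Subgroup G := MulAction.stabilizer G A ⊓ MulAction.stabilizer G l

omit [IsColl G P L] [ProjectivePlane P L] [Finite P] [Finite L] [Finite G] in
theorem mem_flagStab {A : P} {l : L} {g : G} : g ∈ flagStab G A l ↔ g • A = A ∧ g • l = l :=
  Iff.rfl

omit [ProjectivePlane P L] [Finite P] [Finite L] [Finite G] in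
theorem flagStab_dual (A : P) (l : L) :
    flagStab G (P := Configuration.Dual L) (L := Configuration.Dual P) l A = flagStab G A l :=
  Subgroup.ext fun _ => ⟨fun h => ⟨h.2, h.1⟩, fun h => ⟨h.2, h.1⟩⟩

variable (ht : TwoTrans G P) {A : P} {l : L} (hA : A ∈ l) {p e : ℕ} [Fact p.Prime]
  (hn : ord P L = p ^ e) {Q : Subgroup G} (hQ : IsSyl p Q (flagStab G A l))

include ht hA hn hQ

theorem syl_stab_line : IsSyl p Q (MulAction.stabilizer G l) where
  le := hQ.le.trans inf_le_right
  isP := hQ.isP
  idx hd := by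
    rw [← Subgroup.relIndex_mul_relIndex _ _ _ hQ.le
      (inf_le_right : flagStab G A l ≤ MulAction.stabilizer G l)] at hd
    rcases (Fact.out : p.Prime).dvd_mul.1 hd with h | h
    · exact hQ.idx h
    · have horb : (MulAction.orbit (MulAction.stabilizer G l) A) = {x : P | x ∈ l} := by
        ext x
        constructor
        · rintro ⟨g, rfl⟩
          show (g : G) • A ∈ l
          have := smul_mem (g : G) hA
          rwa [g.2] at this
        · intro hx
          obtain ⟨g, hgA, hgl⟩ := ht.flag hA (show x ∈ l from hx)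
          exact ⟨⟨g, hgl⟩, hgA⟩
      have e1 := card_orbit_mul (MulAction.stabilizer G l) A
      rw [horb, show MulAction.stabilizer G l ⊓ MulAction.stabilizer G A = flagStab G A l from
        inf_comm _ _, Set.coe_setOf, card_on] at e1
      have e2 : Nat.card (flagStab G A l) * (flagStab G A l).relIndex (MulAction.stabilizer G l) =
          Nat.card (MulAction.stabilizer G l) := by
        rw [← Nat.card_congr (Subgroup.subgroupOfEquivOfLe (H := flagStab G A l)
          (K := MulAction.stabilizer G l) inf_le_right).toEquiv]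
        exact Subgroup.card_mul_index _
      rw [← e1, mul_comm (ord P L + 1)] at e2
      rw [Nat.eq_of_mul_eq_mul_left Nat.card_pos e2, hn] at h
      have he : e ≠ 0 := fun h0 => by
        rw [h0, pow_zero] at hn; have := two_le_ord (P := P) (L := L); omega
      exact (Fact.out : p.Prime).one_lt.ne' (Nat.dvd_one.1
        ((Nat.dvd_add_right (dvd_pow_self p he)).1 h))

/-- The Sylow subgroup is transitive on the points off the line. -/
theorem syl_trans_off {x y : P} (hx : x ∉ l) (hy : y ∉ l) : ∃ q ∈ Q, q • x = y := by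
  have horb : MulAction.orbit (MulAction.stabilizer G l) x = {z : P | z ∉ l} := by
    ext z
    constructor
    · rintro ⟨g, rfl⟩ h
      refine hx ((smul_mem_iff (g : G)).1 ?_)
      rw [g.2]; exact h
    · intro hz
      obtain ⟨g, hgx, hgl⟩ := ht.antiflag hx (show z ∉ l from hz)
      exact ⟨⟨g, hgl⟩, hgx⟩
  refine (syl_stab_line ht hA hn hQ).orbit_full (a := e * 2) ?_ (by rw [horb]; exact hy)
  rw [horb, Set.coe_setOf, card_off, hn, ← pow_mul]

/-- The Sylow subgroup is transitive on the other points of the line. -/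
theorem syl_trans_on {x y : P} (hx : x ∈ l) (hy : y ∈ l) (hxA : x ≠ A) (hyA : y ≠ A) :
    ∃ q ∈ Q, q • x = y := by
  have horb : MulAction.orbit (flagStab G A l) x = {z : P | z ∈ l ∧ z ≠ A} := by
    ext z
    constructor
    · rintro ⟨g, rfl⟩
      obtain ⟨hgA, hgl⟩ := mem_flagStab.1 g.2
      refine ⟨?_, fun e' => hxA (MulAction.injective (g : G) (e'.trans hgA.symm))⟩
      have := smul_mem (g : G) hx
      rwa [hgl] at this
    · rintro ⟨hz, hzA⟩
      obtain ⟨g, hgA, hgx⟩ := ht A x A z hxA.symm (Ne.symm hzA)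
      refine ⟨⟨g, hgA, ?_⟩, hgx⟩
      show g • l = l
      rw [eq_ln hxA.symm hA hx, smul_ln g hxA.symm, hgA, hgx]
      exact (eq_ln (Ne.symm hzA) hA hz).symm.trans (eq_ln hxA.symm hA hx)
  refine hQ.orbit_full (a := e) ?_ (by rw [horb]; exact ⟨hy, hyA⟩)
  rw [horb, Set.coe_setOf, ← hn]
  cases nonempty_fintype P
  have h1 := card_on (P := P) l
  rw [Nat.card_eq_fintype_card, Fintype.card_subtype] at h1
  rw [Nat.card_eq_fintype_card, Fintype.card_subtype]
  have h2 := Finset.card_erase_add_one (s := Finset.univ.filter fun z : P => z ∈ l) (a := A)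
    (by simp [hA])
  have h3 : (Finset.univ.filter fun z : P => z ∈ l ∧ z ≠ A) =
      (Finset.univ.filter fun z : P => z ∈ l).erase A := by ext z; simp [and_comm]
  rw [h3]; omega

theorem syl_dual : IsSyl p Q (flagStab G (P := Configuration.Dual L)
    (L := Configuration.Dual P) l A) := by rw [flagStab_dual]; exact hQ

/-- Transitivity on the other lines through the point. -/
theorem syl_trans_pencil {m k : L} (hm : A ∈ m) (hk : A ∈ k) (hml : m ≠ l) (hkl : k ≠ l) :
    ∃ q ∈ Q, q • m = k :=
  syl_trans_on (P := Configuration.Dual L) (L := Configuration.Dual P) (A := (show Configuration.Dual L from l))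
    (l := (show Configuration.Dual P from A)) (TwoTrans.dual (P := P) (L := L) ht) hA
    (by rw [ord, ProjectivePlane.Dual.order]; exact hn) (syl_dual ht hA hn hQ) hm hk hml hkl

/-- Transitivity on the lines missing the point. -/
theorem syl_trans_lines {m k : L} (hm : A ∉ m) (hk : A ∉ k) : ∃ q ∈ Q, q • m = k :=
  syl_trans_off (P := Configuration.Dual L) (L := Configuration.Dual P) (A := (show Configuration.Dual L from l))
    (l := (show Configuration.Dual P from A)) (TwoTrans.dual (P := P) (L := L) ht) hA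
    (by rw [ord, ProjectivePlane.Dual.order]; exact hn) (syl_dual ht hA hn hQ) hm hk

omit hn in
/-- The stabiliser in `Q` of a point off the line is not trivial. -/
theorem stab_ne_bot (hn : ord P L = p ^ e) [FaithfulSMul G P] {x : P} (hx : x ∉ l) :
    Q ⊓ MulAction.stabilizer G x ≠ ⊥ := by
  intro hbot
  have hcard : Nat.card Q = ord P L ^ 2 := by
    rw [← card_orbit_mul Q x, hbot, Subgroup.card_bot, mul_one,
      show MulAction.orbit Q x = {z : P | z ∉ l} by
        ext z
        constructor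
        · rintro ⟨q, rfl⟩ h
          refine hx ((smul_mem_iff (q : G)).1 ?_)
          rw [(mem_flagStab.1 (hQ.le q.2)).2]; exact h
        · intro hz
          obtain ⟨q, hq, hqx⟩ := syl_trans_off ht hA hn hQ hx (show z ∉ l from hz)
          exact ⟨⟨q, hq⟩, hqx⟩, Set.coe_setOf, card_off]
  obtain ⟨B, hB, hBA, -⟩ := exists_on_ne (P := P) l A A
  -- a nontrivial element fixing `A` and `B`
  obtain ⟨q, hq, hqB, hq1⟩ : ∃ q ∈ Q, q • B = B ∧ q ≠ 1 := by
    obtain ⟨q, hq, hq1⟩ := (Q ⊓ MulAction.stabilizer G B).bot_or_exists_ne_one.resolve_left fun h => by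
      have e1 := card_orbit_mul Q B
      rw [h, Subgroup.card_bot, mul_one, hcard] at e1
      have h2 : Nat.card (MulAction.orbit Q B) ≤ ord P L + 1 := by
        rw [← card_on (P := P) l]
        refine Nat.card_le_card_of_injective (fun z => (⟨z.1, ?_⟩ : {z : P // z ∈ l})) ?_
        · obtain ⟨z, q, rfl⟩ := z
          have := smul_mem (q : G) hB
          rwa [(mem_flagStab.1 (hQ.le q.2)).2] at this
        · intro a b h'
          exact Subtype.ext (congrArg (fun y : {z : P // z ∈ l} => y.1) h')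
      have := two_le_ord (P := P) (L := L)
      nlinarith
    exact ⟨q, hq.1, hq.2, hq1⟩
  obtain ⟨hqA, hql⟩ := mem_flagStab.1 (hQ.le hq)
  obtain ⟨g, hgl, hgq⟩ : ∃ g : L, g ≠ l ∧ q • g = g := by
    by_contra hall
    push Not at hall
    have h1 : Nat.card {m : L // q • m = m} ≤ 1 :=
      Finite.card_le_one_iff_subsingleton.2 ⟨fun a b => Subtype.ext
        ((by_contra fun h => hall a.1 h a.2 : a.1 = l).trans
          (by_contra fun h => hall b.1 h b.2 : b.1 = l).symm)⟩
    rw [← card_fix_eq (P := P)] at h1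
    exact hBA (congrArg Subtype.val ((Finite.card_le_one_iff_subsingleton.1 h1).elim
      (⟨B, hqB⟩ : {z : P // q • z = z}) ⟨A, hqA⟩))
  obtain ⟨E, hE, hEq, hEg⟩ : ∃ E : P, E ∈ l ∧ q • E = E ∧ E ∉ g := by
    by_cases h : A ∈ g
    · exact ⟨B, hB, hqB, fun h' => hgl (eq_of_two hBA h' h hB hA)⟩
    · exact ⟨A, hA, hqA, h⟩
  obtain ⟨k, hkE, hkl⟩ := ht.flag hE hA
  -- conjugate into `Q`
  have hpow : IsPGroup p (Subgroup.zpowers (k * q * k⁻¹)) := by
    have h1 : IsPGroup p (Subgroup.zpowers q) := hQ.isP.to_le (Subgroup.zpowers_le.2 hq)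
    have h2 := h1.map (MulAut.conj k).toMonoidHom
    rwa [MonoidHom.map_zpowers] at h2
  have hmem : k * q * k⁻¹ ∈ flagStab G A l := by
    refine mem_flagStab.2 ⟨?_, ?_⟩
    · rw [← hkE, mul_smul, inv_smul_smul, mul_smul, hEq]
    · conv_lhs => rw [← hkl, mul_smul, inv_smul_smul, mul_smul, hql, hkl]
  obtain ⟨f, hf, hfQ⟩ := hQ.exists_conj hpow (Subgroup.zpowers_le.2 hmem)
  have hmQ := hfQ _ (Subgroup.mem_zpowers _)
  set q' := f * (k * q * k⁻¹) * f⁻¹ with hq'
  have hfix : q' • ((f * k) • g) = (f * k) • g := by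
    rw [← mul_smul, hq', show f * (k * q * k⁻¹) * f⁻¹ * (f * k) = (f * k) * q by group, mul_smul, hgq]
  have hAm : A ∉ (f * k) • g := by
    rw [← (mem_flagStab.1 hf).1, ← hkE, ← mul_smul, smul_mem_iff]; exact hEg
  have h1 := card_orbit_mul Q ((f * k) • g)
  have h2 : ord P L ^ 2 ≤ Nat.card (MulAction.orbit Q ((f * k) • g)) := by
    rw [← card_off (P := P) l]
    have e3 : Nat.card {z : P // z ∉ l} = Nat.card {m : L // A ∉ m} := by
      rw [card_off]
      have := card_off (P := Configuration.Dual L) (L := Configuration.Dual P) A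
      rw [ord, ProjectivePlane.Dual.order] at this
      exact this.symm
    rw [e3]
    refine Nat.card_le_card_of_injective (fun m : {m : L // A ∉ m} =>
      (⟨m.1, ?_⟩ : MulAction.orbit Q ((f * k) • g))) fun a b h' =>
      Subtype.ext (congrArg (fun y : MulAction.orbit Q ((f * k) • g) => y.1) h')
    obtain ⟨r, hr, e'⟩ := syl_trans_lines ht hA hn hQ hAm m.2
    exact ⟨⟨r, hr⟩, e'⟩
  rw [hcard] at h1
  have h3 : Nat.card ↥(Q ⊓ MulAction.stabilizer G ((f * k) • g)) ≤ 1 := by
    by_contra h
    push Not at h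
    have := two_le_ord (P := P) (L := L)
    nlinarith
  have h4 : q' = 1 := by
    have := Finite.card_le_one_iff_subsingleton.1 h3
    exact congrArg Subtype.val (this.elim
      (⟨q', hmQ, hfix⟩ : ↥(Q ⊓ MulAction.stabilizer G ((f * k) • g))) 1)
  rw [hq', conj_eq_one_iff, conj_eq_one_iff] at h4
  exact hq1 h4

omit ht hA hn hQ

/-- **Descent**: a central element of a flag Sylow subgroup is a perspectivity. -/
theorem persp_of_central {G P L : Type} [Group G] [Membership P L] [MulAction G P]
    [MulAction G L] [IsColl G P L] [ProjectivePlane P L] [Finite G] [Finite P] [Finite L]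
    [FaithfulSMul G P] (ht : TwoTrans G P) {p e : ℕ} [Fact p.Prime] (hn : ord P L = p ^ e)
    {A : P} {l : L} (hA : A ∈ l) {Q : Subgroup G} (hQ : IsSyl p Q (flagStab G A l)) {z : G}
    (hz : z ∈ Q) (hc : ∀ q ∈ Q, q * z = z * q) (hz1 : z ≠ 1) : ∃ (c : P) (m : L), Persp z c m := by
  suffices H : ∀ (N : ℕ) {G P L : Type} [Group G] [Membership P L] [MulAction G P]
      [MulAction G L] [IsColl G P L] [ProjectivePlane P L] [Finite G] [Finite P] [Finite L]
      [FaithfulSMul G P] (_ : TwoTrans G P) {p e : ℕ} [Fact p.Prime] (_ : ord P L = p ^ e)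
      {A : P} {l : L} (_ : A ∈ l) {Q : Subgroup G} (_ : IsSyl p Q (flagStab G A l)) {z : G}
      (_ : z ∈ Q) (_ : ∀ q ∈ Q, q * z = z * q) (_ : z ≠ 1), ord P L = N →
        ∃ (c : P) (m : L), Persp z c m by
    exact H _ ht hn hA hQ hz hc hz1 rfl
  clear ht hn hA hQ hz hc hz1
  intro N
  induction N using Nat.strong_induction_on with
  | _ N IH =>
    intro G P L _ _ _ _ _ _ _ _ _ _ ht p e _ hn A l hA Q hQ z hz hc hz1 hN
    by_contra hcon
    push Not at hcon
    obtain ⟨hzA, hzl⟩ := mem_flagStab.1 (hQ.le hz)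
    have hcomm : ∀ {α : Type} [MulAction G α] {a b : α} {q : G}, q ∈ Q → q • a = b → z • a = a →
        z • b = b := by
      intro α _ a b q hq e' ha
      rw [← e', ← mul_smul, ← hc q hq, mul_smul, ha]
    -- `z` fixes only the flag
    have hpt : ∀ x : P, x ∈ l → x ≠ A → z • x ≠ x := by
      intro x hx hxA hfix
      obtain ⟨c, hc'⟩ := exists_cent (l := l) (g := z) (fun y hy => by
        by_cases hyA : y = A
        · rw [hyA, hzA]
        · obtain ⟨q, hq, hqx⟩ := syl_trans_on ht hA hn hQ hx hy hxA hyA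
          exact hcomm hq hqx hfix) hz1
      exact hcon c l hc'
    have hline : ∀ m : L, A ∈ m → m ≠ l → z • m ≠ m := by
      intro m hm hml hfix
      haveI := faithful_lines (G := G) (P := P) (L := L)
      obtain ⟨k, hk'⟩ := exists_cent (P := Configuration.Dual L) (L := Configuration.Dual P)
        (l := A) (g := z) (fun (k : L) (hk : A ∈ k) => by
        by_cases hkl : k = l
        · subst hkl; exact hzl
        · obtain ⟨q, hq, hqm⟩ := syl_trans_pencil ht hA hn hQ hm hk hml hkl
          exact hcomm (α := L) hq hqm hfix) hz1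
      exact hcon A k ⟨hz1, hk'.cent, hk'.axis⟩
    have hoff : ∀ x : P, x ∉ l → z • x ≠ x := fun x hx hfix => by
      have hxA : x ≠ A := fun e' => hx (e' ▸ hA)
      exact hline _ (right_ln hxA) (fun e' => hx (e' ▸ left_ln hxA)) (fix_ln hxA hfix hzA)
    obtain ⟨x, hx⟩ := Nondegenerate.exists_point (P := P) l
    set R := Q ⊓ MulAction.stabilizer G x with hR
    have hR1 : R ≠ ⊥ := stab_ne_bot ht hA hQ hn hx
    -- a fixed quadrangle
    have hzx : x ≠ z • x := fun e' => hoff x hx e'.symm
    set m := ln L x (z • x) with hm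
    have hml : m ≠ l := fun e' => hx (e' ▸ left_ln hzx)
    set D := pt P m l with hD
    have hDl : D ∈ l := pt_right hml
    have hDm : D ∈ m := pt_left hml
    have hzxl : z • x ∉ l := fun h => hx (by
      rw [← smul_mem_iff z, hzl]; exact h)
    have hzm : z • m ≠ m := fun e' => by
      by_cases hAm : A ∈ m
      · exact hline m hAm hml e'
      · exact hpt D hDl (fun e'' => hAm (e'' ▸ hDm))
          (fix_point_of_two hml hDm hDl e' hzl)
    have hDA : D ≠ A := fun e' => by
      have hAm : A ∈ m := e' ▸ hDm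
      refine hzm (eq_of_two (fun e'' : z • x = A => hzxl (e'' ▸ hA)) (smul_mem z (left_ln hzx)) ?_
        (right_ln hzx) hAm)
      have := smul_mem z hAm
      rwa [hzA] at this
    have hzD : z • D ≠ D := hpt D hDl hDA
    have hzDl : z • D ∈ l := by
      have := smul_mem z hDl; rwa [hzl] at this
    have hzDA : z • D ≠ A := fun e' => hDA (MulAction.injective z (e'.trans hzA.symm))
    haveI hQR : Fact (QuadFix (P := P) L (R : Set G)) := by
      refine ⟨⟨x, z • x, A, z • D, ⟨?_, ?_, ?_, ?_⟩, fun r hr => ?_⟩⟩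
      · exact fun h => hDA (eq_of_two' hml hDm ((col_iff hzx).1 h) hDl hA)
      · exact fun h => hzD (eq_of_two' hml ((col_iff hzx).1 h) hDm hzDl hDl)
      · rintro ⟨k, hk1, hk2, hk3⟩
        exact hx (eq_of_two (Ne.symm hzDA) hk2 hk3 hA hzDl ▸ hk1)
      · rintro ⟨k, hk1, hk2, hk3⟩
        exact hzxl (eq_of_two (Ne.symm hzDA) hk2 hk3 hA hzDl ▸ hk1)
      · obtain ⟨hrQ, hrx⟩ := Subgroup.mem_inf.1 hr
        obtain ⟨hrA, hrl⟩ := mem_flagStab.1 (hQ.le hrQ)
        have hrx' : r • x = x := hrx
        have hrzx : r • z • x = z • x := by rw [← mul_smul, hc r hrQ, mul_smul, hrx']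
        refine ⟨hrx', hrzx, hrA, ?_⟩
        rw [← mul_smul, hc r hrQ, mul_smul, hD, smul_pt r hml, hrl, hm, smul_ln r hzx, hrx', hrzx]
    -- the normaliser is doubly transitive on the subplane
    have hzN : z ∈ Subgroup.normalizer (R : Set G) := Subgroup.centralizer_le_normalizer _
      (Subgroup.mem_centralizer_iff.2 fun r hr => hc r (Subgroup.mem_inf.1 hr).1)
    set K := flagStab G A l ⊓ MulAction.stabilizer G x with hK
    have hForb : ord P L ^ 2 = Nat.card (MulAction.orbit Q x) := by
      rw [← card_off (P := P) l]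
      refine Nat.card_congr (Equiv.subtypeEquivRight fun y => ⟨fun hy => ?_, ?_⟩)
      · obtain ⟨q, hq, hqx⟩ := syl_trans_off ht hA hn hQ hx hy
        exact ⟨⟨q, hq⟩, hqx⟩
      · rintro ⟨q, rfl⟩ h
        refine hx ((smul_mem_iff (q : G)).1 ?_)
        rw [(mem_flagStab.1 (hQ.le q.2)).2]; exact h
    have hRK : ∀ S ≤ K, IsPGroup p S → Nat.card S ≤ Nat.card R := by
      intro S hS hSp
      obtain ⟨f, hf, hfQ⟩ := hQ.exists_conj hSp (hS.trans inf_le_left)
      have h1 : Nat.card S ≤ Nat.card ↥(Q ⊓ MulAction.stabilizer G (f • x)) := by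
        refine Nat.card_le_card_of_injective
          (fun s => ⟨f * s.1 * f⁻¹, hfQ _ s.2, ?_⟩) fun a b h => Subtype.ext ?_
        · show (f * s.1 * f⁻¹) • f • x = f • x
          rw [← mul_smul, inv_mul_cancel_right, mul_smul, (hS s.2).2]
        · have := congrArg (fun y : ↥(Q ⊓ MulAction.stabilizer G (f • x)) => (y : G)) h
          simpa using this
      refine h1.trans (le_of_eq ?_)
      have hfx : f • x ∉ l := fun h => hx (by
        rw [← smul_mem_iff f, (mem_flagStab.1 hf).2]; exact h)
      obtain ⟨q, hq, hqx⟩ := syl_trans_off ht hA hn hQ hx hfx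
      have e1 := card_orbit_mul Q x
      have e2 := card_orbit_mul Q (f • x)
      rw [show MulAction.orbit Q (f • x) = MulAction.orbit Q x by
        rw [← hqx]; exact MulAction.orbit_smul (⟨q, hq⟩ : Q) x, ← e1] at e2
      haveI : Nonempty (MulAction.orbit Q x) := ⟨⟨x, MulAction.mem_orbit_self x⟩⟩
      exact Nat.eq_of_mul_eq_mul_left Nat.card_pos e2
    have hRsyl : IsSyl p R K := isSyl_of_max (inf_le_inf_right _ hQ.le)
      (hQ.isP.to_le inf_le_left) hRK
    set A₀ : FP P R := ⟨A, fun r hr => (mem_flagStab.1 (hQ.le (Subgroup.mem_inf.1 hr).1)).1⟩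
    set l₀ : FL L R := ⟨l, fun r hr => (mem_flagStab.1 (hQ.le (Subgroup.mem_inf.1 hr).1)).2⟩
    set x₀ : FP P R := ⟨x, fun r hr => (Subgroup.mem_inf.1 hr).2⟩
    have htrip : ∀ (a y : FP P R) (k : FL L R), a ∈ k → y ∉ k →
        ∃ h : FixGrp P L R, h • A₀ = a ∧ h • x₀ = y := by
      intro a y k hak hyk
      obtain ⟨g, hga, hgk⟩ := ht.flag (a := a.1) (l := k.1) hak hA
      have hgy : g • y.1 ∉ l := fun h => hyk ((smul_mem_iff g (p := y.1) (l := k.1)).1
        (hgk.symm ▸ h))
      obtain ⟨q, hq, hqy⟩ := syl_trans_off ht hA hn hQ hgy hx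
      set g' := q * g with hg'
      have h1 : g' • a.1 = A := by rw [hg', mul_smul, hga]; exact (mem_flagStab.1 (hQ.le hq)).1
      have h2 : g' • k.1 = l := by rw [hg', mul_smul, hgk]; exact (mem_flagStab.1 (hQ.le hq)).2
      have h3 : g' • y.1 = x := by rw [hg', mul_smul, hqy]
      have hconj : R.map (MulAut.conj g').toMonoidHom ≤ K := by
        rintro _ ⟨r, hr, rfl⟩
        refine Subgroup.mem_inf.2 ⟨mem_flagStab.2 ⟨?_, ?_⟩, ?_⟩
        · show (g' * r * g'⁻¹) • A = A
          rw [← h1, ← mul_smul, inv_mul_cancel_right, mul_smul, a.2 r hr]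
        · show (g' * r * g'⁻¹) • l = l
          rw [← h2, ← mul_smul, inv_mul_cancel_right, mul_smul, k.2 r hr]
        · show (g' * r * g'⁻¹) • x = x
          rw [← h3, ← mul_smul, inv_mul_cancel_right, mul_smul, y.2 r hr]
      obtain ⟨f, hf, hfR⟩ := hRsyl.exists_conj ((hQ.isP.to_le inf_le_left : IsPGroup p R).map _) hconj
      have hN' : f * g' ∈ Subgroup.normalizer (R : Set G) := by
        refine Subgroup.mem_normalizer_iff_map_conj_eq.2 (Subgroup.eq_of_le_of_card_ge ?_ ?_)
        · rintro _ ⟨r, hr, rfl⟩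
          have := hfR _ ⟨r, hr, rfl⟩
          show f * g' * r * (f * g')⁻¹ ∈ R
          rw [mul_inv_rev]
          simpa [MulAut.conj_apply, mul_assoc] using this
        · rw [Subgroup.card_map_of_injective (MulAut.conj (f * g')).injective]
      refine ⟨((fixHom P L R).rangeRestrict ⟨_, hN'⟩)⁻¹, ?_, ?_⟩
      · rw [inv_smul_eq_iff]
        refine Subtype.ext ?_
        show A = (f * g') • a.1
        rw [mul_smul, h1]; exact ((mem_flagStab.1 (Subgroup.mem_inf.1 hf).1).1).symm
      · rw [inv_smul_eq_iff]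
        refine Subtype.ext ?_
        show x = (f * g') • y.1
        rw [mul_smul, h3]; exact (Subgroup.mem_inf.1 hf).2.symm
    have ht2 : TwoTrans (FixGrp P L R) (FP P R) := by
      intro a b c d hab hcd
      obtain ⟨k, hk, hbk⟩ := exists_through_off (L := FL L R) hab.symm
      obtain ⟨k', hk', hdk⟩ := exists_through_off (L := FL L R) hcd.symm
      obtain ⟨g, hga, hgb⟩ := htrip a b k hk hbk
      obtain ⟨g', hgc, hgd⟩ := htrip c d k' hk' hdk
      exact ⟨g' * g⁻¹, by rw [mul_smul, ← hga, inv_smul_smul, hgc],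
        by rw [mul_smul, ← hgb, inv_smul_smul, hgd]⟩
    set N₀ := Subgroup.normalizer (R : Set G)
    set Y := Q ⊓ N₀ with hY
    -- fixed affine points are one orbit of `Y`
    have hYorb : Nat.card (MulAction.orbit Y x) = Nat.card {y : FP P R // y ∉ l₀} := by
      refine Nat.card_eq_of_bijective (fun y : MulAction.orbit Y x => ⟨⟨y.1, ?_⟩, ?_⟩) ⟨?_, ?_⟩
      · obtain ⟨_, q, rfl⟩ := y
        intro r hr
        show r • (q : G) • x = (q : G) • x
        have h1 := (Subgroup.mem_inf.1
          ((Subgroup.mem_normalizer_iff''.1 (Subgroup.mem_inf.1 q.2).2 r).1 hr)).2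
        rw [MulAction.mem_stabilizer_iff, mul_smul, mul_smul, inv_smul_eq_iff] at h1
        exact h1
      · obtain ⟨_, q, rfl⟩ := y
        intro h
        refine hx ((smul_mem_iff (q : G) (p := x) (l := l)).1 ?_)
        rw [(mem_flagStab.1 (hQ.le (Subgroup.mem_inf.1 q.2).1)).2]
        exact h
      · intro a b h
        exact Subtype.ext (congrArg (fun y : {y : FP P R // y ∉ l₀} => y.1.1) h)
      · rintro ⟨⟨y, hy⟩, hyl⟩
        obtain ⟨q, hq, hqx⟩ := syl_trans_off ht hA hn hQ hx (show y ∉ l from hyl)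
        have hqN : q ∈ N₀ := by
          refine Subgroup.mem_normalizer_iff_map_conj_eq.2 ?_
          symm
          refine Subgroup.eq_of_le_of_card_ge ?_ ?_
          · intro r hr
            refine ⟨q⁻¹ * r * q, Subgroup.mem_inf.2 ⟨mul_mem (mul_mem (inv_mem hq)
              (Subgroup.mem_inf.1 hr).1) hq, ?_⟩, by simp [MulAut.conj_apply, mul_assoc]⟩
            show (q⁻¹ * r * q) • x = x
            rw [mul_smul, mul_smul, hqx, hy r hr, ← hqx, inv_smul_smul]
          · rw [Subgroup.card_map_of_injective (MulAut.conj q).injective]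
        exact ⟨⟨y, ⟨⟨q, hq, hqN⟩, hqx⟩⟩, rfl⟩
    have hRY : R ≤ Y := le_inf inf_le_left Subgroup.le_normalizer
    have hcard : Nat.card Y = ord (FP P R) (FL L R) ^ 2 * Nat.card R := by
      rw [← card_orbit_mul Y x, hYorb, card_off]
      congr 2
      exact congrArg _ (le_antisymm (inf_le_inf_right _ inf_le_left) (le_inf hRY inf_le_right))
    -- the subplane has prime-power order
    obtain ⟨i, hi⟩ : ∃ i, ord (FP P R) (FL L R) = p ^ i := by
      obtain ⟨j, hj⟩ := (hQ.isP.to_le (inf_le_left : Y ≤ Q)).exists_card_eq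
      have h1 : ord (FP P R) (FL L R) ∣ p ^ j := by
        rw [← hj, hcard]; exact (dvd_pow_self _ two_ne_zero).mul_right _
      obtain ⟨i, -, hi⟩ := (Nat.dvd_prime_pow Fact.out).1 h1
      exact ⟨i, hi⟩
    set W := flagStab G A l ⊓ N₀ with hW
    have hYW : IsSyl p Y W := by
      refine isSyl_of_max (inf_le_inf_right _ hQ.le) (hQ.isP.to_le inf_le_left) fun S hS hSp => ?_
      rw [← card_orbit_mul S x, hcard]
      refine Nat.mul_le_mul ?_ (hRK _ (inf_le_inf_right _ (hS.trans inf_le_left))
        (hSp.to_le inf_le_left))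
      rw [← card_off (P := FP P R) l₀]
      refine Nat.card_le_card_of_injective (fun y : MulAction.orbit S x =>
        (⟨⟨y.1, ?_⟩, ?_⟩ : {y : FP P R // y ∉ l₀})) fun a b h =>
        Subtype.ext (congrArg (fun y : {y : FP P R // y ∉ l₀} => y.1.1) h)
      · obtain ⟨_, s, rfl⟩ := y
        intro r hr
        show r • (s : G) • x = (s : G) • x
        have h1 := (Subgroup.mem_inf.1
          ((Subgroup.mem_normalizer_iff''.1 (Subgroup.mem_inf.1 (hS s.2)).2 r).1 hr)).2
        rw [MulAction.mem_stabilizer_iff, mul_smul, mul_smul, inv_smul_eq_iff] at h1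
        exact h1
      · obtain ⟨_, s, rfl⟩ := y
        intro h
        refine hx ((smul_mem_iff (s : G) (p := x) (l := l)).1 ?_)
        rw [(mem_flagStab.1 (Subgroup.mem_inf.1 (hS s.2)).1).2]
        exact h
    have hYW' : IsSyl p (Y.subgroupOf N₀) (W.subgroupOf N₀) := by
      refine isSyl_of_max (Subgroup.comap_mono hYW.le)
        (hYW.isP.comap_of_injective N₀.subtype Subtype.coe_injective) fun S hS hSp => ?_
      rw [Nat.card_congr (Subgroup.subgroupOfEquivOfLe (inf_le_right : Y ≤ N₀)).toEquiv,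
        ← Subgroup.card_map_of_injective (K := S) N₀.subtype_injective]
      exact hYW.card_le (hSp.map _) (Subgroup.map_le_iff_le_comap.2 hS)
    have hQ2 : IsSyl p ((Y.subgroupOf N₀).map (fixHom P L R).rangeRestrict)
        (flagStab (FixGrp P L R) A₀ l₀) := by
      have h := hYW'.map (fixHom P L R).rangeRestrict
      convert h using 1
      ext h'
      constructor
      · intro hh
        obtain ⟨g, rfl⟩ := (fixHom P L R).rangeRestrict_surjective h'
        obtain ⟨h1, h2⟩ := mem_flagStab.1 hh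
        exact ⟨g, Subgroup.mem_subgroupOf.2 (Subgroup.mem_inf.2
          ⟨mem_flagStab.2 ⟨congrArg Subtype.val h1, congrArg Subtype.val h2⟩, g.2⟩), rfl⟩
      · rintro ⟨g, hg, rfl⟩
        obtain ⟨h1, h2⟩ := mem_flagStab.1 (Subgroup.mem_inf.1 (Subgroup.mem_subgroupOf.1 hg)).1
        exact mem_flagStab.2 ⟨Subtype.ext h1, Subtype.ext h2⟩
    set z₀ : FixGrp P L R := (fixHom P L R).rangeRestrict ⟨z, hzN⟩ with hz₀
    have hz₀Q : z₀ ∈ (Y.subgroupOf N₀).map (fixHom P L R).rangeRestrict :=
      ⟨⟨z, hzN⟩, Subgroup.mem_subgroupOf.2 ⟨hz, hzN⟩, rfl⟩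
    have hz₀c : ∀ q ∈ (Y.subgroupOf N₀).map (fixHom P L R).rangeRestrict, q * z₀ = z₀ * q := by
      rintro _ ⟨g, hg, rfl⟩
      rw [hz₀, ← map_mul, ← map_mul]
      exact congrArg _ (Subtype.ext (hc g.1 (Subgroup.mem_inf.1 (Subgroup.mem_subgroupOf.1 hg)).1))
    have hz₀1 : z₀ ≠ 1 := fun h => by
      have h' := congrArg (fun g : FixGrp P L R => g • x₀) h
      simp only [one_smul] at h'
      exact hoff x hx (congrArg Subtype.val h')
    have hlt : ord (FP P R) (FL L R) < N := hN ▸ ord_fix_lt hR1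
    obtain ⟨c, k, hk⟩ := IH _ hlt ht2 hi (A := A₀) (l := l₀) hA hQ2 hz₀Q hz₀c hz₀1 rfl
    have hkl : k = l₀ := by
      by_contra hne
      have hmeet := exists_meet (P := FP P R) k l₀
      obtain ⟨B, hBk, hBl⟩ := hmeet
      by_cases hBA : B = A₀
      · exact hline k.1 (by rw [hBA] at hBk; exact hBk) (fun e' => hne (Subtype.ext e'))
          (congrArg Subtype.val hk.smul_axis)
      · exact hpt B.1 hBl (fun e' => hBA (Subtype.ext e')) (congrArg Subtype.val (hk.axis B hBk))
    obtain ⟨B, hB, hBA, -⟩ := exists_on_ne (P := FP P R) k A₀ A₀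
    exact hpt B.1 (hkl ▸ hB : B ∈ l₀) (fun e' => hBA (Subtype.ext e'))
      (congrArg Subtype.val (hk.axis B hB))

/-- **A doubly transitive plane of prime-power order has a perspectivity.** -/
theorem exists_persp_of_primePow {G P L : Type} [Group G] [Membership P L] [MulAction G P]
    [MulAction G L] [IsColl G P L] [ProjectivePlane P L] [Finite G] [Finite P] [Finite L]
    [FaithfulSMul G P] (ht : TwoTrans G P) (hn : IsPrimePow (ord P L)) :
    ∃ (g : G) (c : P) (m : L), Persp g c m := by
  obtain ⟨p, e, hp, he, hpe⟩ := (isPrimePow_nat_iff _).1 hn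
  haveI := Fact.mk hp
  obtain ⟨A, -⟩ := @ProjectivePlane.exists_config P L _ _
  obtain ⟨l, hl⟩ := exists_line_through (L := L) A
  obtain ⟨Q, -, hQ⟩ := exists_syl (p := p) (flagStab G A l) IsPGroup.of_bot bot_le
  have hQ1 : Q ≠ ⊥ := fun h => by
    obtain ⟨B, hB, hBA, -⟩ := exists_on_ne (P := P) l A A
    obtain ⟨C, hC, hCA, hCB⟩ := exists_on_ne (P := P) l A B
    obtain ⟨q, hq, hqB⟩ := syl_trans_on ht hl hpe.symm hQ hB hC hBA hCA
    rw [h, Subgroup.mem_bot] at hq
    rw [hq, one_smul] at hqB
    exact hCB hqB.symm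
  haveI : Nontrivial Q := (Subgroup.nontrivial_iff_ne_bot Q).2 hQ1
  haveI := hQ.isP.center_nontrivial
  obtain ⟨⟨z, hzc⟩, hz⟩ := exists_ne (1 : Subgroup.center Q)
  obtain ⟨c, m, h⟩ := persp_of_central ht hpe.symm hl hQ z.2
    (fun q hq => congrArg Subtype.val (Subgroup.mem_center_iff.1 hzc ⟨q, hq⟩))
    (fun e' => hz (Subtype.ext (Subtype.ext e')))
  exact ⟨z, c, m, h⟩

end Cfsg.Agent.ProjPlane
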