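import Cfsg.Agent.ProjPlane.PairLemma
import Cfsg.Agent.ProjPlane.PrimePower

/-!
# The order of a doubly transitive plane

A perspectivity in a doubly transitive group gives all translations, hence prime-power order; without
perspectivities the order is a repeated square of the order of a fixed subplane.
-/

set_option autoImplicit false
set_option linter.unusedSectionVars false

open scoped Classical

namespace Cfsg.Agent.ProjPlane

open Configuration

section

variable {G P L : Type*} [Group G] [Membership P L] [MulAction G P] [MulAction G L]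
  [IsColl G P L] [ProjectivePlane P L] [Finite P] [Finite L] [Finite G] [FaithfulSMul G P]

/-- A doubly transitive group with a perspectivity has an elation. -/
theorem exists_elation (ht : TwoTrans G P) {g : G} {c : P} {l : L} (h : Persp g c l) :
    ∃ (e : P) (m : L), e ∈ m ∧ ∃ σ : G, Persp σ e m := by
  by_contra hno
  push Not at hno
  have hcl : c ∉ l := fun hc => hno c l hc g h
  cases nonempty_fintype P
  let A : Subgroup G :=
    { carrier := {a | IsAxis P a l}
      one_mem' := fun p _ => one_smul G p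
      mul_mem' := fun {a b} ha hb p hp => by rw [mul_smul, hb p hp, ha p hp]
      inv_mem' := fun {a} ha p hp => by conv_lhs => rw [← ha p hp, inv_smul_smul] }
  let X : SubMulAction A P :=
    { carrier := {x | x ∉ l}
      smul_mem' := fun a x hx h' => hx (by
        have := a.2 _ h'
        have e : (a : G) • x = x := MulAction.injective (a : G) this
        show x ∈ l
        exact e ▸ h') }
  cases nonempty_fintype A
  -- every nontrivial element fixes exactly one point off the axis
  have hone : ∀ a : A, a ≠ 1 → ∃ d, d ∉ l ∧ Persp (a : G) d l := fun a ha => by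
    obtain ⟨d, hd⟩ := exists_cent a.2 (fun e => ha (Subtype.ext e))
    exact ⟨d, fun hdl => hno d l hdl _ hd, hd⟩
  have hX : Nat.card X = ord P L ^ 2 := card_off (P := P) l
  have hfix : ∀ a : A, a ≠ 1 → Fintype.card (MulAction.fixedBy X a) = 1 := fun a ha => by
    obtain ⟨d, hdl, hd⟩ := hone a ha
    refine Fintype.card_eq_one_iff.2 ⟨⟨⟨d, hdl⟩, Subtype.ext hd.smul_cent⟩, fun ⟨⟨x, hx⟩, hxa⟩ => ?_⟩
    exact Subtype.ext (Subtype.ext ((hd.fix_iff.1 (congrArg Subtype.val hxa)).resolve_left hx))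
  have hsum := MulAction.sum_card_fixedBy_eq_card_orbits_mul_card_group A X
  rw [← Finset.add_sum_erase _ _ (Finset.mem_univ 1),
    Finset.sum_congr rfl (fun a ha => hfix a (Finset.ne_of_mem_erase ha)), Finset.sum_const,
    Finset.card_erase_of_mem (Finset.mem_univ _), Finset.card_univ, smul_eq_mul, mul_one] at hsum
  have h1 : Fintype.card (MulAction.fixedBy X (1 : A)) = ord P L ^ 2 := by
    rw [← hX, ← Nat.card_eq_fintype_card]
    exact Nat.card_congr (Equiv.subtypeUnivEquiv fun x => one_smul A x)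
  rw [h1] at hsum
  -- every point off the axis is fixed by a nontrivial element
  have hbig : ord P L ^ 2 + 1 ≤ Fintype.card A := by
    have hinj : ∀ x : X, ∃ a : A, a ≠ 1 ∧ Persp (a : G) x.1 l := fun x => by
      obtain ⟨k, hkc, hkl⟩ := ht.antiflag hcl (x.2 : x.1 ∉ l)
      have := h.conj k
      rw [hkc, hkl] at this
      exact ⟨⟨_, this.axis⟩, fun e => this.ne (congrArg Subtype.val e), this⟩
    choose f hf hfp using hinj
    have hf' : Function.Injective fun o : Option X => o.elim (1 : A) f := by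
      rintro (_ | x) (_ | y) e
      · rfl
      · exact absurd e.symm (hf y)
      · exact absurd e (hf x)
      · refine congrArg some (Subtype.ext ?_)
        have e' : (f x : G) = f y := congrArg Subtype.val e
        exact ((hfp x).cent_unique (e' ▸ (hfp y).cent)).symm
    have := Fintype.card_le_of_injective _ hf'
    rwa [Fintype.card_option, ← Nat.card_eq_fintype_card (α := X), hX] at this
  set k := Fintype.card (MulAction.orbitRel.Quotient A X)
  have h2 := two_le_ord (P := P) (L := L)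
  rcases Nat.lt_or_ge k 2 with hk | hk
  · have : 4 ≤ ord P L ^ 2 := Nat.pow_le_pow_left h2 2
    rcases (show k = 0 ∨ k = 1 by omega) with h0 | h0 <;>
      simp only [h0, zero_mul, one_mul] at hsum <;> omega
  · have : 2 * Fintype.card A ≤ k * Fintype.card A := Nat.mul_le_mul_right _ hk
    omega

/-- With a perspectivity every translation group is full. -/
theorem full_of_persp (ht : TwoTrans G P) {g : G} {c : P} {l₀ : L} (h : Persp g c l₀) (l : L) :
    Full G P l ∧ TwoDir G P l ∧ ∀ D : P, D ∈ l → ∃ σ : G, Persp σ D l := by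
  obtain ⟨e, m, hem, σ, hσ⟩ := exists_elation ht h
  have hall : ∀ D : P, D ∈ l → (∃ τ : G, Persp τ D l) ∧
      Nat.card (elatC G P D l) = Nat.card (elatC G P e m) := fun D hD => by
    obtain ⟨k, hke, hkm⟩ := ht.flag hem hD
    constructor
    · have := hσ.conj k
      rw [hke, hkm] at this
      exact ⟨_, this⟩
    · have := card_elatC_smul k (G := G) hem
      rwa [hke, hkm] at this
  have hbig : 2 ≤ Nat.card (elatC G P e m) := by
    haveI : Nontrivial (elatC G P e m) := ⟨⟨σ, mem_elatC_of_persp hσ hem⟩, 1,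
      fun e' => hσ.ne (congrArg Subtype.val e')⟩
    exact Finite.one_lt_card
  obtain ⟨hF, hT⟩ := full_of_equal hbig fun D hD => (hall D hD).2
  exact ⟨hF, hT, fun D hD => (hall D hD).1⟩

/-- A doubly transitive group with a perspectivity: prime-power order. -/
theorem isPrimePow_of_persp (ht : TwoTrans G P) {g : G} {c : P} {l₀ : L} (h : Persp g c l₀) :
    IsPrimePow (ord P L) :=
  isPrimePow_of_full (full_of_persp ht h l₀).1 (full_of_persp ht h l₀).2.1

variable (G L) in
include L in
/-- A doubly transitive group has even order. -/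
theorem even_card (ht : TwoTrans G P) (A : P) : 2 ∣ Nat.card G := by
  obtain ⟨l, hl⟩ := exists_line_through (L := L) A
  obtain ⟨B, -, hBA, -⟩ := exists_on_ne (P := P) l A A
  have e1 := card_orbit_mul (MulAction.stabilizer G A) B
  have horb : MulAction.orbit (MulAction.stabilizer G A) B = {x : P | x ≠ A} := by
    ext x
    constructor
    · rintro ⟨s, rfl⟩ e
      exact hBA (MulAction.injective (s : G) (e.trans s.2.symm))
    · intro hx
      obtain ⟨s, hsA, hsB⟩ := ht A B A x hBA.symm (Ne.symm hx)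
      exact ⟨⟨s, hsA⟩, hsB⟩
  cases nonempty_fintype P
  have hc : Nat.card {x : P // x ≠ A} = ord P L ^ 2 + ord P L := by
    rw [Nat.card_eq_fintype_card, Fintype.card_subtype_compl, Fintype.card_subtype_eq,
      ← Nat.card_eq_fintype_card, natCard_points P L]
    rfl
  rw [horb, Set.coe_setOf, hc] at e1
  refine dvd_trans ?_ (Subgroup.card_subgroup_dvd_card (MulAction.stabilizer G A))
  rw [← e1]
  refine Dvd.dvd.mul_right ?_ _
  rw [sq, ← Nat.mul_succ]
  exact (Nat.even_mul_succ_self _).two_dvd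

end

theorem dvd_card_of_orbits {Q α : Type*} [Group Q] [MulAction Q α] [Finite α] (d r : ℕ)
    (h : ∀ x : α, d ∣ Nat.card (MulAction.orbit Q x) * r) : d ∣ Nat.card α * r := by
  cases nonempty_fintype α
  haveI := Fintype.ofFinite (MulAction.orbitRel.Quotient Q α)
  haveI : Fintype (Quotient (MulAction.orbitRel Q α)) := Fintype.ofFinite _
  rw [Nat.card_congr (MulAction.selfEquivSigmaOrbits Q α), Nat.card_sigma, Finset.sum_mul]
  exact Finset.dvd_sum fun o _ => h _

section

variable {G P L : Type} [Group G] [Membership P L] [MulAction G P] [MulAction G L]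
  [IsColl G P L] [ProjectivePlane P L] [Finite P] [Finite L] [Finite G] [FaithfulSMul G P]

theorem zpowers_fix {α : Type*} [MulAction G α] {g : G} {a : α} (h : g • a = a) :
    Subgroup.zpowers g ≤ MulAction.stabilizer G a := Subgroup.zpowers_le.2 h

/-- Without perspectivities the order is odd. -/
theorem odd_ord (ht : TwoTrans G P) (hnp : ∀ (g : G) (c : P) (m : L), ¬ Persp g c m) :
    Odd (ord P L) := by
  by_contra hn
  rw [Nat.not_odd_iff_even] at hn
  obtain ⟨A, -⟩ := @ProjectivePlane.exists_config P L _ _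
  obtain ⟨l, hl⟩ := exists_line_through (L := L) A
  haveI : Fact (Nat.Prime 2) := ⟨Nat.prime_two⟩
  set H := MulAction.stabilizer G l with hH
  set F := flagStab G A l with hF
  obtain ⟨Q, -, hQ⟩ := exists_syl (p := 2) F IsPGroup.of_bot bot_le
  -- `Q` is Sylow in the stabiliser of the line as well
  have horbA : MulAction.orbit H A = {x : P | x ∈ l} := by
    ext x
    constructor
    · rintro ⟨g, rfl⟩
      have := smul_mem (g : G) hl
      rwa [g.2] at this
    · intro hx
      obtain ⟨g, hgA, hgl⟩ := ht.flag hl (show x ∈ l from hx)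
      exact ⟨⟨g, hgl⟩, hgA⟩
  have e1 := card_orbit_mul H A
  rw [horbA, show H ⊓ MulAction.stabilizer G A = F from inf_comm _ _, Set.coe_setOf, card_on,
    ← hQ.card_mul] at e1
  set r := Q.relIndex F * (ord P L + 1) with hr
  have hQr : Nat.card Q * r = Nat.card H := by rw [← e1, hr]; ring
  have hrodd : ¬ 2 ∣ r := fun h => (Nat.prime_two.dvd_mul.1 h).elim hQ.idx fun h2 => by
    obtain ⟨k, hk⟩ := hn; omega
  have horb : ∀ x : P, x ∉ l → ord P L ^ 2 ∣ Nat.card (MulAction.orbit Q x) * r := by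
    intro x hx
    have e2 := card_orbit_mul H x
    rw [show MulAction.orbit H x = {z : P | z ∉ l} by
      ext z
      constructor
      · rintro ⟨g, rfl⟩ h
        refine hx ((smul_mem_iff (g : G)).1 ?_)
        rw [g.2]; exact h
      · intro hz
        obtain ⟨g, hgx, hgl⟩ := ht.antiflag hx (show z ∉ l from hz)
        exact ⟨⟨g, hgl⟩, hgx⟩, Set.coe_setOf, card_off] at e2
    obtain ⟨t, ht'⟩ : Nat.card ↥(Q ⊓ MulAction.stabilizer G x) ∣
        Nat.card ↥(H ⊓ MulAction.stabilizer G x) :=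
      Subgroup.card_dvd_of_le (inf_le_inf_right _ (hQ.le.trans inf_le_right))
    rw [ht', ← hQr, ← card_orbit_mul Q x] at e2
    refine ⟨t, Nat.eq_of_mul_eq_mul_left
      (Nat.card_pos : 0 < Nat.card ↥(Q ⊓ MulAction.stabilizer G x)) ?_⟩
    linarith [e2]
  have hQ1 : Q ≠ ⊥ := fun h => by
    obtain ⟨x, hx⟩ := Nondegenerate.exists_point (P := P) l
    have h1 := horb x hx
    have h2 : Nat.card (MulAction.orbit Q x) = 1 := by
      have := card_orbit_mul Q x
      rw [h, Subgroup.card_bot] at this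
      exact Nat.eq_one_of_mul_eq_one_right (by rw [h]; exact this)
    rw [h2, one_mul] at h1
    exact hrodd ((hn.two_dvd.trans (dvd_pow_self _ two_ne_zero)).trans h1)
  haveI : Nontrivial Q := (Subgroup.nontrivial_iff_ne_bot Q).2 hQ1
  have hZ : 2 ∣ Nat.card (Subgroup.center Q) := by
    haveI := hQ.isP.center_nontrivial
    exact (hQ.isP.to_subgroup (Subgroup.center Q)).card_eq_or_dvd.resolve_left
      Finite.one_lt_card.ne'
  obtain ⟨z, hz⟩ := exists_prime_orderOf_dvd_card' 2 hZ
  set g : G := ((z : Q) : G) with hg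
  have hgo : orderOf g = 2 := by rw [hg, Subgroup.orderOf_coe, Subgroup.orderOf_coe, hz]
  have hg2 : g * g = 1 := by rw [← sq, ← hgo, pow_orderOf_eq_one]
  have hg1 : g ≠ 1 := fun e => by rw [e, orderOf_one] at hgo; omega
  obtain ⟨hgA, hgl⟩ := mem_flagStab.1 (hQ.le (z : Q).2)
  rcases invol_dichotomy (P := P) (L := L) hg2 hg1 with hq | ⟨c, m, hp⟩
  swap
  · exact hnp g c m hp
  haveI hQF : Fact (QuadFix (P := P) L ((Subgroup.zpowers g : Subgroup G) : Set G)) := by
    obtain ⟨a, b, c, d, hQd, hf⟩ := hq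
    obtain ⟨ha, hb, hc, hd⟩ := hf g rfl
    exact ⟨⟨a, b, c, d, hQd, fun k hk => ⟨zpowers_fix ha hk, zpowers_fix hb hk, zpowers_fix hc hk,
      zpowers_fix hd hk⟩⟩⟩
  have hb : ord P L = _ := ord_baer (P := P) (L := L) hg2 hg1
  set l₀ : FL L (Subgroup.zpowers g) := ⟨l, fun k hk => zpowers_fix hgl hk⟩
  let Y : SubMulAction Q P :=
    { carrier := {x | x ∉ l ∧ g • x = x}
      smul_mem' := fun q x hx => by
        obtain ⟨hx1, hx2⟩ := hx
        refine ⟨fun h => hx1 ((smul_mem_iff (q : G)).1 ?_), ?_⟩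
        · rw [(mem_flagStab.1 (hQ.le q.2)).2]; exact h
        · have hc : (g : G) * q = q * g :=
            (congrArg Subtype.val (Subgroup.mem_center_iff.1 z.2 q)).symm
          show g • (q : G) • x = (q : G) • x
          rw [← mul_smul, hc, mul_smul, hx2] }
  have hY : Nat.card Y = ord P L := by
    rw [hb, ← card_off (P := FP P (Subgroup.zpowers g)) l₀]
    exact Nat.card_congr
      { toFun := fun x => ⟨⟨x.1, fun k hk => zpowers_fix x.2.2 hk⟩, x.2.1⟩
        invFun := fun x => ⟨x.1.1, x.2, x.1.2 g (Subgroup.mem_zpowers g)⟩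
        left_inv := fun x => rfl
        right_inv := fun x => rfl }
  have hdvd := dvd_card_of_orbits (Q := Q) (α := Y) (ord P L ^ 2) r fun y => by
    convert horb y.1 y.2.1 using 2
    rw [← SubMulAction.val_image_orbit, Nat.card_image_of_injective Subtype.val_injective]
  rw [hY, sq] at hdvd
  have h0 : 0 < ord P L := by have := two_le_ord (P := P) (L := L); omega
  exact hrodd (hn.two_dvd.trans (Nat.dvd_of_mul_dvd_mul_left h0 hdvd))

/-- A two-element of the normaliser outside `U` with square in `U`, fixing two given points. -/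
theorem exists_step {α : Type*} [MulAction G α] {U : Subgroup G} (hU : IsPGroup 2 U)
    (a b : {a : α // ∀ g ∈ U, g • a = a})
    (hns : ¬ IsSyl 2 U (MulAction.stabilizer G a.1 ⊓ MulAction.stabilizer G b.1)) :
    ∃ w : Subgroup.normalizer (U : Set G), (w : G) ∉ U ∧ (w : G) * w ∈ U ∧
      (∃ k, (w : G) ^ 2 ^ k = 1) ∧ w • a = a ∧ w • b = b := by
  haveI : Fact (Nat.Prime 2) := ⟨Nat.prime_two⟩
  obtain ⟨S, hUS, hS⟩ := exists_syl (p := 2)
    (MulAction.stabilizer G a.1 ⊓ MulAction.stabilizer G b.1) hU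
    (le_inf (fun g hg => a.2 g hg) (fun g hg => b.2 g hg))
  have hne : U.subgroupOf S ≠ ⊤ := fun e => hns (by
    have e' : S = U := le_antisymm (Subgroup.subgroupOf_eq_top.1 e) hUS
    subst e'
    exact hS)
  haveI := hS.isP.isNilpotent
  have hlt := Group.normalizerCondition_of_isNilpotent (U.subgroupOf S) (lt_top_iff_ne_top.2 hne)
  obtain ⟨u, huN, huU⟩ := SetLike.exists_of_lt hlt
  have huN' : (u : G) ∈ Subgroup.normalizer (U : Set G) := by
    rw [Subgroup.mem_normalizer_iff]
    intro x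
    constructor
    · intro hx
      exact (Subgroup.mem_normalizer_iff.1 huN ⟨x, hUS hx⟩).1 hx
    · intro hx
      have hxS : x ∈ S := by
        have := mul_mem (mul_mem (inv_mem u.2) (hUS hx)) u.2
        simpa [mul_assoc] using this
      exact (Subgroup.mem_normalizer_iff.1 huN ⟨x, hxS⟩).2 hx
  obtain ⟨k, hk⟩ := hS.isP u
  have hex : ∃ i, (u : G) ^ 2 ^ i ∈ U := ⟨k, by
    have e : (u : G) ^ 2 ^ k = 1 := congrArg Subtype.val hk
    rw [e]; exact one_mem U⟩
  obtain ⟨i, hi⟩ : ∃ i, Nat.find hex = i + 1 := by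
    refine Nat.exists_eq_succ_of_ne_zero fun e => huU ?_
    have := Nat.find_spec hex
    rw [e, pow_zero, pow_one] at this
    exact this
  obtain ⟨hsa, hsb⟩ := Subgroup.mem_inf.1 (hS.le (pow_mem u.2 (2 ^ i)))
  refine ⟨⟨(u : G) ^ 2 ^ i, pow_mem huN' _⟩, Nat.find_min hex (by omega), ?_, ⟨k, ?_⟩,
    Subtype.ext hsa, Subtype.ext hsb⟩
  · have := Nat.find_spec hex
    rwa [hi, pow_succ, pow_mul, sq] at this
  · show ((u : G) ^ 2 ^ i) ^ 2 ^ k = 1
    rw [pow_right_comm, show (u : G) ^ 2 ^ k = 1 from congrArg Subtype.val hk, one_pow]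

/-- A maximal two-group that is Sylow for one pair has a doubly transitive normaliser. -/
theorem twoTrans_fix {α : Type*} [MulAction G α] (ht : TwoTrans G α) {U : Subgroup G}
    {A B : {a : α // ∀ g ∈ U, g • a = a}} (hne : A ≠ B)
    (hU : IsSyl 2 U (MulAction.stabilizer G A.1 ⊓ MulAction.stabilizer G B.1)) :
    ∀ a b c d : {a : α // ∀ g ∈ U, g • a = a}, a ≠ b → c ≠ d →
      ∃ x : Subgroup.normalizer (U : Set G), x • a = c ∧ x • b = d := by
  haveI : Fact (Nat.Prime 2) := ⟨Nat.prime_two⟩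
  have key : ∀ c d : {a : α // ∀ g ∈ U, g • a = a}, c ≠ d →
      ∃ x : Subgroup.normalizer (U : Set G), x • A = c ∧ x • B = d := by
    intro c d hcd
    obtain ⟨g, hgA, hgB⟩ := ht A.1 B.1 c.1 d.1 (fun e => hne (Subtype.ext e))
      (fun e => hcd (Subtype.ext e))
    set K := MulAction.stabilizer G c.1 ⊓ MulAction.stabilizer G d.1
    have hUK : U ≤ K := le_inf (fun k hk => c.2 k hk) (fun k hk => d.2 k hk)
    have hsyl : IsSyl 2 U K := by
      refine isSyl_of_max hUK hU.isP fun S hS hSp => ?_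
      rw [← Subgroup.card_map_of_injective (K := S) (f := (MulAut.conj g⁻¹).toMonoidHom)
        (MulAut.conj g⁻¹).injective]
      refine hU.card_le (hSp.map _) ?_
      rintro _ ⟨s, hs, rfl⟩
      obtain ⟨hsc, hsd⟩ := Subgroup.mem_inf.1 (hS hs)
      have hsc' : s • c.1 = c.1 := hsc
      have hsd' : s • d.1 = d.1 := hsd
      refine Subgroup.mem_inf.2 ⟨?_, ?_⟩
      · show (g⁻¹ * s * g⁻¹⁻¹) • A.1 = A.1
        rw [inv_inv, mul_smul, mul_smul, hgA, hsc', ← hgA, inv_smul_smul]
      · show (g⁻¹ * s * g⁻¹⁻¹) • B.1 = B.1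
        rw [inv_inv, mul_smul, mul_smul, hgB, hsd', ← hgB, inv_smul_smul]
    have hconj : U.map (MulAut.conj g).toMonoidHom ≤ K := by
      rintro _ ⟨u, hu, rfl⟩
      refine Subgroup.mem_inf.2 ⟨?_, ?_⟩
      · show (g * u * g⁻¹) • c.1 = c.1
        rw [← hgA, ← mul_smul, inv_mul_cancel_right, mul_smul, A.2 u hu]
      · show (g * u * g⁻¹) • d.1 = d.1
        rw [← hgB, ← mul_smul, inv_mul_cancel_right, mul_smul, B.2 u hu]
    obtain ⟨f, hf, hfU⟩ := hsyl.exists_conj (hU.isP.map _) hconj
    have hN : f * g ∈ Subgroup.normalizer (U : Set G) := by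
      refine Subgroup.mem_normalizer_iff_map_conj_eq.2 (Subgroup.eq_of_le_of_card_ge ?_ ?_)
      · rintro _ ⟨u, hu, rfl⟩
        have := hfU _ ⟨u, hu, rfl⟩
        show f * g * u * (f * g)⁻¹ ∈ U
        rw [mul_inv_rev]
        simpa [MulAut.conj_apply, mul_assoc] using this
      · rw [Subgroup.card_map_of_injective (MulAut.conj (f * g)).injective]
    obtain ⟨hfc, hfd⟩ := Subgroup.mem_inf.1 hf
    refine ⟨⟨f * g, hN⟩, Subtype.ext ?_, Subtype.ext ?_⟩
    · show (f * g) • A.1 = c.1
      rw [mul_smul, hgA]; exact hfc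
    · show (f * g) • B.1 = d.1
      rw [mul_smul, hgB]; exact hfd
  intro a b c d hab hcd
  obtain ⟨x, hxa, hxb⟩ := key a b hab
  obtain ⟨y, hyc, hyd⟩ := key c d hcd
  exact ⟨y * x⁻¹, by rw [mul_smul, ← hxa, inv_smul_smul, hyc],
    by rw [mul_smul, ← hxb, inv_smul_smul, hyd]⟩

/-- For a largest two-group fixing a quadrangle, the induced involutions fix no quadrangle. -/
theorem pairHyp_of_max {U : Subgroup G} [Fact (QuadFix (P := P) L (U : Set G))]
    (hU : IsPGroup 2 U) (hodd : Odd (ord (FP P U) (FL L U)))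
    (hmax : ∀ S : Subgroup G, IsPGroup 2 S → QuadFix (P := P) L (S : Set G) →
      Nat.card S ≤ Nat.card U)
    (hpt : ∀ a b : FP P U, a ≠ b →
      ¬ IsSyl 2 U (MulAction.stabilizer G a.1 ⊓ MulAction.stabilizer G b.1))
    (hln : ∀ a b : FL L U, a ≠ b →
      ¬ IsSyl 2 U (MulAction.stabilizer G a.1 ⊓ MulAction.stabilizer G b.1)) :
    PairHyp (FixGrp P L U) (FP P U) (FL L U) := by
  haveI : Fact (Nat.Prime 2) := ⟨Nat.prime_two⟩
  set π := (fixHom P L U).rangeRestrict with hπ
  have hker : ∀ u : Subgroup.normalizer (U : Set G), (u : G) ∈ U → π u = 1 := fun u hu =>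
    Subtype.ext (Prod.ext (Equiv.ext fun p => Subtype.ext (p.2 _ hu))
      (Equiv.ext fun l => Subtype.ext (l.2 _ hu)))
  -- a two-element whose image fixes a quadrangle lies in `U`
  have hmem : ∀ w : Subgroup.normalizer (U : Set G), (∃ k, (w : G) ^ 2 ^ k = 1) →
      QuadFix (P := FP P U) (FL L U) ({π w} : Set (FixGrp P L U)) → (w : G) ∈ U := by
    intro w hw hq
    have hq' : QuadFix (P := FP P U) (FL L U)
        (π '' {x | x = w ∨ (x : G) ∈ U}) := by
      obtain ⟨a, b, c, d, hQ, hf⟩ := hq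
      refine ⟨a, b, c, d, hQ, ?_⟩
      rintro _ ⟨x, rfl | hx, rfl⟩
      · exact hf _ rfl
      · rw [hker x hx]; simp
    obtain ⟨a, b, c, d, hQ, hf⟩ := quadFix_lift hq'
    obtain ⟨k, hk⟩ := hw
    have hWp : IsPGroup 2 (Subgroup.zpowers (w : G)) := by
      rintro ⟨x, hx⟩
      obtain ⟨i, rfl⟩ := Subgroup.mem_zpowers_iff.1 hx
      exact ⟨k, Subtype.ext (by
        show ((w : G) ^ i) ^ (2 ^ k) = 1
        rw [← zpow_natCast, ← zpow_mul, mul_comm, zpow_mul, zpow_natCast, hk, one_zpow])⟩
    have hsup := hWp.to_sup_of_normal_right' hU (Subgroup.zpowers_le.2 w.2)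
    have hfix : ∀ e : P, (∀ g ∈ (Subtype.val '' {x : Subgroup.normalizer (U : Set G) |
        x = w ∨ (x : G) ∈ U}), g • e = e) → Subgroup.zpowers (w : G) ⊔ U ≤ MulAction.stabilizer G e :=
      fun e he => sup_le (zpowers_fix (he _ ⟨w, Or.inl rfl, rfl⟩))
        fun u hu => he u ⟨⟨u, Subgroup.le_normalizer hu⟩, Or.inr hu, rfl⟩
    have hle := hmax _ hsup ⟨a, b, c, d, hQ, fun g hg => ⟨hfix a (fun x hx => (hf x hx).1) hg,
      hfix b (fun x hx => (hf x hx).2.1) hg, hfix c (fun x hx => (hf x hx).2.2.1) hg,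
      hfix d (fun x hx => (hf x hx).2.2.2) hg⟩⟩
    exact (Subgroup.eq_of_le_of_card_ge le_sup_right hle).ge
      (Subgroup.mem_sup_left (Subgroup.mem_zpowers (w : G)))
  have hstep : ∀ w : Subgroup.normalizer (U : Set G), (w : G) ∉ U → (∃ k, (w : G) ^ 2 ^ k = 1) →
      (w : G) * w ∈ U → π w * π w = 1 ∧ π w ≠ 1 := by
    intro w hwU hwk hw2
    refine ⟨by rw [← map_mul]; exact hker _ hw2, fun e => hwU (hmem w hwk ?_)⟩
    obtain ⟨a, b, c, d, hQ⟩ := exists_quad (FP P U) (FL L U)
    exact ⟨a, b, c, d, hQ, fun g hg => by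
      rw [Set.mem_singleton_iff.1 hg, e]; simp⟩
  refine ⟨hodd, fun x hx2 hx1 => ?_, fun a b hab => ?_, fun a b hab => ?_⟩
  · refine (invol_dichotomy (P := FP P U) (L := FL L U) hx2 hx1).resolve_left fun hq => ?_
    obtain ⟨y, rfl⟩ := (fixHom P L U).rangeRestrict_surjective x
    obtain ⟨k, r, hr, hyr⟩ := Nat.exists_eq_two_pow_mul_odd (orderOf_pos (y : G)).ne'
    obtain ⟨j, rfl⟩ := hr
    have hπy : π (y ^ (2 * j + 1)) = π y := by
      rw [map_pow, pow_succ, pow_mul, sq, hx2, one_pow, one_mul]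
    refine hx1 (hπy.symm.trans (hker _ (hmem _ ⟨k, ?_⟩ (hπy ▸ hq))))
    rw [SubmonoidClass.coe_pow, ← pow_mul, mul_comm, ← hyr, pow_orderOf_eq_one]
  · obtain ⟨w, hwU, hw2, hwk, ha, hb⟩ := exists_step hU a b (hpt a b hab)
    obtain ⟨h1, h2⟩ := hstep w hwU hwk hw2
    exact ⟨π w, h1, h2, ha, hb⟩
  · obtain ⟨w, hwU, hw2, hwk, ha, hb⟩ := exists_step hU a b (hln a b hab)
    obtain ⟨h1, h2⟩ := hstep w hwU hwk hw2
    exact ⟨π w, h1, h2, ha, hb⟩

end

/-- **The order of a doubly transitive plane is a prime power.** -/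
theorem isPrimePow_ord : ∀ {G P L : Type} [Group G] [Membership P L] [MulAction G P] [MulAction G L]
    [IsColl G P L] [ProjectivePlane P L] [Finite G] [Finite P] [Finite L] [FaithfulSMul G P],
    TwoTrans G P → IsPrimePow (ord P L) := by
  suffices H : ∀ (N : ℕ), ∀ {G P L : Type} [Group G] [Membership P L] [MulAction G P]
      [MulAction G L] [IsColl G P L] [ProjectivePlane P L] [Finite G] [Finite P] [Finite L]
      [FaithfulSMul G P], ord P L = N → TwoTrans G P → IsPrimePow (ord P L) by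
    intro G P L _ _ _ _ _ _ _ _ _ _ ht
    exact H _ rfl ht
  intro N
  induction N using Nat.strong_induction_on with
  | _ N IH =>
    intro G P L _ _ _ _ _ _ _ _ _ _ hN ht
    by_cases hp : ∃ (g : G) (c : P) (m : L), Persp g c m
    · obtain ⟨g, c, m, h⟩ := hp
      exact isPrimePow_of_persp ht h
    push Not at hp
    haveI : Fact (Nat.Prime 2) := ⟨Nat.prime_two⟩
    have hodd := odd_ord ht hp
    obtain ⟨A, -⟩ := @ProjectivePlane.exists_config P L _ _
    obtain ⟨g, hg⟩ := exists_prime_orderOf_dvd_card' 2 (even_card G L ht A)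
    have hg2 : g * g = 1 := by rw [← sq, ← hg, pow_orderOf_eq_one]
    have hg1 : g ≠ 1 := fun e => by rw [e, orderOf_one] at hg; omega
    have hqg : QuadFix (P := P) L ({g} : Set G) :=
      (invol_dichotomy hg2 hg1).resolve_right fun ⟨c, m, h⟩ => hp g c m h
    -- a largest two-group fixing a quadrangle
    obtain ⟨U, ⟨hU, hUq⟩, hmax⟩ :=
      Set.Finite.exists_maximalFor (fun S : Subgroup G => Nat.card S)
        {S : Subgroup G | IsPGroup 2 S ∧ QuadFix (P := P) L (S : Set G)} (Set.toFinite _)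
        ⟨⊥, IsPGroup.of_bot, by
          obtain ⟨a, b, c, d, hQ⟩ := exists_quad P L
          exact ⟨a, b, c, d, hQ, fun k hk => by
            rw [SetLike.mem_coe, Subgroup.mem_bot] at hk; subst hk; simp⟩⟩
    haveI := Fact.mk hUq
    have hmax' : ∀ S : Subgroup G, IsPGroup 2 S → QuadFix (P := P) L (S : Set G) →
        Nat.card S ≤ Nat.card U := fun S h1 h2 =>
      le_of_not_gt fun h => not_le.2 h (hmax ⟨h1, h2⟩ h.le)
    have hgp : IsPGroup 2 (Subgroup.zpowers g) := IsPGroup.of_card (n := 1)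
      (by rw [Nat.card_zpowers, hg, pow_one])
    have hU1 : U ≠ ⊥ := fun e => by
      obtain ⟨a, b, c, d, hQ, hf⟩ := hqg
      obtain ⟨ha, hb, hc, hd⟩ := hf g rfl
      have := hmax' _ hgp ⟨a, b, c, d, hQ, fun k hk => ⟨zpowers_fix ha hk, zpowers_fix hb hk,
        zpowers_fix hc hk, zpowers_fix hd hk⟩⟩
      rw [Nat.card_zpowers, hg, e, Subgroup.card_bot] at this
      omega
    obtain ⟨j, hj⟩ := tower (P := P) (L := L) U hU
    have hlt : ord (FP P U) (FL L U) < N := hN ▸ ord_fix_lt hU1
    suffices hs : IsPrimePow (ord (FP P U) (FL L U)) from hj ▸ hs.pow (pow_ne_zero _ two_ne_zero)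
    by_cases hsp : ∃ a b : FP P U, a ≠ b ∧
        IsSyl 2 U (MulAction.stabilizer G a.1 ⊓ MulAction.stabilizer G b.1)
    · obtain ⟨A, B, hne, hS⟩ := hsp
      refine IH _ hlt rfl (G := FixGrp P L U) fun a b c d hab hcd => ?_
      obtain ⟨x, hxa, hxb⟩ := twoTrans_fix ht hne hS a b c d hab hcd
      exact ⟨(fixHom P L U).rangeRestrict x, hxa, hxb⟩
    by_cases hsl : ∃ a b : FL L U, a ≠ b ∧
        IsSyl 2 U (MulAction.stabilizer G a.1 ⊓ MulAction.stabilizer G b.1)
    · obtain ⟨A, B, hne, hS⟩ := hsl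
      have htl : TwoTrans (FixGrp P L U) (FL L U) := fun a b c d hab hcd => by
        obtain ⟨x, hxa, hxb⟩ := twoTrans_fix (TwoTrans.dual (L := L) ht) hne hS a b c d hab hcd
        exact ⟨(fixHom P L U).rangeRestrict x, hxa, hxb⟩
      exact IH _ hlt rfl (G := FixGrp P L U) (TwoTrans.dual (P := Configuration.Dual (FL L U))
        (L := Configuration.Dual (FP P U)) htl)
    push Not at hsp hsl
    refine (pairHyp_of_max hU ?_ hmax' hsp hsl).isPrimePow
    exact (Nat.odd_pow_iff (pow_ne_zero _ two_ne_zero)).1 (hj ▸ hodd)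

end Cfsg.Agent.ProjPlane
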