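import Cfsg.Agent.ProjPlane.SubPlane

/-!
# Two-groups fixing a quadrangle

The fixed subplane of a two-group fixing a quadrangle has order a repeated square root.
-/

set_option autoImplicit false
set_option linter.unusedSectionVars false

open scoped Classical

namespace Cfsg.Agent.ProjPlane

open Configuration

section

variable {G P L : Type*} [Group G] [Membership P L] [MulAction G P] [MulAction G L]

variable (P L) in
theorem exists_quad [ProjectivePlane P L] [Finite P] [Finite L] :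
    ∃ a b c d : P, Quad L a b c d := by
  obtain ⟨c, a, b, -, l, m, hcl, -, -, hal, ham, -, hbl, hbm⟩ :=
    @ProjectivePlane.exists_config P L _ _
  have hab : a ≠ b := fun e => hbm (e ▸ ham)
  obtain ⟨x, hx, hxa, hxb⟩ := exists_on_ne l a b
  have hxc : c ≠ x := fun e => hcl (e ▸ hx)
  obtain ⟨d, hd, hdc, hdx⟩ := exists_on_ne (ln L c x) c x
  have hck : c ∈ ln L c x := left_ln hxc
  have hxk : x ∈ ln L c x := right_ln hxc
  have hkl : ln L c x ≠ l := fun e => hcl (e ▸ hck)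
  have hnab : ¬ Col L a b c := fun ⟨k, h1, h2, h3⟩ => hcl (eq_of_two hab h1 h2 hal hbl ▸ h3)
  refine ⟨a, b, c, d, hnab, ?_, ?_, ?_⟩
  · rintro ⟨k, h1, h2, h3⟩
    rw [eq_of_two hab h1 h2 hal hbl] at h3
    exact hdx (eq_of_two' hkl hd hxk h3 hx)
  · rintro ⟨k, h1, h2, h3⟩
    rw [eq_of_two hdc h3 h2 hd hck] at h1
    exact hxa (eq_of_two' hkl hxk h1 hx hal)
  · rintro ⟨k, h1, h2, h3⟩
    rw [eq_of_two hdc h3 h2 hd hck] at h1
    exact hxb (eq_of_two' hkl hxk h1 hx hbl)

theorem QuadFix.mono {S T : Set G} (h : T ⊆ S) (hq : QuadFix (P := P) L S) :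
    QuadFix (P := P) L T :=
  let ⟨a, b, c, d, hQ, hf⟩ := hq; ⟨a, b, c, d, hQ, fun g hg => hf g (h hg)⟩

variable [IsColl G P L] [ProjectivePlane P L]

/-- A fixed quadrangle gives fixed quadrilaterals. -/
theorem QuadFix.dual {S : Set G} (hq : QuadFix (P := P) L S) :
    QuadFix (P := Configuration.Dual L) (Configuration.Dual P) S := by
  obtain ⟨a, b, c, d, hQ, hf⟩ := hq
  obtain ⟨hab, -, hbc⟩ := ne_of_not_col hQ.abc
  obtain ⟨-, -, hcd⟩ := ne_of_not_col hQ.acd
  obtain ⟨-, had, -⟩ := ne_of_not_col hQ.abd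
  refine ⟨ln L a b, ln L b c, ln L c d, ln L d a, ⟨?_, ?_, ?_, ?_⟩, fun g hg => ?_⟩
  · rintro ⟨(x : P), (h1 : x ∈ ln L a b), (h2 : x ∈ ln L b c), (h3 : x ∈ ln L c d)⟩
    have hne : ln L a b ≠ ln L b c := fun e => hQ.abc ⟨_, left_ln hab, right_ln hab, e ▸ right_ln hbc⟩
    rw [eq_of_two' hne h1 (right_ln hab) h2 (left_ln hbc)] at h3
    exact hQ.bcd ⟨_, h3, left_ln hcd, right_ln hcd⟩
  · rintro ⟨(x : P), (h1 : x ∈ ln L a b), (h2 : x ∈ ln L b c), (h3 : x ∈ ln L d a)⟩
    have hne : ln L a b ≠ ln L b c := fun e => hQ.abc ⟨_, left_ln hab, right_ln hab, e ▸ right_ln hbc⟩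
    rw [eq_of_two' hne h1 (right_ln hab) h2 (left_ln hbc)] at h3
    exact hQ.abd ⟨_, right_ln had.symm, h3, left_ln had.symm⟩
  · rintro ⟨(x : P), (h1 : x ∈ ln L a b), (h2 : x ∈ ln L c d), (h3 : x ∈ ln L d a)⟩
    have hne : ln L a b ≠ ln L d a := fun e =>
      hQ.abd ⟨_, left_ln hab, right_ln hab, e ▸ left_ln had.symm⟩
    rw [eq_of_two' hne h1 (left_ln hab) h3 (right_ln had.symm)] at h2
    exact hQ.acd ⟨_, h2, left_ln hcd, right_ln hcd⟩
  · rintro ⟨(x : P), (h1 : x ∈ ln L b c), (h2 : x ∈ ln L c d), (h3 : x ∈ ln L d a)⟩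
    have hne : ln L b c ≠ ln L c d := fun e => hQ.bcd ⟨_, left_ln hbc, right_ln hbc, e ▸ right_ln hcd⟩
    rw [eq_of_two' hne h1 (right_ln hbc) h2 (left_ln hcd)] at h3
    exact hQ.acd ⟨_, right_ln had.symm, h3, left_ln had.symm⟩
  · obtain ⟨ha, hb, hc, hd⟩ := hf g hg
    exact ⟨fix_ln (L := L) hab ha hb, fix_ln (L := L) hbc hb hc, fix_ln (L := L) hcd hc hd,
      fix_ln (L := L) had.symm hd ha⟩

/-- A perspectivity fixes no quadrangle. -/
theorem Persp.not_quadFix [Finite P] [Finite L] [FaithfulSMul G P] {g : G} {c : P} {l : L}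
    (h : Persp g c l) : ¬ QuadFix (P := P) L ({g} : Set G) := by
  rintro ⟨a, b, e, d, hQ, hf⟩
  obtain ⟨ha, hb, he, hd⟩ := hf g rfl
  obtain ⟨hab, hae, hbe⟩ := ne_of_not_col hQ.abc
  obtain ⟨-, had, hbd⟩ := ne_of_not_col hQ.abd
  obtain ⟨-, -, hed⟩ := ne_of_not_col hQ.acd
  have key : ∀ {x : P}, g • x = x → x ≠ c → x ∈ l := fun hx hne => (h.fix_iff.1 hx).resolve_right hne
  by_cases h1 : a = c
  · exact hQ.bcd ⟨l, key hb (h1 ▸ hab.symm), key he (h1 ▸ hae.symm), key hd (h1 ▸ had.symm)⟩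
  by_cases h2 : b = c
  · exact hQ.acd ⟨l, key ha h1, key he (h2 ▸ hbe.symm), key hd (h2 ▸ hbd.symm)⟩
  by_cases h3 : e = c
  · exact hQ.abd ⟨l, key ha h1, key hb h2, key hd (h3 ▸ hed.symm)⟩
  · exact hQ.abc ⟨l, key ha h1, key hb h2, key he h3⟩

/-- An involutory perspectivity of a plane of odd order is a homology. -/
theorem Persp.homology [Finite P] [Finite L] [FaithfulSMul G P] {g : G} {c : P} {l : L}
    (h : Persp g c l) (h2 : g * g = 1) (hn : Odd (ord P L)) : c ∉ l := by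
  intro hc
  obtain ⟨m, hm, hml, -⟩ := exists_through_ne (P := P) c l l
  cases nonempty_fintype P
  let f : {p : P // p ∈ m ∧ p ≠ c} → {p : P // p ∈ m ∧ p ≠ c} := fun p =>
    ⟨g • p.1, by have := smul_mem g p.2.1; rwa [h.cent m hm] at this,
      fun e => p.2.2 (MulAction.injective g (e.trans h.smul_cent.symm))⟩
  have hff : Function.Involutive f := fun p => Subtype.ext (by
    show g • g • p.1 = p.1
    rw [← mul_smul, h2, one_smul])
  have hfix : ∀ p, f p ≠ p := fun p e => by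
    rcases h.fix_iff.1 (congrArg Subtype.val e) with h1 | h1
    · exact p.2.2 (eq_of_two' hml p.2.1 hm h1 hc)
    · exact p.2.2 h1
  haveI : Fact (Nat.Prime 2) := ⟨Nat.prime_two⟩
  have hσ : (hff.toPerm f) ^ 2 ^ 1 = 1 := by
    ext p; simp only [pow_one, sq, Equiv.Perm.mul_apply, Function.Involutive.coe_toPerm, hff p,
      Equiv.Perm.one_apply]
  have hd := Equiv.Perm.card_compl_support_modEq hσ
  have hsupp : (hff.toPerm f).support = Finset.univ := Finset.eq_univ_of_forall fun p =>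
    Equiv.Perm.mem_support.2 (hfix p)
  rw [hsupp, Finset.compl_univ, Finset.card_empty] at hd
  have hcard : Fintype.card {p : P // p ∈ m ∧ p ≠ c} = ord P L := by
    have h1 := card_on (P := P) m
    rw [Nat.card_eq_fintype_card, Fintype.card_subtype] at h1
    rw [Fintype.card_subtype]
    have h2 := Finset.card_erase_add_one (s := Finset.univ.filter fun p : P => p ∈ m) (a := c)
      (by simp [hm])
    have h3 : (Finset.univ.filter fun p : P => p ∈ m ∧ p ≠ c) =
        (Finset.univ.filter fun p : P => p ∈ m).erase c := by ext p; simp [and_comm]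
    rw [h3]; omega
  rw [hcard] at hd
  exact Nat.not_even_iff_odd.2 hn (Nat.even_iff.2 hd.symm)

omit [IsColl G P L] in
theorem ord_eq_of_card [Finite P] [Finite L] {P' L' : Type*} [Membership P' L']
    [ProjectivePlane P' L'] [Finite P'] [Finite L'] (h : Nat.card P = Nat.card P') :
    ord P L = ord P' L' := by
  rw [natCard_points P L, natCard_points P' L'] at h
  rcases lt_trichotomy (ord P L) (ord P' L') with h1 | h1 | h1
  · nlinarith
  · exact h1
  · nlinarith

/-- A quadrangle of the fixed subplane is fixed upstairs. -/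
theorem quadFix_lift [Finite P] [Finite L] {U : Subgroup G}
    [Fact (QuadFix (P := P) L (U : Set G))] {S : Set (Subgroup.normalizer (U : Set G))}
    (h : QuadFix (P := FP P U) (FL L U) ((fixHom P L U).rangeRestrict '' S)) :
    QuadFix (P := P) L (Subtype.val '' S) := by
  obtain ⟨a, b, c, d, hQ, hf⟩ := h
  have hcol : ∀ {x y z : FP P U}, x ≠ y → Col L x.1 y.1 z.1 → Col (FL L U) x y z := by
    intro x y z hne h
    rw [col_iff (fun e => hne (Subtype.ext e))] at h
    exact ⟨⟨ln L x.1 y.1, fun g hg => fix_ln (fun e => hne (Subtype.ext e)) (x.2 g hg) (y.2 g hg)⟩,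
      left_ln (fun e => hne (Subtype.ext e)), right_ln (fun e => hne (Subtype.ext e)), h⟩
  obtain ⟨hab, hac, hbc⟩ := ne_of_not_col hQ.abc
  refine ⟨a.1, b.1, c.1, d.1, ⟨fun h => hQ.abc (hcol hab h), fun h => hQ.abd (hcol hab h),
    fun h => hQ.acd (hcol hac h), fun h => hQ.bcd (hcol hbc h)⟩, ?_⟩
  rintro _ ⟨x, hx, rfl⟩
  obtain ⟨h1, h2, h3, h4⟩ := hf _ ⟨x, hx, rfl⟩
  exact ⟨congrArg Subtype.val h1, congrArg Subtype.val h2, congrArg Subtype.val h3,
    congrArg Subtype.val h4⟩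

end

/-- **The tower**: a two-group fixing a quadrangle fixes a subplane of order a repeated square
root. -/
theorem tower : ∀ {G P L : Type} [Group G] [Membership P L] [MulAction G P] [MulAction G L]
    [IsColl G P L] [ProjectivePlane P L] [Finite G] [Finite P] [Finite L] [FaithfulSMul G P]
    (U : Subgroup G) [Fact (QuadFix (P := P) L (U : Set G))], IsPGroup 2 U →
    ∃ j, ord P L = ord (FP P U) (FL L U) ^ 2 ^ j := by
  suffices H : ∀ (N : ℕ), ∀ {G P L : Type} [Group G] [Membership P L] [MulAction G P]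
      [MulAction G L] [IsColl G P L] [ProjectivePlane P L] [Finite G] [Finite P] [Finite L]
      [FaithfulSMul G P] (U : Subgroup G) [Fact (QuadFix (P := P) L (U : Set G))],
      ord P L = N → IsPGroup 2 U → ∃ j, ord P L = ord (FP P U) (FL L U) ^ 2 ^ j by
    intro G P L _ _ _ _ _ _ _ _ _ _ U _ hU
    exact H _ U rfl hU
  intro N
  induction N using Nat.strong_induction_on with
  | _ N IH =>
    intro G P L _ _ _ _ _ _ _ _ _ _ U hQU hN hU
    by_cases h0 : U = ⊥
    · refine ⟨0, ?_⟩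
      rw [pow_zero, pow_one]
      exact ord_eq_of_card (Nat.card_congr (Equiv.subtypeUnivEquiv fun p g hg => by
        rw [h0, Subgroup.mem_bot] at hg
        rw [hg, one_smul]).symm)
    haveI : Fact (Nat.Prime 2) := ⟨Nat.prime_two⟩
    haveI : Nontrivial U := (Subgroup.nontrivial_iff_ne_bot U).2 h0
    have hZ : 2 ∣ Nat.card (Subgroup.center U) := by
      haveI := hU.center_nontrivial
      exact (hU.to_subgroup (Subgroup.center U)).card_eq_or_dvd.resolve_left
        Finite.one_lt_card.ne'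
    obtain ⟨z, hz⟩ := exists_prime_orderOf_dvd_card' 2 hZ
    set g : G := ((z : U) : G) with hg
    have hgo : orderOf g = 2 := by rw [hg, Subgroup.orderOf_coe, Subgroup.orderOf_coe, hz]
    have hg2 : g * g = 1 := by rw [← sq, ← hgo, pow_orderOf_eq_one]
    have hg1 : g ≠ 1 := fun e => by rw [e, orderOf_one] at hgo; omega
    set Z := Subgroup.zpowers g with hZd
    have hZU : Z ≤ U := Subgroup.zpowers_le.2 (z : U).2
    haveI hQZ : Fact (QuadFix (P := P) L (Z : Set G)) := ⟨QuadFix.mono hZU hQU.out⟩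
    have hUN : U ≤ Subgroup.normalizer (Z : Set G) := fun u hu => by
      refine Subgroup.centralizer_le_normalizer _ ?_
      rw [Subgroup.mem_centralizer_iff]
      intro k hk
      obtain ⟨i, rfl⟩ := Subgroup.mem_zpowers_iff.1 hk
      have hc : Commute u g := congrArg Subtype.val (Subgroup.mem_center_iff.1 z.2 ⟨u, hu⟩)
      exact (hc.zpow_right i).eq.symm
    set U' : Subgroup (FixGrp P L Z) :=
      (U.subgroupOf (Subgroup.normalizer (Z : Set G))).map (fixHom P L Z).rangeRestrict with hU'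
    have hU'p : IsPGroup 2 U' :=
      (hU.comap_of_injective (Subgroup.normalizer (Z : Set G)).subtype
        Subtype.coe_injective).map _
    haveI hQ' : Fact (QuadFix (P := FP P Z) (FL L Z) (U' : Set (FixGrp P L Z))) := by
      obtain ⟨a, b, c, d, hQ, hf⟩ := hQU.out
      refine ⟨⟨⟨a, fun k hk => (hf k (hZU hk)).1⟩, ⟨b, fun k hk => (hf k (hZU hk)).2.1⟩,
        ⟨c, fun k hk => (hf k (hZU hk)).2.2.1⟩, ⟨d, fun k hk => (hf k (hZU hk)).2.2.2⟩,
        ⟨fun ⟨l, h⟩ => hQ.abc ⟨l.1, h⟩, fun ⟨l, h⟩ => hQ.abd ⟨l.1, h⟩,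
          fun ⟨l, h⟩ => hQ.acd ⟨l.1, h⟩, fun ⟨l, h⟩ => hQ.bcd ⟨l.1, h⟩⟩, ?_⟩⟩
      rintro _ ⟨x, hx, rfl⟩
      obtain ⟨h1, h2, h3, h4⟩ := hf x.1 hx
      exact ⟨Subtype.ext h1, Subtype.ext h2, Subtype.ext h3, Subtype.ext h4⟩
    have hb : ord P L = ord (FP P Z) (FL L Z) ^ 2 := ord_baer hg2 hg1
    have hlt : ord (FP P Z) (FL L Z) < N :=
      hN ▸ ord_fix_lt fun e => hg1 (Subgroup.zpowers_eq_bot.1 e)
    obtain ⟨j, hj⟩ := IH _ hlt U' rfl hU'p
    have hs : ord (FP (FP P Z) U') (FL (FL L Z) U') = ord (FP P U) (FL L U) := by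
      refine ord_eq_of_card (Nat.card_congr ?_)
      exact {
        toFun := fun x => ⟨x.1.1, fun u hu => congrArg Subtype.val
          (x.2 _ ⟨⟨u, hUN hu⟩, hu, rfl⟩)⟩
        invFun := fun x => ⟨⟨x.1, fun k hk => x.2 k (hZU hk)⟩, by
          rintro _ ⟨y, hy, rfl⟩
          exact Subtype.ext (x.2 y.1 hy)⟩
        left_inv := fun x => rfl
        right_inv := fun x => rfl }
    refine ⟨j + 1, ?_⟩
    rw [hb, hj, hs, ← pow_mul, pow_succ]

end Cfsg.Agent.ProjPlane
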