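import Cfsg.Agent.ProjPlane.Elations
import Cfsg.Agent.ProjPlane.Tower
import Cfsg.Agent.ProjPlane.Syl

/-!
# All pairs fixed by involutory homologies: the order is a prime power

If every involution is a homology and every pair of points and every pair of lines is fixed by one,
every point is a centre, some elation exists and some translation group is full.
-/

set_option autoImplicit false
set_option linter.unusedSectionVars false

open scoped Classical

namespace Cfsg.Agent.ProjPlane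

open Configuration

variable {G P L : Type*} [Group G] [Membership P L] [MulAction G P] [MulAction G L]
  [IsColl G P L] [ProjectivePlane P L] [Finite P] [Finite L] [Finite G] [FaithfulSMul G P]

variable (G P L) in
/-- Every involution is a perspectivity and every pair is fixed by one. -/
structure PairHyp : Prop where
  odd : Odd (ord P L)
  invol : ∀ g : G, g * g = 1 → g ≠ 1 → ∃ (c : P) (l : L), Persp g c l
  pts : ∀ a b : P, a ≠ b → ∃ g : G, g * g = 1 ∧ g ≠ 1 ∧ g • a = a ∧ g • b = b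
  lns : ∀ a b : L, a ≠ b → ∃ g : G, g * g = 1 ∧ g ≠ 1 ∧ g • a = a ∧ g • b = b

variable (G) in
/-- An involutory homology with centre `c` and axis `l` lies in the group. -/
def Ax (c : P) (l : L) : Prop := ∃ g : G, g * g = 1 ∧ Persp g c l

variable (G) in
/-- An elation with centre `c` and axis `l` lies in the group. -/
def El (c : P) (l : L) : Prop := c ∈ l ∧ ∃ g : G, Persp g c l

/-- An elation moving one centre to another on the same axis. -/
theorem exists_moving (hodd : Odd (ord P L)) {l : L} {c c' : P} (h : Ax G c l) (h' : Ax G c' l)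
    (hne : c ≠ c') : ∃ (σ : G) (e : P), σ • c = c' ∧ e ∈ l ∧ e ∈ ln L c c' ∧ Persp σ e l := by
  obtain ⟨a, ha2, ha⟩ := h
  obtain ⟨b, hb2, hb⟩ := h'
  obtain ⟨e, hel, hec, hτ⟩ := elation_of_two ha2 hb2 ha hb (ha.homology ha2 hodd) hne
  set τ := a * b with hτd
  have hτm : τ ∈ elat G P l := mem_elat_iff.2 (Or.inr ⟨e, hel, hτ⟩)
  have hord : Odd (orderOf τ) := by
    have h1 : orderOf τ ∣ ord P L ^ 2 :=
      (Subgroup.orderOf_dvd_natCard _ hτm).trans (card_elat_dvd l)
    exact Odd.of_dvd_nat hodd.pow h1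
  obtain ⟨j, hj⟩ := hord
  set σ := τ ^ (j + 1) with hσ
  have hσσ : σ * σ = τ := by
    rw [hσ, ← pow_add, show j + 1 + (j + 1) = orderOf τ + 1 by omega, pow_succ, pow_orderOf_eq_one,
      one_mul]
  have hai : a⁻¹ = a := inv_eq_of_mul_eq_one_right ha2
  have hbi : b⁻¹ = b := inv_eq_of_mul_eq_one_right hb2
  have hinv : a * τ * a⁻¹ = τ⁻¹ := by
    rw [hτd, mul_inv_rev, hai, hbi, ← mul_assoc, ha2, one_mul]
  have hσinv : a * σ * a⁻¹ = σ⁻¹ := by rw [hσ, ← conj_pow, hinv, inv_pow]
  have hconj : σ⁻¹ * a * σ = b := by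
    have hb' : b = a * σ * σ := by rw [mul_assoc, hσσ, hτd, ← mul_assoc, ha2, one_mul]
    rw [hb']
    congr 1
    rw [← hσinv, inv_mul_cancel_right]
  have hpc := ha.conj σ⁻¹
  rw [inv_inv, hconj] at hpc
  obtain ⟨hc', -⟩ := hb.unique hpc
  have hσne : σ ≠ 1 := fun e' => hτ.ne (by rw [← hσσ, e', one_mul])
  have hσC : σ ∈ elatC G P e l := by
    rw [hσ]; exact pow_mem (mem_elatC_of_persp hτ hel) _
  exact ⟨σ⁻¹, e, hc', hel, hec, (persp_of_elatC hσC hσne).inv⟩

/-- If every point off `l` is a centre with axis `l`, the order is a prime power. -/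
theorem primePow_of_all_centres (hodd : Odd (ord P L)) {l : L}
    (h : ∀ c : P, c ∉ l → Ax G c l) : IsPrimePow (ord P L) := by
  obtain ⟨c₀, hc₀⟩ := Nondegenerate.exists_point (P := P) l
  have hmem : ∀ {σ : G} {e : P}, e ∈ l → Persp σ e l → σ ∈ elat G P l := fun he hp =>
    mem_elat_iff.2 (Or.inr ⟨_, he, hp⟩)
  have hfull : Full G P l := by
    rw [Full, ← card_off (P := P) l]
    refine Nat.card_le_card_of_surjective (fun t : elat G P l => t • (⟨c₀, hc₀⟩ : {x : P // x ∉ l}))
      fun x => ?_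
    by_cases hx : x.1 = c₀
    · exact ⟨1, Subtype.ext (by show (1 : G) • c₀ = x.1; rw [one_smul, hx])⟩
    · obtain ⟨σ, e, hσ, he, -, hp⟩ := exists_moving hodd (h c₀ hc₀) (h x.1 x.2) (Ne.symm hx)
      exact ⟨⟨σ, hmem he hp⟩, Subtype.ext hσ⟩
  have hdir : ∀ A : P, A ∈ l → ∃ σ ∈ elat G P l, Persp σ A l := by
    intro A hA
    have hc₀A : c₀ ≠ A := fun e => hc₀ (e ▸ hA)
    obtain ⟨c₁, hc₁, hne, hc₁A⟩ := exists_on_ne (ln L c₀ A) c₀ A
    have hjl : ln L c₀ A ≠ l := fun e => hc₀ (e ▸ left_ln hc₀A)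
    have hc₁l : c₁ ∉ l := fun e => hc₁A (eq_of_two' hjl hc₁ (right_ln hc₀A) e hA)
    obtain ⟨σ, e, -, hel, hej, hp⟩ := exists_moving hodd (h c₀ hc₀) (h c₁ hc₁l) hne.symm
    have he : e = A := by
      rw [← eq_ln hne.symm (left_ln hc₀A) hc₁] at hej
      exact eq_of_two' hjl hej (right_ln hc₀A) hel hA
    exact ⟨σ, hmem hel hp, he ▸ hp⟩
  obtain ⟨A, hA, -⟩ := exists_on_notMem (P := P) l ∅ (Nat.zero_le _)
  obtain ⟨B, hB, hBA, -⟩ := exists_on_ne (P := P) l A A
  obtain ⟨σ, hσ, hσp⟩ := hdir A hA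
  obtain ⟨τ, hτ, hτp⟩ := hdir B hB
  exact isPrimePow_of_full hfull ⟨σ, hσ, τ, hτ, A, B, hσp, hτp, hBA.symm⟩

theorem Persp.undual {g : G} {c : P} {l : L}
    (h : Persp (P := Configuration.Dual L) (L := Configuration.Dual P) g l c) : Persp g c l :=
  ⟨h.ne, h.cent, h.axis⟩

theorem PairHyp.dual (h : PairHyp G P L) :
    PairHyp G (Configuration.Dual L) (Configuration.Dual P) where
  odd := by rw [ord, ProjectivePlane.Dual.order]; exact h.odd
  invol g h2 h1 := by
    obtain ⟨c, l, hp⟩ := h.invol g h2 h1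
    exact ⟨l, c, hp.dual⟩
  pts a b hab := h.lns a b hab
  lns a b hab := h.pts a b hab

theorem Ax.smul {c : P} {l : L} (h : Ax G c l) (k : G) : Ax G (k • c) (k • l) := by
  obtain ⟨g, h2, hp⟩ := h
  exact ⟨k * g * k⁻¹, by rw [conj_mul, h2, mul_one, mul_inv_cancel], hp.conj k⟩

theorem Ax.notMem (h : PairHyp G P L) {c : P} {l : L} (hc : Ax G c l) : c ∉ l :=
  let ⟨_, h2, hp⟩ := hc; hp.homology h2 h.odd

/-- Two homologies with centres on each other's axis: the meet of the axes is a centre. -/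
theorem centre_of_cross (h : PairHyp G P L) {a c c' : P} {m m' : L} (hne : m ≠ m') (ham : a ∈ m)
    (ham' : a ∈ m') (hc : Ax G c m) (hc' : Ax G c' m') (hcm : c ∈ m') (hcm' : c' ∈ m) :
    ∃ k : L, Ax G a k := by
  have hcnm := hc.notMem h
  have hcnm' := hc'.notMem h
  have hcc : c ≠ c' := fun e => hcnm (e ▸ hcm')
  obtain ⟨g, g2, hg⟩ := hc
  obtain ⟨g', g2', hg'⟩ := hc'
  have gi : g⁻¹ = g := inv_eq_of_mul_eq_one_right g2
  have gi' : g'⁻¹ = g' := inv_eq_of_mul_eq_one_right g2'
  have hc1 : g • c' = c' := hg.axis c' hcm'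
  have hm1 : g • m' = m' := hg.cent m' hcm
  have hc2 : g' • c = c := hg'.axis c hcm
  have hm2 : g' • m = m := hg'.cent m hcm'
  have hj : Persp (g * g' * g⁻¹) c' m' := by have := hg.conj g'; have := hg'.conj g; rwa [hc1, hm1] at this
  have hj' : Persp (g' * g * g'⁻¹) c m := by have := hg.conj g'; rwa [hc2, hm2] at this
  have hsq : g * g' * (g * g') = 1 := by
    by_contra hne1
    have e1 : g * g' * (g * g') = g * g' * g⁻¹ * g' := by rw [gi]; simp [mul_assoc]
    have e2 : g * g' * (g * g') = g * (g' * g * g'⁻¹) := by rw [gi']; simp [mul_assoc]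
    have p1 : Persp (g * g' * (g * g')) c' m' := ⟨hne1,
      fun x hx => by rw [e1, mul_smul, hg'.axis x hx, hj.axis x hx],
      fun k hk => by rw [e1, mul_smul, hg'.cent k hk, hj.cent k hk]⟩
    have p2 : Persp (g * g' * (g * g')) c m := ⟨hne1,
      fun x hx => by rw [e2, mul_smul, hj'.axis x hx, hg.axis x hx],
      fun k hk => by rw [e2, mul_smul, hj'.cent k hk, hg.cent k hk]⟩
    exact hcc (p1.unique p2).1
  have hgg1 : g * g' ≠ 1 := fun e => hcc (by
    rw [← gi, inv_mul_eq_one] at e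
    exact (hg'.cent_unique (e ▸ hg.cent)))
  obtain ⟨x, k, hk⟩ := h.invol _ hsq hgg1
  have hka : k ≠ m := by
    rintro rfl
    refine hne (hg'.axis_unique fun y hy => ?_)
    have h1 : (g * g') • y = y := hk.axis y hy
    have h2 : g' • y ∈ k := hm2 ▸ smul_mem g' hy
    rwa [mul_smul, hg.axis _ h2] at h1
  have hkb : k ≠ m' := by
    rintro rfl
    refine hne (hg.axis_unique fun y hy => ?_).symm
    have h1 : (g * g') • y = y := hk.axis y hy
    rwa [mul_smul, hg'.axis y hy] at h1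
  have fa : (g * g') • a = a := by rw [mul_smul, hg'.axis a ham', hg.axis a ham]
  have fc : (g * g') • c = c := by rw [mul_smul, hc2, hg.smul_cent]
  have fc' : (g * g') • c' = c' := by rw [mul_smul, hg'.smul_cent, hc1]
  rcases hk.fix_iff.1 fa with hak | hak
  · rcases hk.fix_iff.1 fc with e | e
    · exact absurd (eq_of_two (fun e' : a = c => hcnm (e' ▸ ham)) hak e ham' hcm) hkb
    rcases hk.fix_iff.1 fc' with e' | e'
    · exact absurd (eq_of_two (fun e'' : a = c' => hcnm' (e'' ▸ ham')) hak e' ham hcm') hka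
    · exact absurd (e.trans e'.symm) hcc
  · exact ⟨k, g * g', hsq, hak ▸ hk⟩

/-- Every point is a centre. -/
theorem exists_axis (h : PairHyp G P L) (a : P) : ∃ l : L, Ax G a l := by
  by_contra hno
  push Not at hno
  have pair : ∀ m m' : L, a ∈ m → a ∈ m' → m ≠ m' →
      (∃ c, c ∈ m' ∧ Ax G c m) ∨ (∃ c, c ∈ m ∧ Ax G c m') := by
    intro m m' hm hm' hne
    obtain ⟨g, g2, g1, gm, gm'⟩ := h.lns m m' hne
    obtain ⟨c, k, hp⟩ := h.invol g g2 g1
    rcases hp.fix_line_iff.1 gm with h1 | h1 <;> rcases hp.fix_line_iff.1 gm' with h2 | h2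
    · exact absurd ⟨g, g2, eq_of_two' hne h1 hm h2 hm' ▸ hp⟩ (hno k)
    · exact Or.inr ⟨c, h1, g, g2, h2 ▸ hp⟩
    · exact Or.inl ⟨c, h2, g, g2, h1 ▸ hp⟩
    · exact absurd (h1.trans h2.symm) hne
  have cross : ∀ m m' : L, a ∈ m → a ∈ m' → m ≠ m' →
      (∃ c, c ∈ m' ∧ Ax G c m) → (∃ c, c ∈ m ∧ Ax G c m') → False := by
    rintro m m' hm hm' hne ⟨c, hc, hAc⟩ ⟨c', hc', hAc'⟩
    obtain ⟨k, hk⟩ := centre_of_cross h hne hm hm' hAc hAc' hc hc'
    exact hno k hk
  obtain ⟨m₀, hm₀, -⟩ := exists_through_notMem (L := L) a ∅ (Nat.zero_le _)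
  obtain ⟨m₁, hm₁, hne₁, -⟩ := exists_through_ne (P := P) a m₀ m₀
  obtain ⟨m, m', hm, hm', hne, c, hc, g, g2, hg⟩ : ∃ m m' : L, a ∈ m ∧ a ∈ m' ∧ m ≠ m' ∧
      ∃ c, c ∈ m' ∧ Ax G c m := by
    rcases pair m₀ m₁ hm₀ hm₁ hne₁.symm with h1 | h1
    · exact ⟨m₀, m₁, hm₀, hm₁, hne₁.symm, h1⟩
    · exact ⟨m₁, m₀, hm₁, hm₀, hne₁, h1⟩
  obtain ⟨m₂, hm₂, hne₂, hne₂'⟩ := exists_through_ne (P := P) a m m'
  have hga : g • a = a := hg.axis a hm
  have hmv : g • m₂ ≠ m₂ := fun e => by
    rcases hg.fix_line_iff.1 e with h1 | h1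
    · exact hg.homology g2 h.odd (eq_of_two' hne₂' h1 hm₂ hc hm' ▸ hm)
    · exact hne₂ h1
  have hgm₂ : a ∈ g • m₂ := by rw [← hga]; exact smul_mem g hm₂
  have hgg : g • g • m₂ = m₂ := by rw [← mul_smul, g2, one_smul]
  rcases pair m₂ (g • m₂) hm₂ hgm₂ hmv.symm with ⟨d, hd, hAd⟩ | ⟨d, hd, hAd⟩
  · exact cross m₂ (g • m₂) hm₂ hgm₂ hmv.symm ⟨d, hd, hAd⟩
      ⟨g • d, hgg ▸ smul_mem g hd, hAd.smul g⟩
  · exact cross m₂ (g • m₂) hm₂ hgm₂ hmv.symm
      ⟨g • d, smul_mem g hd, hgg ▸ hAd.smul g⟩ ⟨d, hd, hAd⟩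

/-- Every line is an axis. -/
theorem exists_centre (h : PairHyp G P L) (l : L) : ∃ c : P, Ax G c l := by
  haveI := faithful_lines (G := G) (P := P) (L := L)
  obtain ⟨c, g, g2, hg⟩ := exists_axis (P := Configuration.Dual L) (L := Configuration.Dual P) h.dual l
  exact ⟨c, g, g2, Persp.undual (P := P) (L := L) hg⟩

theorem dual_ln {k k' : L} (hne : k ≠ k') :
    ln (Configuration.Dual P) (P := Configuration.Dual L) k k' = pt P k k' :=
  eq_pt (P := P) (L := L) hne (left_ln (P := Configuration.Dual L) (L := Configuration.Dual P) hne)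
    (right_ln (P := Configuration.Dual L) (L := Configuration.Dual P) hne)

/-- Elations moving one axis of a centre to another. -/
theorem exists_moving' (h : PairHyp G P L) {C : P} {k k' : L} (hk : Ax G C k) (hk' : Ax G C k')
    (hne : k ≠ k') :
    ∃ (σ : G) (j : L), σ • k = k' ∧ C ∈ j ∧ pt P k k' ∈ j ∧ Persp σ C j := by
  haveI := faithful_lines (G := G) (P := P) (L := L)
  obtain ⟨g, g2, hg⟩ := hk
  obtain ⟨g', g2', hg'⟩ := hk'
  obtain ⟨σ, j, hσ, hCj, hj, hp⟩ := exists_moving (P := Configuration.Dual L)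
    (L := Configuration.Dual P) h.dual.odd ⟨g, g2, hg.dual⟩ ⟨g', g2', hg'.dual⟩ hne
  rw [dual_ln hne] at hj
  exact ⟨σ, j, hσ, hCj, hj, Persp.undual (P := P) (L := L) hp⟩

/-- Two axes of a centre give an elation. -/
theorem el_of_two_axes (h : PairHyp G P L) {C : P} {k k' : L} (hk : Ax G C k) (hk' : Ax G C k')
    (hne : k ≠ k') : El G C (ln L C (pt P k k')) := by
  obtain ⟨σ, j, -, hCj, hKj, hp⟩ := exists_moving' h hk hk' hne
  have hCK : C ≠ pt P k k' := fun e => hk.notMem h (e ▸ pt_left hne)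
  rw [← eq_ln hCK hCj hKj]
  exact ⟨hCj, σ, hp⟩

/-- A centre of a line through `C` without elation lies on every axis of `C`. -/
theorem centre_on_axis (h : PairHyp G P L) {C E : P} {k m : L} (hk : Ax G C k) (hCm : C ∈ m)
    (hno : ¬ El G C m) (hE : Ax G E m) : E ∈ k := by
  have hEm := hE.notMem h
  have hEC : E ≠ C := fun e => hEm (e ▸ hCm)
  obtain ⟨g, g2, hg⟩ := hk
  have hgm : g • m = m := hg.cent m hCm
  have hgE : g • E = E := by
    by_contra hne
    have h2 : Ax G (g • E) m := hgm ▸ hE.smul g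
    obtain ⟨σ, e, -, hem, hej, hp⟩ := exists_moving h.odd hE h2 (Ne.symm hne)
    have hj : g • E ∈ ln L E C := by
      rw [← hg.cent _ (right_ln hEC)]; exact smul_mem g (left_ln hEC)
    rw [← eq_ln (Ne.symm hne) (left_ln hEC) hj] at hej
    have he : e = C :=
      eq_of_two' (fun e' : ln L E C = m => hEm (e' ▸ left_ln hEC)) hej (right_ln hEC) hem hCm
    subst he
    exact hno ⟨hem, σ, hp⟩
  exact (hg.fix_iff.1 hgE).resolve_right hEC

/-- If all axes of `C` pass through `K`, so does the axis of an elation with centre `C`. -/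
theorem el_axis (h : PairHyp G P L) {C K : P} {k k' j : L} (hk : Ax G C k) (hk' : Ax G C k')
    (hne : k ≠ k') (hall : ∀ i : L, Ax G C i → K ∈ i) (hel : El G C j) : K ∈ j := by
  obtain ⟨-, σ, hσ⟩ := hel
  have h1 : K ∈ σ • k := hall _ (hσ.smul_cent ▸ hk.smul σ)
  have h2 : K ∈ σ • k' := hall _ (hσ.smul_cent ▸ hk'.smul σ)
  have h3 : σ • K = K := eq_of_two' (fun e => hne (MulAction.injective σ e))
    (smul_mem σ (hall k hk)) h1 (smul_mem σ (hall k' hk')) h2
  exact (hσ.fix_iff.1 h3).resolve_right fun e => hk.notMem h (e ▸ hall k hk)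

theorem card_through_ne' {C : P} {j : L} (hj : C ∈ j) :
    Nat.card {m : L // C ∈ m ∧ m ≠ j} = ord P L := by
  cases nonempty_fintype L
  have h1 := card_through (L := L) C
  rw [Nat.card_eq_fintype_card, Fintype.card_subtype] at h1
  rw [Nat.card_eq_fintype_card, Fintype.card_subtype]
  have h2 := Finset.card_erase_add_one (s := Finset.univ.filter fun m : L => C ∈ m) (a := j)
    (by simp [hj])
  have h3 : (Finset.univ.filter fun m : L => C ∈ m ∧ m ≠ j) =
      (Finset.univ.filter fun m : L => C ∈ m).erase j := by ext m; simp [and_comm]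
  rw [h3]; omega

/-- A centre with two axes and a line through it without elation: prime power order. -/
theorem done_of_conc (h : PairHyp G P L) {C : P} {k k' m₁ : L} (hk : Ax G C k) (hk' : Ax G C k')
    (hne : k ≠ k') (hCm : C ∈ m₁) (hno : ¬ El G C m₁) : IsPrimePow (ord P L) := by
  set K := pt P k k' with hK
  have key : ∀ {E : P} {m : L}, C ∈ m → ¬ El G C m → Ax G E m → E = K := fun hm hn hE =>
    eq_pt hne (centre_on_axis h hk hm hn hE) (centre_on_axis h hk' hm hn hE)
  have hall : ∀ i : L, Ax G C i → K ∈ i := fun i hi => by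
    obtain ⟨E, hE⟩ := exists_centre h m₁
    rw [← key hCm hno hE]
    exact centre_on_axis h hi hCm hno hE
  have hCK : C ≠ K := fun e => hk.notMem h (e ▸ pt_left hne)
  set g₀ := ln L C K with hg₀
  have hKm : ∀ m : L, C ∈ m → m ≠ g₀ → Ax G K m := fun m hm hmg => by
    obtain ⟨E, hE⟩ := exists_centre h m
    rwa [← key hm (fun hel => hmg (eq_ln hCK hm (el_axis h hk hk' hne hall hel))) hE]
  -- the elations with centre `K` and axis `g₀`
  have hcard : ord P L ≤ Nat.card (elatC G P K g₀) := by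
    rw [← card_through_ne' (P := P) (left_ln (L := L) hCK)]
    obtain ⟨m₀, hm₀, hm₀g, -⟩ := exists_through_ne (P := P) C g₀ g₀
    refine Nat.card_le_card_of_surjective (fun σ : elatC G P K g₀ =>
      (⟨(σ : G) • m₀, ?_, ?_⟩ : {m : L // C ∈ m ∧ m ≠ g₀})) fun m => ?_
    · rw [← σ.2.1.1 C (left_ln hCK)]; exact smul_mem _ hm₀
    · exact fun e => hm₀g (MulAction.injective (σ : G) (e.trans (σ.2.2 g₀ (right_ln hCK)).symm))
    by_cases hm : m.1 = m₀
    · exact ⟨1, Subtype.ext (by simp [hm])⟩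
    obtain ⟨σ, j, hσ, hKj, hCj, hp⟩ := exists_moving' h (hKm m₀ hm₀ hm₀g) (hKm m.1 m.2.1 m.2.2)
      (Ne.symm hm)
    rw [← eq_pt (Ne.symm hm) hm₀ m.2.1] at hCj
    have hj : j = g₀ := eq_ln hCK hCj hKj
    subst hj
    exact ⟨⟨σ, mem_elatC_of_persp hp hKj⟩, Subtype.ext hσ⟩
  by_cases hmove : ∀ D : P, D ∈ g₀ → D ≠ K → ∀ i : L, Ax G D i → K ∈ i
  · -- every line missing `K` has centre `K`
    haveI := faithful_lines (G := G) (P := P) (L := L)
    have hgoal : ∀ m : L, K ∉ m → Ax G K m := by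
      intro m hm
      have hmg : m ≠ g₀ := fun e => hm (e ▸ right_ln hCK)
      set D := pt P m g₀ with hD
      have hDm : D ∈ m := pt_left hmg
      have hDg : D ∈ g₀ := pt_right hmg
      have hDK : D ≠ K := fun e => hm (e ▸ hDm)
      obtain ⟨i, hi⟩ := exists_axis h D
      have hel : El G D g₀ := by
        by_contra hn
        obtain ⟨E, hE⟩ := exists_centre h g₀
        have hEg := hE.notMem h
        have h1 := centre_on_axis h hi hDg hn hE
        obtain ⟨τ, hτ⟩ := (el_of_two_axes h hk hk' hne).2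
        have hτE : Ax G (τ • E) g₀ := (show τ • g₀ = g₀ from hτ.smul_axis) ▸ hE.smul τ
        have h2 := centre_on_axis h hi hDg hn hτE
        have hEC : E ≠ C := fun e => hEg (e ▸ left_ln hCK)
        have hne' : τ • E ≠ E := fun e => (hτ.fix_iff.1 e).elim hEg hEC
        have h3 : τ • E ∈ ln L E C := by
          rw [← hτ.cent _ (right_ln hEC)]; exact smul_mem τ (left_ln hEC)
        have h4 : C ∈ i := by
          rw [eq_of_two hne' h2 h1 h3 (left_ln hEC)]; exact right_ln hEC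
        have h5 : i = g₀ := eq_ln hCK h4 (hmove D hDg hDK i hi)
        exact hi.notMem h (h5 ▸ hDg)
      obtain ⟨-, τ, hτ⟩ := hel
      have hi' : Ax G D (τ • i) := hτ.smul_cent ▸ hi.smul τ
      have hii : i ≠ τ • i := fun e => by
        rcases hτ.fix_line_iff.1 e.symm with h1 | h1
        · exact hi.notMem h h1
        · exact hi.notMem h (h1 ▸ hDg)
      have hn : ¬ El G D m := fun hel =>
        hm (el_axis h hi hi' hii (hmove D hDg hDK) hel)
      obtain ⟨E, hE⟩ := exists_centre h m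
      have hEK : E = K := eq_of_two' hii (centre_on_axis h hi hDm hn hE) (hmove D hDg hDK i hi)
        (centre_on_axis h hi' hDm hn hE) (hmove D hDg hDK _ hi')
      exact hEK ▸ hE
    have hres := primePow_of_all_centres (P := Configuration.Dual L) (L := Configuration.Dual P)
      (G := G) h.dual.odd (l := K) fun m hm => by
        obtain ⟨g, g2, hg⟩ := hgoal m hm
        exact ⟨g, g2, hg.dual⟩
    rwa [ord, ProjectivePlane.Dual.order] at hres
  · push Not at hmove
    obtain ⟨D, hDg, hDK, i, ⟨g, g2, hg⟩, hKi⟩ := hmove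
    have hgg : g • g₀ = g₀ := hg.cent g₀ hDg
    have hgK : g • K ≠ K := fun e => (hg.fix_iff.1 e).elim hKi (Ne.symm hDK)
    have hc := card_elatC_smul g (G := G) (right_ln (L := L) hCK)
    rw [hgg] at hc
    obtain ⟨hF, hT⟩ := full_of_two_centres hgK.symm hcard (hc ▸ hcard)
    exact isPrimePow_of_full hF hT

/-- Some elation exists. -/
theorem exists_el (h : PairHyp G P L) : ∃ (c : P) (l : L), El G c l := by
  by_contra hno
  push Not at hno
  cases nonempty_fintype P
  choose π hπ using exists_axis h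
  have huniq : ∀ {c : P} {l : L}, Ax G c l → l = π c := fun {c l} hl => by
    by_contra hne
    exact hno _ _ (el_of_two_axes h hl (hπ c) hne)
  have hinj : Function.Injective π := fun a b e => by
    by_contra hne
    obtain ⟨σ, x, -, hx, -, hp⟩ := exists_moving h.odd (hπ a) (e ▸ hπ b) hne
    exact hno x (π a) ⟨hx, σ, hp⟩
  have hsymm : ∀ a b : P, b ∈ π a → a ∈ π b := by
    intro a b hb
    obtain ⟨g, g2, hg⟩ := hπ a
    have h1 := (hπ b).smul g
    rw [hg.axis b hb] at h1
    refine (hg.fix_line_iff.1 (huniq h1)).resolve_right fun e => ?_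
    rw [← e] at hb
    exact (hπ b).notMem h hb
  set n := ord P L with hn
  obtain ⟨p, hp, hpn⟩ := Nat.exists_prime_and_dvd (show n ≠ 1 by
    have := two_le_ord (P := P) (L := L); omega)
  haveI := Fact.mk hp
  have hn0 : (n : ZMod p) = 0 := (ZMod.natCast_eq_zero_iff _ _).2 hpn
  set M : Matrix P P (ZMod p) := Matrix.of fun a b => if b ∈ π a then 1 else 0 with hM
  set J : Matrix P P (ZMod p) := Matrix.of fun _ _ => 1 with hJ
  have hrow : ∀ a : P, ((Finset.univ.filter fun b : P => b ∈ π a).card : ZMod p) = 1 := fun a => by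
    have := card_on (P := P) (π a)
    rw [Nat.card_eq_fintype_card, Fintype.card_subtype] at this
    rw [this, Nat.cast_add, ← hn, hn0, Nat.cast_one, zero_add]
  have h2 : M * M = J := by
    ext a c
    simp only [hM, hJ, Matrix.mul_apply, Matrix.of_apply, mul_ite, mul_one, mul_zero]
    rw [← Finset.sum_filter, ← Finset.sum_filter, Finset.filter_filter, Finset.sum_const, nsmul_one]
    by_cases hac : a = c
    · subst hac
      rw [← hrow a]
      congr 2
      ext b
      simp only [Finset.mem_filter, Finset.mem_univ, true_and]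
      exact ⟨And.right, fun hb => ⟨hsymm a b hb, hb⟩⟩
    · have hne : π a ≠ π c := fun e => hac (hinj e)
      have e : (Finset.univ.filter fun b : P => c ∈ π b ∧ b ∈ π a) = {pt P (π a) (π c)} := by
        ext b
        simp only [Finset.mem_filter, Finset.mem_univ, true_and, Finset.mem_singleton]
        constructor
        · rintro ⟨hc, ha⟩
          exact eq_pt hne ha (hsymm b c hc)
        · rintro rfl
          exact ⟨hsymm c _ (pt_right hne), pt_left hne⟩
      rw [e, Finset.card_singleton, Nat.cast_one]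
  have h3 : M * J = J := by
    ext a c
    simp only [hM, hJ, Matrix.mul_apply, Matrix.of_apply, mul_one]
    rw [← Finset.sum_filter, Finset.sum_const, nsmul_one, hrow]
  have h4 : ∀ i, M ^ (i + 2) = J := by
    intro i
    induction i with
    | zero => rw [sq, h2]
    | succ i ih => rw [pow_succ', ih, h3]
  have h5 := ZMod.trace_pow_card M
  obtain ⟨i, hi⟩ := Nat.exists_eq_add_of_le' hp.two_le
  have hMp : M ^ p = J := (congrArg (M ^ ·) hi).trans (h4 i)
  rw [hMp] at h5
  have hMt : M.trace = 0 := Finset.sum_eq_zero fun a _ => if_neg ((hπ a).notMem h)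
  have hJt : J.trace = 1 := by
    simp only [hJ, Matrix.trace, Matrix.diag_apply, Matrix.of_apply, Finset.sum_const,
      Finset.card_univ, nsmul_one, ← Nat.card_eq_fintype_card, natCard_points P L]
    push_cast
    rw [← hn, hn0]; ring
  rw [hMt, hJt, zero_pow hp.ne_zero] at h5
  exact one_ne_zero h5

/-- The points of a line, acted on by its stabiliser. -/
def linePts (g : L) : SubMulAction (MulAction.stabilizer G g) P where
  carrier := {x | x ∈ g}
  smul_mem' s x hx := by
    have := smul_mem (s : G) (show x ∈ g from hx)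
    rwa [s.2] at this

/-- All flags carry elations: prime power order. -/
theorem primePow_of_all_el (hel : ∀ (c : P) (l : L), c ∈ l → El G c l) :
    IsPrimePow (ord P L) := by
  haveI := faithful_lines (G := G) (P := P) (L := L)
  have h2 : ∀ l : L, TwoDir G P l := fun l => by
    obtain ⟨A, hA, -⟩ := exists_on_notMem (P := P) l ∅ (Nat.zero_le _)
    obtain ⟨B, hB, hBA, -⟩ := exists_on_ne (P := P) l A A
    obtain ⟨-, a, ha⟩ := hel A l hA
    obtain ⟨-, b, hb⟩ := hel B l hB
    exact ⟨a, mem_elat_iff.2 (Or.inr ⟨A, hA, ha⟩), b, mem_elat_iff.2 (Or.inr ⟨B, hB, hb⟩),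
      A, B, ha, hb, hBA.symm⟩
  have h2' : ∀ D : P, TwoDir G (Configuration.Dual L) (L := Configuration.Dual P) D := fun D => by
    obtain ⟨A, hA, -⟩ := exists_through_notMem (L := L) D ∅ (Nat.zero_le _)
    obtain ⟨B, hB, hBA, -⟩ := exists_through_ne (P := P) D A A
    obtain ⟨-, a, ha⟩ := hel D A hA
    obtain ⟨-, b, hb⟩ := hel D B hB
    exact ⟨a, mem_elat_iff.2 (Or.inr ⟨A, hA, ha.dual⟩), b,
      mem_elat_iff.2 (Or.inr ⟨B, hB, hb.dual⟩), A, B, ha.dual, hb.dual, hBA.symm⟩
  obtain ⟨x₀, -⟩ := @ProjectivePlane.exists_config P L _ _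
  obtain ⟨g, hx₀⟩ := exists_line_through (L := L) x₀
  obtain ⟨p, hp, hexp⟩ := elat_exponent (h2 g)
  haveI := Fact.mk hp
  have htr := trans_of_fix_one (X := MulAction.stabilizer G g) (α := linePts (G := G) (P := P) g)
    (p := p) fun D => by
    obtain ⟨m, hm, hmg, -⟩ := exists_through_ne (P := P) D.1 g g
    obtain ⟨-, τ, hτ⟩ := hel D.1 g D.2
    obtain ⟨-, α, hα⟩ := hel D.1 m hm
    obtain ⟨q, hq, hqexp⟩ := elat_exponent (h2' D.1)
    have hτq : τ ^ q = 1 := hqexp τ (mem_elat_iff.2 (Or.inr ⟨g, D.2, hτ.dual⟩))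
    have hτp : τ ^ p = 1 := hexp τ (mem_elat_iff.2 (Or.inr ⟨D.1, D.2, hτ⟩))
    have hpq : p = q := by
      by_contra hne
      have h1 : τ ^ p.gcd q = 1 := pow_gcd_eq_one.2 ⟨hτp, hτq⟩
      rw [(Nat.coprime_primes hp hq).2 hne, pow_one] at h1
      exact hτ.ne h1
    have hαp : α ^ p = 1 := hpq ▸ hqexp α (mem_elat_iff.2 (Or.inr ⟨m, hm, hα.dual⟩))
    refine ⟨⟨α, hα.cent g D.2⟩, ⟨1, by rw [pow_one]; exact Subtype.ext hαp⟩,
      Subtype.ext hα.smul_cent, fun b hb => Subtype.ext ?_⟩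
    rcases hα.fix_iff.1 (congrArg Subtype.val hb) with h1 | h1
    · exact eq_of_two' hmg h1 hm b.2 D.2
    · exact h1
  set x : linePts (G := G) (P := P) g := ⟨x₀, hx₀⟩
  have heq : ∀ D : P, D ∈ g → Nat.card (elatC G P D g) = Nat.card (elatC G P x₀ g) := by
    intro D hD
    obtain ⟨⟨s, hs⟩, hsx⟩ := htr x ⟨D, hD⟩
    have e : s • x₀ = D := congrArg Subtype.val hsx
    have := card_elatC_smul s (G := G) hx₀
    rwa [e, (hs : s • g = g)] at this
  have hbig : 2 ≤ Nat.card (elatC G P x₀ g) := by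
    obtain ⟨-, τ, hτ⟩ := hel x₀ g hx₀
    haveI : Nontrivial (elatC G P x₀ g) := ⟨⟨τ, mem_elatC_of_persp hτ hx₀⟩, 1,
      fun e => hτ.ne (congrArg Subtype.val e)⟩
    exact Finite.one_lt_card
  obtain ⟨hF, hT⟩ := full_of_equal hbig heq
  exact isPrimePow_of_full hF hT

/-- **All pairs fixed by involutory homologies: the order is a prime power.** -/
theorem PairHyp.isPrimePow (h : PairHyp G P L) : IsPrimePow (ord P L) := by
  by_contra hpp
  haveI := faithful_lines (G := G) (P := P) (L := L)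
  -- an elation at `(c, g)` spreads to the lines through `c` and to the points of `g`
  have spread : ∀ {c : P} {g : L}, El G c g → ∀ m : L, c ∈ m → El G c m := by
    rintro c g ⟨hcg, τ, hτ⟩ m hm
    obtain ⟨k, hk⟩ := exists_axis h c
    have hk' : Ax G c (τ • k) := hτ.smul_cent ▸ hk.smul τ
    by_contra hn
    refine hpp (done_of_conc h hk hk' (fun e => ?_) hm hn)
    rcases hτ.fix_line_iff.1 e.symm with h1 | h1
    · exact hk.notMem h h1
    · exact hk.notMem h (h1 ▸ hcg)
  have spread' : ∀ {c : P} {g : L}, El G c g → ∀ D : P, D ∈ g → El G D g := by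
    rintro c g ⟨hcg, τ, hτ⟩ D hD
    obtain ⟨E, σ, s2, hσ⟩ := exists_centre h g
    have hk' : Ax G (τ • E) g := hτ.smul_axis ▸ Ax.smul ⟨σ, s2, hσ⟩ τ
    obtain ⟨σ', s2', hσ'⟩ := hk'
    have hEg : E ∉ g := hσ.homology s2 h.odd
    have hne : E ≠ τ • E := fun e => (hτ.fix_iff.1 e.symm).elim hEg fun e' => hEg (e' ▸ hcg)
    by_contra hn
    have hdn : ¬ El G (P := Configuration.Dual L) (L := Configuration.Dual P) g D := by
      rintro ⟨-, u, hu⟩
      exact hn ⟨hD, u, hu.undual⟩
    have hres := done_of_conc (P := Configuration.Dual L) (L := Configuration.Dual P) h.dual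
      (C := g) ⟨σ, s2, hσ.dual⟩ ⟨σ', s2', hσ'.dual⟩ hne hD hdn
    rw [ord, ProjectivePlane.Dual.order] at hres
    exact hpp hres
  refine hpp (primePow_of_all_el (G := G) fun D m hm => ?_)
  obtain ⟨c, g, hel⟩ := exists_el h
  by_cases hDg : D ∈ g
  · exact spread (spread' hel D hDg) m hm
  obtain ⟨A, hA, -⟩ := exists_on_notMem (P := P) g ∅ (Nat.zero_le _)
  have hDA : D ≠ A := fun e => hDg (e ▸ hA)
  exact spread (spread' (spread (spread' hel A hA) _ (right_ln hDA)) D (left_ln hDA)) m hm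

end Cfsg.Agent.ProjPlane
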