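import Cfsg.Agent.ProjPlane.Coll

/-!
# Perspectivities

A collineation with an axis has a centre; an involution either fixes a quadrangle or is a perspectivity.
-/

set_option autoImplicit false
set_option linter.unusedSectionVars false

open scoped Classical

namespace Cfsg.Agent.ProjPlane

open Configuration

variable {G P L : Type*} [Group G] [Membership P L] [MulAction G P] [MulAction G L]

variable (P) in
/-- All points of `l` are fixed. -/
def IsAxis (g : G) (l : L) : Prop := ∀ p : P, p ∈ l → g • p = p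

variable (L) in
/-- All lines through `c` are fixed. -/
def IsCent (g : G) (c : P) : Prop := ∀ l : L, c ∈ l → g • l = l

/-- `g` is a perspectivity with centre `c` and axis `l`. -/
structure Persp (g : G) (c : P) (l : L) : Prop where
  ne : g ≠ 1
  axis : IsAxis P g l
  cent : IsCent L g c

variable [IsColl G P L] [ProjectivePlane P L] [Finite P] [Finite L] [FaithfulSMul G P]

theorem isAxis_dual {g : G} {c : P} :
    IsAxis (L := Configuration.Dual P) (Configuration.Dual L) g c ↔ IsCent L g c := Iff.rfl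

theorem Persp.dual {g : G} {c : P} {l : L} (h : Persp g c l) :
    Persp (P := Configuration.Dual L) (L := Configuration.Dual P) g l c :=
  ⟨h.ne, h.cent, h.axis⟩

/-- An axis and two further fixed points: the identity. -/
theorem eq_one_of_axis {g : G} {l : L} (hl : IsAxis P g l) {c d : P} (hcd : c ≠ d) (hc : c ∉ l)
    (hd : d ∉ l) (hgc : g • c = c) (hgd : g • d = d) : g = 1 := by
  have key : ∀ {c d : P}, c ≠ d → c ∉ l → d ∉ l → g • c = c → g • d = d →
      ∀ x, x ∉ ln L c d → g • x = x := by
    intro c d hcd hc hd hgc hgd x hx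
    by_cases hxl : x ∈ l
    · exact hl x hxl
    have hfix : ∀ {e : P}, e ∉ l → x ≠ e → g • e = e → g • ln L x e = ln L x e := by
      intro e he hxe hge
      have hne : ln L x e ≠ l := fun e' => he (e' ▸ right_ln hxe)
      have h2 := hl _ (pt_right (P := P) hne)
      refine fix_line_of_two (fun e' => he ?_) (pt_left hne) (right_ln hxe) h2 hge
      rw [← e']; exact pt_right hne
    have hxc : x ≠ c := fun e => hx (by rw [e]; exact left_ln hcd)
    have hxd : x ≠ d := fun e => hx (by rw [e]; exact right_ln hcd)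
    refine fix_point_of_two ?_ (left_ln hxc) (left_ln hxd) (hfix hc hxc hgc) (hfix hd hxd hgd)
    intro e
    have h3 : d ∈ ln L x c := by rw [e]; exact right_ln hxd
    have h4 := left_ln (L := L) hxc
    rw [eq_ln hcd (right_ln hxc) h3] at h4
    exact hx h4
  refine eq_one_of_fix_points (P := P) fun x => ?_
  by_cases hx : x ∈ ln L c d
  · by_cases hxl : x ∈ l
    · exact hl x hxl
    obtain ⟨e, hel, hem⟩ := exists_off_two l (ln L c d)
    by_cases hxc : x = c
    · rw [hxc, hgc]
    have hce : c ≠ e := fun e' => hem (e' ▸ left_ln hcd)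
    refine key hce hc hel hgc (key hcd hc hd hgc hgd e hem) x fun hx' => hem ?_
    have := eq_of_two hxc hx (left_ln hcd) hx' (left_ln hce)
    exact this ▸ right_ln hce
  · exact key hcd hc hd hgc hgd x hx

/-- A collineation with an axis has a centre. -/
theorem exists_cent {g : G} {l : L} (hl : IsAxis P g l) (hg : g ≠ 1) : ∃ c, Persp g c l := by
  have hgl : g • l = l := by
    obtain ⟨a, ha, -⟩ := exists_on_notMem (P := P) l ∅ (Nat.zero_le _)
    obtain ⟨b, hb, hba, -⟩ := exists_on_ne (P := P) l a a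
    exact fix_line_of_two hba hb ha (hl b hb) (hl a ha)
  by_cases hc : ∃ c, c ∉ l ∧ g • c = c
  · obtain ⟨c, hcl, hgc⟩ := hc
    refine ⟨c, hg, hl, fun m hm => ?_⟩
    have hne : m ≠ l := fun e => hcl (e ▸ hm)
    refine fix_line_of_two (fun e => hcl ?_) (pt_left hne) hm (hl _ (pt_right hne)) hgc
    rw [← e]; exact pt_right hne
  · push Not at hc
    have hmv : ∀ x, x ∉ l → g • x ≠ x := hc
    have hfix : ∀ x, x ∉ l → g • ln L x (g • x) = ln L x (g • x) := by
      intro x hx
      have hne : ln L x (g • x) ≠ l := fun e => hx (e ▸ left_ln (Ne.symm (hmv x hx)))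
      have hE := pt_left (P := P) hne
      have hgE : g • pt P (ln L x (g • x)) l = pt P (ln L x (g • x)) l := hl _ (pt_right hne)
      refine eq_of_two (a := g • x) (b := pt P (ln L x (g • x)) l) ?_
        (smul_mem g (left_ln (Ne.symm (hmv x hx)))) ?_ (right_ln (Ne.symm (hmv x hx))) hE
      · intro e
        exact hx (by rw [← MulAction.injective g (hgE.trans e.symm)]; exact pt_right hne)
      · have h := smul_mem g hE
        rwa [hgE] at h
    obtain ⟨x, hx, -⟩ := exists_off_two (P := P) l l
    set m := ln L x (g • x) with hm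
    have hml : m ≠ l := fun e => hx (e ▸ left_ln (Ne.symm (hmv x hx)))
    refine ⟨pt P m l, hg, hl, fun k hk => ?_⟩
    by_cases hkl : k = l
    · rw [hkl, hgl]
    obtain ⟨y, hy, hyl⟩ := exists_on_off (P := P) (Ne.symm hkl)
    set m' := ln L y (g • y) with hm'
    have hym' : y ∈ m' := left_ln (Ne.symm (hmv y hyl))
    suffices h : pt P m l ∈ m' by
      have hyne : y ≠ pt P m l := fun e => hyl (e ▸ pt_right hml)
      rw [eq_of_two hyne hy hk hym' h]
      exact hfix y hyl
    by_cases he : m = m'
    · exact he ▸ pt_left hml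
    · have h2 : g • pt P m m' = pt P m m' :=
        fix_point_of_two he (pt_left he) (pt_right he) (hfix x hx) (hfix y hyl)
      have h3 : pt P m m' ∈ l := by
        by_contra h
        exact hmv _ h h2
      rw [← eq_pt hml (pt_left he) h3]
      exact pt_right he

namespace Persp

variable {g : G} {c : P} {l : L} (h : Persp g c l)

include h

theorem smul_cent : g • c = c := by
  obtain ⟨m, hm, -⟩ := exists_through_notMem (L := L) c ∅ (Nat.zero_le _)
  obtain ⟨k, hk, hkm, -⟩ := exists_through_ne (P := P) c m m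
  exact fix_point_of_two hkm hk hm (h.cent k hk) (h.cent m hm)

theorem smul_axis : g • l = l := by
  obtain ⟨a, ha, -⟩ := exists_on_notMem (P := P) l ∅ (Nat.zero_le _)
  obtain ⟨b, hb, hba, -⟩ := exists_on_ne (P := P) l a a
  exact fix_line_of_two hba hb ha (h.axis b hb) (h.axis a ha)

theorem fix_iff {p : P} : g • p = p ↔ p ∈ l ∨ p = c := by
  refine ⟨fun hp => ?_, fun hp => hp.elim (h.axis p) fun e => e ▸ h.smul_cent⟩
  by_contra hn
  push Not at hn
  by_cases hc : c ∈ l
  · -- a fixed point off the axis of an elation: every point is fixed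
    obtain ⟨k, hk, hkl, hkp⟩ := exists_through_ne (P := P) p (ln L p c) (ln L p c)
    have hkl' : k ≠ l := fun e => hn.1 (e ▸ hk)
    have hck : c ∉ k := fun e => hkl (eq_ln hn.2 hk e)
    obtain ⟨q, hq, hqp, hqe⟩ := exists_on_ne k p (pt P k l)
    have hql : q ∉ l := fun e => hqe (eq_pt hkl' hq e)
    have hgk : g • k = k := fix_line_of_two (fun e => hn.1 (by rw [← e]; exact pt_right hkl'))
      (pt_left hkl') hk (h.axis _ (pt_right hkl')) hp
    have hqc : q ≠ c := fun e => hck (e ▸ hq)
    have hgq : g • q = q := fix_point_of_two (fun e => hck (by rw [e]; exact right_ln hqc)) hq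
      (left_ln hqc) hgk (h.cent _ (right_ln hqc))
    exact h.ne (eq_one_of_axis h.axis hqp hql hn.1 hgq hp)
  · exact h.ne (eq_one_of_axis h.axis hn.2 hn.1 hc hp h.smul_cent)

theorem fix_line_iff {m : L} : g • m = m ↔ c ∈ m ∨ m = l :=
  haveI := faithful_lines (G := G) (P := P) (L := L)
  Persp.fix_iff (P := Configuration.Dual L) (L := Configuration.Dual P) (h := h.dual)

theorem axis_unique {l' : L} (h' : IsAxis P g l') : l' = l := by
  by_contra hne
  obtain ⟨a, ha, hal⟩ := exists_on_off (P := P) (Ne.symm hne)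
  obtain ⟨b, hb, hba, hbp⟩ := exists_on_ne l' a (pt P l' l)
  exact h.ne (eq_one_of_axis h.axis hba (fun e => hbp (eq_pt hne hb e)) hal (h' b hb) (h' a ha))

theorem cent_unique {c' : P} (h' : IsCent L g c') : c' = c :=
  haveI := faithful_lines (G := G) (P := P) (L := L)
  Persp.axis_unique (P := Configuration.Dual L) (L := Configuration.Dual P) (h := h.dual) h'

theorem unique {c' : P} {l' : L} (h' : Persp g c' l') : c' = c ∧ l' = l :=
  ⟨h.cent_unique h'.cent, h.axis_unique h'.axis⟩

omit [FaithfulSMul G P] [Finite P] [Finite L] in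
theorem conj (k : G) : Persp (k * g * k⁻¹) (k • c) (k • l) where
  ne e := h.ne (conj_eq_one_iff.1 e)
  axis p hp := by
    rw [mul_smul, mul_smul, h.axis _ ((mem_smul_iff k).1 hp), smul_inv_smul]
  cent m hm := by
    rw [mul_smul, mul_smul, h.cent _ ((smul_mem_iff' k).1 hm), smul_inv_smul]

omit [FaithfulSMul G P] [Finite P] [Finite L] [ProjectivePlane P L] [IsColl G P L] in
theorem inv : Persp g⁻¹ c l where
  ne := inv_ne_one.2 h.ne
  axis p hp := by conv_lhs => rw [← h.axis p hp, inv_smul_smul]
  cent m hm := by conv_lhs => rw [← h.cent m hm, inv_smul_smul]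

end Persp

/-- A fixed quadrangle. -/
def QuadFix (L : Type*) [Membership P L] (S : Set G) : Prop :=
  ∃ a b c d : P, Quad L a b c d ∧ ∀ g ∈ S, g • a = a ∧ g • b = b ∧ g • c = c ∧ g • d = d

/-- Every line contains a fixed point of an involution. -/
theorem invol_line {g : G} (h2 : g * g = 1) (hg : g ≠ 1) (l : L) :
    ∃ p : P, p ∈ l ∧ g • p = p := by
  have hgg : ∀ p : P, g • g • p = p := fun p => by rw [← mul_smul, h2, one_smul]
  have hggl : ∀ m : L, g • g • m = m := fun m => by rw [← mul_smul, h2, one_smul]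
  by_cases hl : g • l = l
  · have hx : ∃ x, x ∉ l ∧ g • x ≠ x := by
      by_contra hall
      push Not at hall
      refine hg (eq_one_of_fix_points (P := P) fun p => ?_)
      by_cases hp : p ∈ l
      · obtain ⟨m, hm, hml, -⟩ := exists_through_ne (P := P) p l l
        obtain ⟨x, hxm, hxl⟩ := exists_on_off (P := P) (Ne.symm hml)
        obtain ⟨y, hym, hyx, hyp⟩ := exists_on_ne m x p
        refine fix_point_of_two hml hm hp (fix_line_of_two hyx hym hxm (hall y ?_) (hall x hxl)) hl
        exact fun e => hyp (eq_of_two' hml hym hm e hp)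
      · exact hall p hp
    obtain ⟨x, hx, hgx⟩ := hx
    set m := ln L x (g • x) with hm
    have hgm : g • m = m := by
      refine eq_of_two hgx ?_ ?_ (right_ln (Ne.symm hgx)) (left_ln (Ne.symm hgx))
      · exact smul_mem g (left_ln (Ne.symm hgx))
      · have := smul_mem g (right_ln (L := L) (Ne.symm hgx))
        rwa [hgg] at this
    have hml : m ≠ l := fun e => hx (e ▸ left_ln (Ne.symm hgx))
    exact ⟨pt P m l, pt_right hml, fix_point_of_two hml (pt_left hml) (pt_right hml) hgm hl⟩
  · refine ⟨pt P l (g • l), pt_left (Ne.symm hl), ?_⟩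
    rw [smul_pt g (Ne.symm hl), hggl]
    exact eq_pt (Ne.symm hl) (pt_right hl) (pt_left hl)

/-- Every point lies on a fixed line of an involution. -/
theorem invol_point {g : G} (h2 : g * g = 1) (hg : g ≠ 1) (p : P) :
    ∃ l : L, p ∈ l ∧ g • l = l :=
  haveI := faithful_lines (G := G) (P := P) (L := L)
  invol_line (P := Configuration.Dual L) (L := Configuration.Dual P) h2 hg p

/-- **An involution fixes a quadrangle or is a perspectivity.** -/
theorem invol_dichotomy {g : G} (h2 : g * g = 1) (hg : g ≠ 1) :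
    QuadFix (P := P) L ({g} : Set G) ∨ ∃ (c : P) (l : L), Persp g c l := by
  by_contra hcon
  push Not at hcon
  obtain ⟨hq, hp⟩ := hcon
  have hax : ∀ l : L, ∃ x, x ∈ l ∧ g • x ≠ x := fun l => by
    by_contra h
    push Not at h
    obtain ⟨c, hc⟩ := exists_cent h hg
    exact hp c l hc
  have quad : ∀ {a b c d : P}, g • a = a → g • b = b → g • c = c → g • d = d → Quad L a b c d →
      False := fun ha hb hc hd hQ => hq ⟨_, _, _, _, hQ, by rintro k rfl; exact ⟨ha, hb, hc, hd⟩⟩
  -- through every point of a line there is a line with a fixed point elsewhere, off any given point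
  have push' : ∀ (l : L) (c : P), ∃ e, e ∉ l ∧ e ≠ c ∧ g • e = e := by
    intro l c
    obtain ⟨x, hxl, hgx⟩ := hax l
    obtain ⟨m, hm, hml, hmc⟩ := exists_through_ne (P := P) x l (ln L x c)
    obtain ⟨e, he, hge⟩ := invol_line h2 hg m
    refine ⟨e, fun h => hgx (eq_of_two' hml he hm h hxl ▸ hge), fun hec => ?_, hge⟩
    by_cases hxc : x = c
    · exact hgx (by rw [hxc, ← hec, hge])
    · exact hmc (eq_ln hxc hm (hec ▸ he))
  obtain ⟨x₀, -⟩ := @ProjectivePlane.exists_config P L _ _
  obtain ⟨l₀, -⟩ := exists_line_through (L := L) x₀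
  obtain ⟨a, -, -, hga⟩ := push' l₀ x₀
  obtain ⟨b, -, hba, hgb⟩ := push' l₀ a
  have hab : a ≠ b := hba.symm
  obtain ⟨c, hc, -, hgc⟩ := push' (ln L a b) a
  have hca : c ≠ a := fun e => hc (by rw [e]; exact left_ln hab)
  have hcb : c ≠ b := fun e => hc (by rw [e]; exact right_ln hab)
  -- no side has a third fixed point
  have side : ∀ {a b c d : P}, g • a = a → g • b = b → g • c = c → g • d = d → a ≠ b →
      c ∉ ln L a b → d ∈ ln L a b → d ≠ a → d ≠ b → False := by
    intro a b c d hga hgb hgc hgd hab hc hd hda hdb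
    obtain ⟨e, he, hec, hge⟩ := push' (ln L a b) c
    have hm : c ∈ ln L c e := left_ln hec.symm
    have hem : e ∈ ln L c e := right_ln hec.symm
    have hne : ln L c e ≠ ln L a b := fun h => hc (h ▸ hm)
    set f := pt P (ln L c e) (ln L a b) with hf
    have two : ∃ u w : P, u ∈ ln L a b ∧ w ∈ ln L a b ∧ u ≠ w ∧ u ≠ f ∧ w ≠ f ∧
        g • u = u ∧ g • w = w := by
      by_cases h1 : a = f
      · exact ⟨b, d, right_ln hab, hd, hdb.symm, fun h => hab (h1.trans h.symm),
          fun h => hda (h.trans h1.symm), hgb, hgd⟩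
      by_cases h2 : b = f
      · exact ⟨a, d, left_ln hab, hd, hda.symm, h1, fun h => hdb (h.trans h2.symm), hga, hgd⟩
      · exact ⟨a, b, left_ln hab, right_ln hab, hab, h1, h2, hga, hgb⟩
    obtain ⟨u, w, hu, hw, huw, huf, hwf, hgu, hgw⟩ := two
    refine quad hgu hgw hgc hge ⟨?_, ?_, ?_, ?_⟩
    · rintro ⟨k, hk1, hk2, hk3⟩
      exact hc (eq_of_two huw hk1 hk2 hu hw ▸ hk3)
    · rintro ⟨k, hk1, hk2, hk3⟩
      exact he (eq_of_two huw hk1 hk2 hu hw ▸ hk3)
    · rintro ⟨k, hk1, hk2, hk3⟩
      exact huf (eq_pt hne (eq_of_two hec.symm hk2 hk3 hm hem ▸ hk1) hu)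
    · rintro ⟨k, hk1, hk2, hk3⟩
      exact hwf (eq_pt hne (eq_of_two hec.symm hk2 hk3 hm hem ▸ hk1) hw)
  obtain ⟨x, hx, hxa, hxb⟩ := exists_on_ne (ln L a b) a b
  have hgx : g • x ≠ x := fun h => side hga hgb hgc h hab hc hx hxa hxb
  obtain ⟨m, hm, hm1, hm2⟩ := exists_through_ne (P := P) x (ln L a b) (ln L x c)
  obtain ⟨e, he, hge⟩ := invol_line h2 hg m
  have hne : e ∉ ln L a b := fun h => hgx (eq_of_two' hm1 he hm h hx ▸ hge)
  have hxc : x ≠ c := fun h => hc (h ▸ hx)
  have hec : e ≠ c := fun h => hm2 (eq_ln hxc hm (h ▸ he))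
  by_cases hac : e ∈ ln L a c
  · refine side hga hgc hgb hge hca.symm ?_ hac (fun h => hne (by rw [h]; exact left_ln hab)) hec
    intro h
    exact hc (eq_of_two hab (left_ln hca.symm) h (left_ln hab) (right_ln hab) ▸ right_ln hca.symm)
  by_cases hbc : e ∈ ln L b c
  · refine side hgb hgc hga hge hcb.symm ?_ hbc (fun h => hne (by rw [h]; exact right_ln hab)) hec
    intro h
    exact hc (eq_of_two hab h (left_ln hcb.symm) (left_ln hab) (right_ln hab) ▸ right_ln hcb.symm)
  refine quad hga hgb hgc hge ⟨?_, ?_, ?_, ?_⟩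
  · exact fun h => hc ((col_iff hab).1 h)
  · exact fun h => hne ((col_iff hab).1 h)
  · exact fun h => hac ((col_iff hca.symm).1 h)
  · exact fun h => hbc ((col_iff hcb.symm).1 h)

end Cfsg.Agent.ProjPlane
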