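import Mathlib

/-!
# Lemmas on finite fields acting on a finite abelian group

Dual bases for the automorphisms, surjectivity of the norm, and eigenvectors of semilinear maps.
-/

set_option autoImplicit false

open Finset

namespace Cfsg.Agent.ProjPlane.SpreadAux

open scoped Classical in
/-- A dual system separating the identity from the other automorphisms. -/
theorem exists_dual (F : Type*) [Field F] [Finite F] :
    ∃ (m : ℕ) (e f : ℕ → F), ∀ τ : RingAut F, ∑ i ∈ range m, e i * τ (f i) = if τ = 1 then 1 else 0 := by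
  classical
  have : Finite (RingAut F) := Finite.of_injective (fun τ : RingAut F => (τ : F → F)) DFunLike.coe_injective
  have : Fintype (RingAut F) := Fintype.ofFinite _
  obtain ⟨θ, hθ⟩ := IsCyclic.exists_generator (α := Fˣ)
  have hinj : Function.Injective (fun τ : RingAut F => τ (θ : F)) := by
    intro σ τ h
    refine RingEquiv.ext fun x => ?_
    rcases eq_or_ne x 0 with rfl | hx
    · rw [map_zero, map_zero]
    · obtain ⟨k, hk⟩ := Subgroup.mem_zpowers_iff.1 (hθ (Units.mk0 x hx))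
      have hk' : ((θ : F)) ^ k = x := by rw [← Units.val_zpow_eq_zpow_val, hk, Units.val_mk0]
      rw [← hk', map_zpow₀, map_zpow₀, show σ (θ : F) = τ (θ : F) from h]
  let v := fun τ : RingAut F => τ (θ : F)
  let P := Lagrange.basis (univ : Finset (RingAut F)) v 1
  refine ⟨P.natDegree + 1, fun i => P.coeff i, fun i => (θ : F) ^ i, fun τ => ?_⟩
  have h : ∑ i ∈ range (P.natDegree + 1), P.coeff i * τ ((θ : F) ^ i) = P.eval (v τ) := by
    rw [Polynomial.eval_eq_sum_range]
    simp only [map_pow, v]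
  rw [h]
  split_ifs with he
  · rw [he]
    exact Lagrange.eval_basis_self hinj.injOn (mem_univ _)
  · exact Lagrange.eval_basis_of_ne (Ne.symm he) (mem_univ _)

/-- An element fixed by an automorphism is a norm. -/
theorem norm_fixed {F : Type*} [Field F] [Finite F] (τ : RingAut F) {η : F} (hη : τ η = η) :
    ∃ μ : F, ∏ i ∈ range (orderOf τ), (τ ^ i) μ = η := by
  classical
  have : Finite (RingAut F) := Finite.of_injective (fun τ : RingAut F => (τ : F → F)) DFunLike.coe_injective
  have : FaithfulSMul (Subgroup.zpowers τ) F := ⟨fun {a b} h => Subtype.ext (RingEquiv.ext h)⟩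
  have : Fintype (Subgroup.zpowers τ) := Fintype.ofFinite _
  let k := FixedPoints.subfield (Subgroup.zpowers τ) F
  have hmem : η ∈ k := by
    rintro ⟨g, hg⟩
    show g η = η
    obtain ⟨j, hj⟩ := (mem_powers_iff_mem_zpowers (x := τ)).2 hg
    have hj' : τ ^ j = g := hj
    rw [← hj']
    clear hj hj'
    induction j with
    | zero => rfl
    | succ j ih =>
      rw [pow_succ, RingAut.mul_apply, hη, ih]
  obtain ⟨μ, hμ⟩ := FiniteField.norm_surjective k F ⟨η, hmem⟩
  refine ⟨μ, ?_⟩
  have h1 := Algebra.norm_eq_prod_automorphisms k μ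
  rw [hμ] at h1
  rw [show η = algebraMap k F ⟨η, hmem⟩ from rfl, h1,
    ← (FixedPoints.toAlgAutMulEquiv (Subgroup.zpowers τ) F).toEquiv.prod_comp,
    ← Fin.prod_univ_eq_prod_range]
  exact (finEquivZPowers (isOfFinOrder_of_finite τ)).prod_comp fun g : Subgroup.zpowers τ => (g : RingAut F) μ

/-- A semilinear map of finite order up to a scalar has an eigenvector in every invariant subgroup. -/
theorem exists_eigen {M : Type*} [AddCommGroup M] {F : Type*} [Field F] [Finite F]
    (ρ : F →+* AddMonoid.End M) (τ : RingAut F) (g : AddMonoid.End M) (hg : ∀ k, g * ρ k = ρ (τ k) * g)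
    {η : F} (hη : τ η = η) (hη0 : η ≠ 0) (U : AddSubgroup M) (hρU : ∀ k, ∀ z ∈ U, ρ k z ∈ U)
    (hgU : ∀ z ∈ U, g z ∈ U) {z : M} (hz : z ∈ U) (hz0 : z ≠ 0)
    (hyz : (g ^ orderOf τ) z = ρ η z) :
    ∃ w ∈ U, w ≠ 0 ∧ ∃ μ : F, μ ≠ 0 ∧ g w = ρ μ w := by
  classical
  have : Finite (RingAut F) := Finite.of_injective (fun τ : RingAut F => (τ : F → F)) DFunLike.coe_injective
  set n := orderOf τ
  have hn : 0 < n := orderOf_pos τ
  obtain ⟨μ, hμ⟩ := norm_fixed τ hη
  have hμ0 : μ ≠ 0 := fun h => hη0 (by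
    rw [← hμ, h]
    exact prod_eq_zero (mem_range.2 hn) (map_zero (τ ^ 0)))
  set T := ρ μ⁻¹ * g with hT
  have hTρ : ∀ k, T * ρ k = ρ (τ k) * T := fun k => by
    rw [hT, mul_assoc, hg, ← mul_assoc, ← map_mul, mul_comm μ⁻¹, map_mul, mul_assoc]
  have hTρ' : ∀ (i : ℕ) (k : F), T ^ i * ρ k = ρ ((τ ^ i) k) * T ^ i := by
    intro i
    induction i with
    | zero => intro k; simp
    | succ i ih =>
      intro k
      rw [pow_succ T, mul_assoc, hTρ, ← mul_assoc, ih, mul_assoc, pow_succ τ, RingAut.mul_apply]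
  have hpow : ∀ i : ℕ, T ^ i = ρ (∏ j ∈ range i, (τ ^ j) μ⁻¹) * g ^ i := by
    intro i
    induction i with
    | zero => simp
    | succ i ih =>
      rw [pow_succ T, prod_range_succ, mul_comm (∏ j ∈ range i, (τ ^ j) μ⁻¹), map_mul, mul_assoc, show T ^ i * T = (T ^ i * ρ μ⁻¹) * g by rw [hT, mul_assoc],
        hTρ', ih, mul_assoc, mul_assoc, ← pow_succ]
  have hTn : (T ^ n) z = z := by
    rw [hpow]
    show ρ _ ((g ^ n) z) = z
    rw [hyz]
    show (ρ _ * ρ η) z = z
    rw [← map_mul]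
    simp only [map_inv₀]
    rw [prod_inv_distrib, hμ, inv_mul_cancel₀ hη0, map_one]
    rfl
  have hTU : ∀ x ∈ U, T x ∈ U := fun x hx => hρU _ _ (hgU x hx)
  have hTiU : ∀ (i : ℕ) (x : M), x ∈ U → (T ^ i) x ∈ U := by
    intro i
    induction i with
    | zero => exact fun x hx => hx
    | succ i ih => exact fun x hx => by rw [pow_succ]; exact ih _ (hTU x hx)
  let w := fun l : F => ∑ i ∈ range n, (T ^ i) (ρ l z)
  obtain ⟨m, e, f, hef⟩ := exists_dual F
  have hsum : ∑ j ∈ range m, ρ (e j) (w (f j)) = z := by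
    have hc : ∀ (i : ℕ) (l : F), (T ^ i) (ρ l z) = ρ ((τ ^ i) l) ((T ^ i) z) := fun i l =>
      DFunLike.congr_fun (hTρ' i l) z
    simp only [w, map_sum, hc]
    rw [sum_comm]
    have h1 : ∀ i ∈ range n, ∑ j ∈ range m, ρ (e j) (ρ ((τ ^ i) (f j)) ((T ^ i) z)) =
        if i = 0 then z else 0 := by
      intro i hi
      have : ∑ j ∈ range m, ρ (e j) (ρ ((τ ^ i) (f j)) ((T ^ i) z)) =
          ρ (∑ j ∈ range m, e j * (τ ^ i) (f j)) ((T ^ i) z) := by
        rw [map_sum]
        refine Eq.trans ?_ (map_sum (AddMonoidHom.eval ((T ^ i) z)) _ _).symm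
        exact sum_congr rfl fun j _ => by rw [map_mul]; rfl
      rw [this, hef]
      rcases eq_or_ne i 0 with rfl | h0
      · simp
      · rw [if_neg (fun h => h0 ?_), if_neg h0, map_zero]
        · rfl
        · exact Nat.eq_zero_of_dvd_of_lt (orderOf_dvd_of_pow_eq_one h) (mem_range.1 hi)
    rw [sum_congr rfl h1, sum_ite_eq' (range n) 0, if_pos (mem_range.2 hn)]
  obtain ⟨l, hl⟩ : ∃ l, w l ≠ 0 := by
    by_contra h
    push Not at h
    exact hz0 (hsum.symm.trans (sum_eq_zero fun j _ => by rw [h, map_zero]))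
  refine ⟨w l, sum_mem fun i _ => hTiU i _ (hρU l z hz), hl, μ, hμ0, ?_⟩
  have hfix : T (w l) = w l := by
    have hzl : (T ^ n) (ρ l z) = ρ l z := by
      show (T ^ n * ρ l) z = ρ l z
      rw [hTρ', show τ ^ n = 1 from pow_orderOf_eq_one τ]
      show ρ l ((T ^ n) z) = ρ l z
      rw [hTn]
    have h1 := sum_range_succ (fun i => (T ^ i) (ρ l z)) n
    have h2 := sum_range_succ' (fun i => (T ^ i) (ρ l z)) n
    simp only [hzl] at h1
    rw [h1, show (T ^ 0) (ρ l z) = ρ l z from rfl] at h2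
    have h3 := add_right_cancel h2
    show T (∑ i ∈ range n, (T ^ i) (ρ l z)) = _
    rw [map_sum]
    exact (sum_congr rfl fun i _ => by rw [pow_succ']; rfl).trans h3.symm
  calc g (w l) = (ρ μ * T) (w l) := by rw [hT, ← mul_assoc, ← map_mul, mul_inv_cancel₀ hμ0, map_one, one_mul]
    _ = ρ μ (w l) := by show ρ μ (T (w l)) = _; rw [hfix]

end Cfsg.Agent.ProjPlane.SpreadAux
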