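import Cfsg.Agent.ProjPlane.SpreadProj

/-!
# A pair of components of a Jordan closed set of invertible maps

Components for two inverse automorphisms of a maximal field inside the set generate too many maps preserving a
small subgroup, so one of them is singular.
-/

set_option autoImplicit false
set_option linter.unusedSectionVars false

open Finset

namespace Cfsg.Agent.ProjPlane.SpreadCore

open SpreadAux SpreadProj

variable {M : Type*} [AddCommGroup M] [Finite M]

instance : Finite (AddMonoid.End M) :=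
  Finite.of_injective (fun a : AddMonoid.End M => (a : M → M)) DFunLike.coe_injective

theorem apply_injective {a : AddMonoid.End M} (h : IsUnit a) : Function.Injective a := by
  obtain ⟨a', ha⟩ := h.exists_left_inv
  exact Function.LeftInverse.injective (g := a') fun x => DFunLike.congr_fun ha x

theorem isUnit_of_injective {a : AddMonoid.End M} (h : Function.Injective a) : IsUnit a := by
  have hb := Finite.injective_iff_bijective.1 h
  let e := AddEquiv.ofBijective (a : M →+ M) hb
  let a' : AddMonoid.End M := e.symm.toAddMonoidHom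
  have h1 : a' * a = 1 := DFunLike.ext _ _ fun x => e.symm_apply_apply x
  exact ⟨⟨a, a', mul_eq_one_comm.1 h1, h1⟩, rfl⟩

/-- The products of a semilinear map with a multiplier. -/
theorem pow_semi {R K : Type*} [Ring R] [Field K] {ι : K →+* R} {σ : RingAut K} {u : R}
    (hu : ∀ k, ι k * u = u * ι (σ k)) : ∀ (j : ℕ) (k : K), ι k * u ^ j = u ^ j * ι ((σ ^ j) k)
  | 0, k => by simp
  | j + 1, k => by
    rw [pow_succ', ← mul_assoc, hu, mul_assoc, pow_semi hu j, ← mul_assoc, pow_succ, RingAut.mul_apply]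

variable {K : Type*} [Field K] [Finite K] [Fintype (RingAut K)] [DecidableEq (RingAut K)]

/-- The multipliers, the two components and what is known of them. -/
structure Conf (S : AddSubgroup (AddMonoid.End M)) (ι : K →+* AddMonoid.End M) (σ : RingAut K)
    (u v : AddMonoid.End M) : Prop where
  one : (1 : AddMonoid.End M) ∈ S
  unit : ∀ a ∈ S, a ≠ 0 → IsUnit a
  conj : ∀ a ∈ S, ∀ x ∈ S, a * x * a ∈ S
  mem : ∀ k, ι k ∈ S
  maximal : ∀ b ∈ S, (∀ k, ι k * b = b * ι k) → ∃ k, ι k = b
  ne : σ * σ ≠ 1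
  hu : ∀ k, ι k * u = u * ι (σ k)
  hv : ∀ k, ι k * v = v * ι (σ⁻¹ k)
  pair : ∀ k, ι k * u + v * ι k ∈ S
  u0 : u ≠ 0

namespace Conf

variable {S : AddSubgroup (AddMonoid.End M)} {ι : K →+* AddMonoid.End M} {σ : RingAut K} {u v : AddMonoid.End M}
  (D : Conf S ι σ u v)
include D

theorem nontrivial : Nontrivial (AddMonoid.End M) := ⟨⟨u, 0, D.u0⟩⟩

theorem inj : Function.Injective ι := by
  have := D.nontrivial
  exact ι.injective

theorem unit_ι {k : K} (hk : k ≠ 0) : IsUnit (ι k) := (IsUnit.mk0 k hk).map ι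

theorem sigma_ne : σ ≠ 1 := fun h => D.ne (by rw [h, one_mul])

theorem sigma_ne_inv : σ ≠ σ⁻¹ := fun h => D.ne (by rw [mul_eq_one_iff_eq_inv]; exact h)

theorem hv' (k : K) : v * ι k = ι (σ k) * v := by
  rw [D.hv, show σ⁻¹ (σ k) = k from σ.symm_apply_apply k]

theorem hu' (k : K) : u * ι k = ι (σ⁻¹ k) * u := by
  rw [D.hu, show σ (σ⁻¹ k) = k from σ.apply_symm_apply k]

/-- The products of the two components lie in the field. -/
theorem products : ∃ α β : K, u * v = ι α ∧ v * u = ι β ∧ β = σ α := by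
  classical
  obtain ⟨m, e, f, hef⟩ := exists_dual K
  have hef' : ∀ τ : RingAut K, ∑ i ∈ range m, e i * τ (f i) = if τ = 1 then 1 else 0 := fun τ => by
    rw [hef]
    split_ifs <;> rfl
  have hL : ∀ a ∈ S, ∀ x ∈ S, ∀ c ∈ S, a * x * c + c * x * a ∈ S := fun a ha x hx c hc => by
    have := sub_mem (sub_mem (D.conj _ (add_mem ha hc) x hx) (D.conj a ha x hx)) (D.conj c hc x hx)
    convert this using 1
    simp only [add_mul, mul_add]
    abel
  have hX : u + v ∈ S := by simpa using D.pair 1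
  have hK : ∀ l, ∃ k, ι k = u * v * ι (σ⁻¹ l) + v * u * ι (σ l) := by
    intro l
    have hw := invol_mem hef' D.conj hL D.mem (D.conj _ hX _ (D.mem l)) (σ := 1) inv_one
    have hcomm : ∀ k, ι k * (u * v * ι (σ⁻¹ l) + v * u * ι (σ l)) =
        (u * v * ι (σ⁻¹ l) + v * u * ι (σ l)) * ι k := fun k => by
      rw [mul_add, add_mul]
      congr 1
      · rw [← mul_assoc, ← mul_assoc, D.hu, mul_assoc u, D.hv, ← mul_assoc,
          show σ⁻¹ (σ k) = k from σ.symm_apply_apply k, mul_assoc, ← map_mul, mul_comm, map_mul, ← mul_assoc]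
      · rw [← mul_assoc, ← mul_assoc, D.hv, mul_assoc v, D.hu, ← mul_assoc,
          show σ (σ⁻¹ k) = k from σ.apply_symm_apply k, mul_assoc, ← map_mul, mul_comm, map_mul, ← mul_assoc]
    refine D.maximal _ ?_ ?_
    · have he : proj ι m e f 1 ((u + v) * ι l * (u + v)) = u * v * ι (σ⁻¹ l) + v * u * ι (σ l) := by
        have h1 : ∀ k, ι k * (u * ι l * u) = u * ι l * u * ι ((σ * σ) k) := fun k => by
          rw [← mul_assoc, ← mul_assoc, D.hu, mul_assoc u, ← map_mul, mul_comm, map_mul, ← mul_assoc,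
            mul_assoc (u * ι l), D.hu, ← mul_assoc, RingAut.mul_apply]
        have h2 : ∀ k, ι k * (v * ι l * v) = v * ι l * v * ι ((σ⁻¹ * σ⁻¹) k) := fun k => by
          rw [← mul_assoc, ← mul_assoc, D.hv, mul_assoc v, ← map_mul, mul_comm, map_mul, ← mul_assoc,
            mul_assoc (v * ι l), D.hv, ← mul_assoc, RingAut.mul_apply]
        have h3 : ∀ k, ι k * (u * v * ι (σ⁻¹ l) + v * u * ι (σ l)) =
            (u * v * ι (σ⁻¹ l) + v * u * ι (σ l)) * ι ((1 : RingAut K) k) := fun k => hcomm k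
        have hsplit : (u + v) * ι l * (u + v) =
            u * ι l * u + v * ι l * v + (u * v * ι (σ⁻¹ l) + v * u * ι (σ l)) := by
          simp only [add_mul, mul_add, mul_assoc, D.hu l, D.hv l]
          abel
        rw [hsplit, proj_add, proj_add, proj_semi hef' h1, proj_semi hef' h2, proj_semi hef' h3,
          if_neg (fun h => D.ne h.symm), if_neg (fun h => D.ne ?_), if_pos rfl, zero_add, zero_add]
        rw [← _root_.mul_inv_rev] at h
        exact inv_eq_one.1 h.symm
      rw [← he]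
      exact hw
    · exact hcomm
  obtain ⟨l, hl⟩ : ∃ l, σ⁻¹ l - σ l ≠ 0 := by
    by_contra h
    push Not at h
    exact D.sigma_ne_inv (RingEquiv.ext fun l => (sub_eq_zero.1 (h l)).symm)
  obtain ⟨c₁, hc₁⟩ := hK 1
  obtain ⟨c, hc⟩ := hK l
  simp only [map_one, mul_one] at hc₁
  have hα : u * v * ι (σ⁻¹ l - σ l) = ι (c - c₁ * σ l) := by
    simp only [map_sub, map_mul, mul_sub, hc, hc₁, add_mul]
    abel
  refine ⟨(c - c₁ * σ l) * (σ⁻¹ l - σ l)⁻¹, c₁ - (c - c₁ * σ l) * (σ⁻¹ l - σ l)⁻¹, ?_⟩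
  have huv : u * v = ι ((c - c₁ * σ l) * (σ⁻¹ l - σ l)⁻¹) := by
    rw [map_mul, ← hα, mul_assoc, ← map_mul, mul_inv_cancel₀ hl, map_one, mul_one]
  have hvu : v * u = ι (c₁ - (c - c₁ * σ l) * (σ⁻¹ l - σ l)⁻¹) := by
    rw [map_sub, hc₁, ← huv, add_sub_cancel_left]
  refine ⟨huv, hvu, ?_⟩
  set α := (c - c₁ * σ l) * (σ⁻¹ l - σ l)⁻¹
  set β := c₁ - α
  have h1 : u * ι β = u * ι (σ α) := by rw [← D.hu, ← hvu, ← huv, mul_assoc]
  refine sub_eq_zero.1 (by_contra fun h => D.u0 ((D.unit_ι h).mul_left_eq_zero.1 ?_))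
  rw [map_sub, mul_sub, h1, sub_self]

end Conf

end Cfsg.Agent.ProjPlane.SpreadCore
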