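import Cfsg.Agent.ProjPlane.SpreadPowers

/-!
# The small invariant subgroup
-/

set_option autoImplicit false
set_option linter.unusedSectionVars false

open Finset

namespace Cfsg.Agent.ProjPlane.SpreadCore

open SpreadAux SpreadProj

variable {M : Type*} [AddCommGroup M] [Finite M] {K : Type*} [Field K] [Finite K] [Fintype (RingAut K)]
  [DecidableEq (RingAut K)]

/-- The multiples of a vector. -/
def smulHom {F : Type*} [Field F] (ρ : F →+* AddMonoid.End M) (w : M) : F →+ M :=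
  (AddMonoidHom.eval w).comp ρ.toAddMonoidHom

theorem smulHom_apply {F : Type*} [Field F] (ρ : F →+* AddMonoid.End M) (w : M) (k : F) :
    smulHom ρ w k = ρ k w := rfl

namespace Conf

variable {S : AddSubgroup (AddMonoid.End M)} {ι : K →+* AddMonoid.End M} {σ : RingAut K} {u v : AddMonoid.End M}
  (D : Conf S ι σ u v) {α β : K} (huv : u * v = ι α) (hvu : v * u = ι β) (hβ : β = σ α)
include D huv hvu hβ

theorem comm_un (k : K) : ι k * u ^ orderOf σ = u ^ orderOf σ * ι k := by
  rw [pow_semi D.hu, pow_orderOf_eq_one]; rfl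

omit huv hβ in
theorem fixed_of_comm {k : K} (hk : u * ι k = ι k * u) : σ k = k := by
  refine sub_eq_zero.1 (by_contra fun h => D.u0 ((D.unit_ι h).mul_left_eq_zero.1 ?_))
  rw [map_sub, mul_sub, ← D.hu, hk, sub_self]

/-- A small invariant subgroup: the squares of `q` and of `u + v` show up in it. -/
theorem count (W : AddSubgroup M) {w : M} (hw : w ∈ W) (hw0 : w ≠ 0) (hWι : ∀ k, ∀ a ∈ W, ι k a ∈ W)
    (hWu : ∀ a ∈ W, u a ∈ W) (hinj : Set.InjOn u W) :
    Nat.card K ^ 2 ≤ Nat.card W ∧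
      (Nat.card W ≤ Nat.card K ^ 2 → ∃ k₀ k, (u + v) * (u + v) = ι k₀ + (ι k * u + v * ι k)) := by
  classical
  obtain ⟨m, e, f, hef⟩ := exists_dual K
  have hef' : ∀ τ : RingAut K, ∑ i ∈ range m, e i * τ (f i) = if τ = 1 then 1 else 0 := fun τ => by
    rw [hef]
    split_ifs <;> rfl
  have hWv : ∀ a ∈ W, v a ∈ W := by
    intro a ha
    have hb : Function.Injective (fun a : W => (⟨u a, hWu a a.2⟩ : W)) := fun a b h =>
      Subtype.ext (hinj a.2 b.2 (congrArg Subtype.val h))
    obtain ⟨b, hb⟩ := (Finite.injective_iff_surjective.1 hb) ⟨a, ha⟩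
    have hb' : u b = a := congrArg Subtype.val hb
    rw [← hb']
    show (v * u) (b : M) ∈ W
    rw [hvu]
    exact hWι _ _ b.2
  let φ : K × K → AddMonoid.End M := fun a => ι a.1 + (ι a.2 * u + v * ι a.2)
  have hS : ∀ a, φ a ∈ S := fun a => add_mem (D.mem _) (D.pair _)
  have hφW : ∀ a, φ a w ∈ W := fun a =>
    add_mem (hWι _ _ hw) (add_mem (hWι _ _ (hWu _ hw)) (hWv _ (hWι _ _ hw)))
  have heval : ∀ z ∈ S, z w = 0 → z = 0 := fun z hz h => by
    by_contra hne
    exact hw0 (apply_injective (D.unit z hz hne) (h.trans (map_zero z).symm))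
  have hφinj : Function.Injective fun a => (⟨φ a w, hφW a⟩ : W) := by
    intro a b h
    have hzero : φ (a.1 - b.1, a.2 - b.2) = 0 := by
      refine heval _ (hS _) ?_
      have : φ (a.1 - b.1, a.2 - b.2) = φ a - φ b := by
        simp only [φ, map_sub, sub_mul, mul_sub]; abel
      rw [this]
      show φ a w - φ b w = 0
      rw [sub_eq_zero]
      exact congrArg Subtype.val h
    have h1 : ∀ k : K, ι k * ι (a.1 - b.1) = ι (a.1 - b.1) * ι ((1 : RingAut K) k) := fun k => by
      rw [← map_mul, mul_comm, map_mul]; rfl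
    have h2 : ∀ k : K, ι k * (ι (a.2 - b.2) * u) = ι (a.2 - b.2) * u * ι (σ k) := fun k => by
      rw [← mul_assoc, ← map_mul, mul_comm, map_mul, mul_assoc, D.hu, mul_assoc]
    have h3 : ∀ k : K, ι k * (v * ι (a.2 - b.2)) = v * ι (a.2 - b.2) * ι (σ⁻¹ k) := fun k => by
      rw [← mul_assoc, D.hv, mul_assoc, ← map_mul, mul_comm, map_mul, ← mul_assoc]
    have hp := congrArg (proj ι m e f σ) hzero
    rw [proj_add, proj_add, proj_semi hef' h1, proj_semi hef' h2, proj_semi hef' h3, proj_zero,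
      if_neg D.sigma_ne, if_pos rfl, if_neg D.sigma_ne_inv, zero_add, add_zero] at hp
    have hk : a.2 - b.2 = 0 := by
      by_contra hk
      exact D.u0 ((D.unit_ι hk).mul_right_eq_zero.1 hp)
    have hk0 : a.1 - b.1 = 0 := D.inj (by simpa [φ, hk] using hzero)
    exact Prod.ext (sub_eq_zero.1 hk0) (sub_eq_zero.1 hk)
  have hle := Nat.card_le_card_of_injective _ hφinj
  rw [Nat.card_prod, ← pow_two] at hle
  refine ⟨hle, fun hge => ?_⟩
  have hbij := (Nat.bijective_iff_injective_and_card _).2 ⟨hφinj,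
    (by rw [Nat.card_prod, ← pow_two]; exact le_antisymm hle hge)⟩
  have hX : u + v ∈ S := by simpa using D.pair 1
  have hXW : ∀ a ∈ W, (u + v) a ∈ W := fun a ha => add_mem (hWu a ha) (hWv a ha)
  obtain ⟨a, ha⟩ := hbij.2 ⟨((u + v) * (u + v)) w, hXW _ (hXW _ hw)⟩
  refine ⟨a.1, a.2, sub_eq_zero.1 (heval _ (sub_mem ?_ (hS a)) ?_)⟩
  · have := D.conj _ hX 1 D.one
    rwa [mul_one] at this
  · show ((u + v) * (u + v)) w - φ a w = 0
    rw [sub_eq_zero]
    exact (congrArg Subtype.val ha).symm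

/-- The square of `u + v` in the span of `K` and the pairs makes the power of `u` a scalar. -/
theorem scalar_of_sq (h : ∃ k₀ k, (u + v) * (u + v) = ι k₀ + (ι k * u + v * ι k)) :
    ∃ η, u ^ orderOf σ = ι η := by
  classical
  obtain ⟨m, e, f, hef⟩ := exists_dual K
  have hef' : ∀ τ : RingAut K, ∑ i ∈ range m, e i * τ (f i) = if τ = 1 then 1 else 0 := fun τ => by
    rw [hef]
    split_ifs <;> rfl
  obtain ⟨k₀, k, h⟩ := h
  have e1 : ∀ l : K, ι l * ι (α + β) = ι (α + β) * ι ((1 : RingAut K) l) := fun l => by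
    rw [← map_mul, mul_comm, map_mul]; rfl
  have e2 : ∀ l : K, ι l * (u * u) = u * u * ι ((σ * σ) l) := fun l => by
    rw [← mul_assoc, D.hu, mul_assoc, D.hu, ← mul_assoc, RingAut.mul_apply]
  have e3 : ∀ l : K, ι l * (v * v) = v * v * ι ((σ⁻¹ * σ⁻¹) l) := fun l => by
    rw [← mul_assoc, D.hv, mul_assoc, D.hv, ← mul_assoc, RingAut.mul_apply]
  have e0 : ∀ l : K, ι l * ι k₀ = ι k₀ * ι ((1 : RingAut K) l) := fun l => by
    rw [← map_mul, mul_comm, map_mul]; rfl
  have e4 : ∀ l : K, ι l * (ι k * u) = ι k * u * ι (σ l) := fun l => by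
    rw [← mul_assoc, ← map_mul, mul_comm, map_mul, mul_assoc, D.hu, mul_assoc]
  have e5 : ∀ l : K, ι l * (v * ι k) = v * ι k * ι (σ⁻¹ l) := fun l => by
    rw [← mul_assoc, D.hv, mul_assoc, ← map_mul, mul_comm, map_mul, ← mul_assoc]
  have hsplit : (u + v) * (u + v) = u * u + v * v + ι (α + β) := by
    rw [map_add, ← huv, ← hvu]
    simp only [add_mul, mul_add]
    abel
  have hσσ : σ * σ ≠ σ := fun h => D.sigma_ne (mul_eq_right.1 h)
  have hp := congrArg (proj ι m e f (σ * σ)) h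
  rw [hsplit, proj_add, proj_add, proj_semi hef' e2, proj_semi hef' e3, proj_semi hef' e1, proj_add,
    proj_add, proj_semi hef' e0, proj_semi hef' e4, proj_semi hef' e5] at hp
  simp only [if_neg D.ne, if_neg hσσ, ite_true, add_zero, zero_add] at hp
  have hinv2 : σ⁻¹ * σ⁻¹ = (σ * σ)⁻¹ := by rw [_root_.mul_inv_rev]
  by_cases h3 : σ * σ = σ⁻¹
  · have h4 : σ * σ ≠ σ⁻¹ * σ⁻¹ := by
      rw [hinv2, h3, inv_inv]
      exact Ne.symm D.sigma_ne_inv
    rw [if_pos h3, if_neg h4, add_zero] at hp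
    have : Fact (Nat.Prime 3) := ⟨by norm_num⟩
    have ho : orderOf σ = 3 := orderOf_eq_prime (by rw [pow_succ, pow_two, h3, inv_mul_cancel]) D.sigma_ne
    refine ⟨α * k, ?_⟩
    rw [ho, pow_succ', pow_two, hp, ← mul_assoc, huv, map_mul]
  rw [if_neg h3] at hp
  by_cases h4 : σ * σ = σ⁻¹ * σ⁻¹
  · rw [if_pos h4] at hp
    have hvv : v * v = -(u * u) := eq_neg_of_add_eq_zero_right hp
    have : Fact (Nat.Prime 2) := ⟨Nat.prime_two⟩
    have ho : orderOf σ = 4 := by
      refine orderOf_eq_prime_pow (p := 2) (n := 1) (by rw [pow_one, pow_two]; exact D.ne) ?_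
      rw [show (2 : ℕ) ^ (1 + 1) = 2 + 2 from rfl, pow_add, pow_two]
      nth_rewrite 2 [h4]
      rw [hinv2, mul_inv_cancel]
    obtain ⟨c, hc⟩ := D.prod_range huv hvu hβ 2
    refine ⟨-c, ?_⟩
    rw [ho, map_neg, ← hc, show (4 : ℕ) = 2 + 2 from rfl, pow_add, pow_two v, hvv, mul_neg, neg_neg, pow_two]
  · rw [if_neg h4, add_zero] at hp
    refine ⟨0, ?_⟩
    obtain ⟨j, hj⟩ : ∃ j, orderOf σ = 2 + j := by
      refine ⟨orderOf σ - 2, (Nat.add_sub_cancel' ?_).symm⟩
      have h1 : orderOf σ ≠ 1 := fun h => D.sigma_ne (orderOf_eq_one_iff.1 h)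
      have := orderOf_pos σ
      omega
    rw [hj, pow_add, pow_two, hp, zero_mul, map_zero]

/-- No eigenvalue of the power of `u` is fixed by `σ`. -/
theorem no_fixed_eigen {η : K} (hη : σ η = η) {z : M} (hz0 : z ≠ 0) (hz : (u ^ orderOf σ) z = ι η z) :
    False := by
  obtain ⟨c, N, hcσ, hNσ, hc, hN, hquad⟩ := D.quad huv hvu hβ
  set y := u ^ orderOf σ with hy
  have hn : orderOf σ ≠ 0 := (orderOf_pos σ).ne'
  obtain ⟨η', z', hη'σ, hη'0, hz'0, hz'⟩ :
      ∃ (η' : K) (z' : M), σ η' = η' ∧ η' ≠ 0 ∧ z' ≠ 0 ∧ y z' = ι η' z' := by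
    by_cases hα : α = 0
    · have h0 : u * v = 0 := by rw [huv, hα, map_zero]
      have h0' : v * u = 0 := by rw [hvu, hβ, hα, map_zero, map_zero]
      have hpow : ∀ j : ℕ, (u + v) ^ (j + 1) = u ^ (j + 1) + v ^ (j + 1) := by
        intro j
        induction j with
        | zero => simp
        | succ j ih =>
          have h1 : u * v ^ (j + 1) = 0 := by rw [pow_succ', ← mul_assoc, h0, zero_mul]
          have h2 : v * u ^ (j + 1) = 0 := by rw [pow_succ', ← mul_assoc, h0', zero_mul]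
          rw [pow_succ' (u + v), ih, add_mul, mul_add, mul_add, h1, h2, add_zero, zero_add,
            ← pow_succ', ← pow_succ']
      have hne : u + v ≠ 0 := fun e => D.u0 (by
        have h2 : u * u = 0 := by rw [show u * u = u * (u + v) by rw [mul_add, h0, add_zero], e, mul_zero]
        have hv : v = -u := eq_neg_of_add_eq_zero_right e
        have hS : ∀ k, u * (ι (σ k) - ι k) ∈ S := fun k => by
          have := D.pair k
          rwa [hv, neg_mul, D.hu, ← sub_eq_add_neg, ← mul_sub] at this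
        obtain ⟨k, hk⟩ : ∃ k, σ k ≠ k := by
          by_contra hall
          push Not at hall
          exact D.sigma_ne (RingEquiv.ext hall)
        by_contra hu0
        have hne' : u * (ι (σ k) - ι k) ≠ 0 := fun h => by
          rw [← map_sub] at h
          exact hu0 ((D.unit_ι (sub_ne_zero.2 hk)).mul_left_eq_zero.1 h)
        obtain ⟨g, hg⟩ := (D.unit _ (hS k) hne').exists_right_inv
        exact hu0 (by
          calc u = u * (u * (ι (σ k) - ι k) * g) := by rw [hg, mul_one]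
            _ = u * u * ((ι (σ k) - ι k) * g) := by simp only [mul_assoc]
            _ = 0 := by rw [h2, zero_mul]))
      have hXu : IsUnit (u + v) := D.unit _ (by simpa using D.pair 1) hne
      obtain ⟨j, hj⟩ : ∃ j, orderOf σ = j + 1 := ⟨orderOf σ - 1, (Nat.succ_pred_eq_of_ne_zero hn).symm⟩
      have hyy : y * v ^ orderOf σ = 0 := by
        rw [hy, hj, pow_succ u j, pow_succ' v j, mul_assoc, ← mul_assoc u v, h0, zero_mul, mul_zero]
      have hcu : IsUnit (ι c) := by
        rw [← hc, hy, hj, ← hpow, ← hj]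
        exact hXu.pow _
      have : Nontrivial (AddMonoid.End M) := D.nontrivial
      have hc0 : c ≠ 0 := fun h => not_isUnit_zero (show IsUnit (0 : AddMonoid.End M) by
        rwa [h, map_zero] at hcu)
      have hy0 : y ≠ 0 := fun h => D.u0 (by
        rw [h, zero_add] at hc
        have hvu : IsUnit v := (isUnit_pow_iff hn).1 (hc ▸ hcu)
        exact hvu.mul_left_eq_zero.1 h0)
      obtain ⟨z₀, hz₀⟩ : ∃ z₀, y z₀ ≠ 0 := by
        by_contra hall
        push Not at hall
        exact hy0 (DFunLike.ext _ _ hall)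
      refine ⟨c, y z₀, hcσ, hc0, hz₀, ?_⟩
      show (y * y) z₀ = (ι c * y) z₀
      rw [← hquad, ← hN, hyy, add_zero]
    · refine ⟨η, z, hη, fun h => hz0 ?_, hz0, hz⟩
      refine apply_injective ((D.unit_u huv hvu hβ hα).pow (orderOf σ)) ?_
      rw [hz, h, map_zero, map_zero]
      rfl
  let U : AddSubgroup M :=
    { carrier := {a | y a = ι η' a}
      zero_mem' := by simp
      add_mem' := fun {a b} (ha : y a = ι η' a) (hb : y b = ι η' b) => by
        show y (a + b) = ι η' (a + b)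
        rw [map_add, map_add, ha, hb]
      neg_mem' := fun {a} (ha : y a = ι η' a) => by
        show y (-a) = ι η' (-a)
        rw [map_neg, map_neg, ha] }
  have hmemU : ∀ a, a ∈ U ↔ y a = ι η' a := fun a => Iff.rfl
  have hyι : ∀ k a, y (ι k a) = ι k (y a) := fun k a => DFunLike.congr_fun (D.comm_un huv hvu hβ k).symm a
  have hιU : ∀ k, ∀ a ∈ U, ι k a ∈ U := fun k a ha => by
    rw [hmemU] at ha ⊢
    rw [hyι, ha]
    show (ι k * ι η') a = (ι η' * ι k) a
    rw [← map_mul, mul_comm, map_mul]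
  have huU : ∀ a ∈ U, u a ∈ U := fun a ha => by
    rw [hmemU] at ha ⊢
    show (y * u) a = (ι η' * u) a
    rw [D.hu, hη'σ, show y * u = u * y from (pow_succ _ _).symm.trans (pow_succ' _ _)]
    show u (y a) = u (ι η' a)
    rw [ha]
  have hη'inv : σ⁻¹ η' = η' := by
    conv_lhs => rw [← hη'σ]
    exact σ.symm_apply_apply η'
  obtain ⟨w, hwU, hw0, μ, hμ0, hw⟩ := exists_eigen ι σ⁻¹ u D.hu' hη'inv hη'0 U hιU huU ((hmemU z').2 hz') hz'0
    (by rw [orderOf_inv]; exact hz')
  let W := (smulHom ι w).range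
  have hu_apply : ∀ k, u (ι k w) = ι (σ⁻¹ k * μ) w := fun k => by
    show (u * ι k) w = _
    rw [D.hu']
    show ι _ (u w) = _
    rw [hw, map_mul]
    rfl
  have hcount := (D.count huv hvu hβ W (w := w) ⟨1, by rw [smulHom_apply, map_one]; rfl⟩ hw0
    (by rintro k _ ⟨l, rfl⟩; exact ⟨k * l, by rw [smulHom_apply, map_mul]; rfl⟩)
    (by rintro _ ⟨k, rfl⟩; exact ⟨σ⁻¹ k * μ, (hu_apply k).symm⟩)
    (by
      rintro _ ⟨k, rfl⟩ _ ⟨l, rfl⟩ h
      rw [smulHom_apply, smulHom_apply, hu_apply, hu_apply] at h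
      by_contra hne
      refine hw0 (apply_injective (D.unit_ι (k := σ⁻¹ k * μ - σ⁻¹ l * μ) (sub_ne_zero.2 fun e => hne ?_)) ?_)
      · rw [(σ⁻¹).injective (mul_right_cancel₀ hμ0 e)]
      · rw [map_sub, map_zero]
        exact sub_eq_zero.2 h)).1
  have hW : Nat.card W ≤ Nat.card K :=
    Nat.card_le_card_of_surjective (smulHom ι w).rangeRestrict (smulHom ι w).rangeRestrict_surjective
  have h2 : 2 ≤ Nat.card K := Finite.one_lt_card
  nlinarith

end Conf

end Cfsg.Agent.ProjPlane.SpreadCore
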