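import Cfsg.Agent.ProjPlane.SpreadCount

/-!
# The two cases for the power of `u`
-/

set_option autoImplicit false
set_option linter.unusedSectionVars false

open Finset

namespace Cfsg.Agent.ProjPlane.SpreadCore

open SpreadAux SpreadProj

variable {M : Type*} [AddCommGroup M] [Finite M] {K : Type*} [Field K] [Finite K] [Fintype (RingAut K)]
  [DecidableEq (RingAut K)]

namespace Conf

variable {S : AddSubgroup (AddMonoid.End M)} {ι : K →+* AddMonoid.End M} {σ : RingAut K} {u v : AddMonoid.End M}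
  (D : Conf S ι σ u v) {α β : K} (huv : u * v = ι α) (hvu : v * u = ι β) (hβ : β = σ α)
include D huv hvu hβ

theorem scalar_fixed {η : K} (h : u ^ orderOf σ = ι η) : σ η = η :=
  D.fixed_of_comm hvu (by rw [← h]; exact ((Commute.refl u).pow_right _).eq)

/-- The power of `u` has no eigenvalue in `K`. -/
theorem no_eigen {η : K} {z : M} (hz0 : z ≠ 0) (hz : (u ^ orderOf σ) z = ι η z) : False := by
  by_cases hη : σ η = η
  · exact D.no_fixed_eigen huv hvu hβ hη hz0 hz
  obtain ⟨c, N, hcσ, hNσ, -, hN, hquad⟩ := D.quad huv hvu hβ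
  set n := orderOf σ with hn
  set y := u ^ n with hy
  have hη0 : η ≠ 0 := fun h => hη (by rw [h, map_zero])
  have hyι : ∀ k a, y (ι k a) = ι k (y a) := fun k a => DFunLike.congr_fun (D.comm_un huv hvu hβ k).symm a
  have hroot : η * η + N = c * η := by
    refine sub_eq_zero.1 (by_contra fun h => hz0 (apply_injective (D.unit_ι h) ?_))
    rw [map_zero, map_sub, map_add, map_mul, map_mul]
    show ι η (ι η z) + ι N z - ι c (ι η z) = 0
    rw [sub_eq_zero, ← hz, ← hyι, ← hz]
    exact DFunLike.congr_fun hquad z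
  have hroot' : σ η * σ η + N = c * σ η := by
    have := congrArg σ hroot
    rwa [map_add, map_mul, map_mul, hcσ, hNσ] at this
  have hsum : σ η = c - η := by
    have h : (σ η - η) * (σ η + η - c) = 0 := by linear_combination hroot' - hroot
    rcases mul_eq_zero.1 h with h | h
    · exact absurd (sub_eq_zero.1 h) hη
    · linear_combination h
  have hσσ : (σ * σ) η = η := by
    rw [RingAut.mul_apply, hsum, map_sub, hcσ, hsum, sub_sub_cancel]
  have hfixpow : ∀ j : ℕ, ((σ * σ) ^ j) η = η := by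
    intro j
    induction j with
    | zero => rfl
    | succ j ih => rw [pow_succ, RingAut.mul_apply, hσσ, ih]
  have heven : 2 ∣ n := by
    rcases Nat.even_or_odd' n with ⟨j, hj | hj⟩
    · exact ⟨j, hj⟩
    · exfalso
      refine hη ?_
      have h := hfixpow (j + 1)
      rwa [← pow_two, ← pow_mul, show 2 * (j + 1) = n + 1 by omega, pow_succ, hn, pow_orderOf_eq_one, one_mul] at h
  have hτ : orderOf (σ⁻¹ * σ⁻¹) = n / 2 := by
    rw [← pow_two, orderOf_pow, orderOf_inv, ← hn, Nat.gcd_eq_right heven]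
  have hτη : (σ⁻¹ * σ⁻¹) η = η := by
    conv_lhs => rw [← hσσ]
    show σ⁻¹ (σ⁻¹ (σ (σ η))) = η
    rw [show σ⁻¹ (σ (σ η)) = σ η from σ.symm_apply_apply _]
    exact σ.symm_apply_apply η
  let U : AddSubgroup M :=
    { carrier := {a | y a = ι η a}
      zero_mem' := by simp
      add_mem' := fun {a b} (ha : y a = ι η a) (hb : y b = ι η b) => by
        show y (a + b) = ι η (a + b)
        rw [map_add, map_add, ha, hb]
      neg_mem' := fun {a} (ha : y a = ι η a) => by
        show y (-a) = ι η (-a)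
        rw [map_neg, map_neg, ha] }
  have hmemU : ∀ a, a ∈ U ↔ y a = ι η a := fun a => Iff.rfl
  have hιU : ∀ k, ∀ a ∈ U, ι k a ∈ U := fun k a ha => by
    rw [hmemU] at ha ⊢
    rw [hyι, ha]
    show (ι k * ι η) a = (ι η * ι k) a
    rw [← map_mul, mul_comm, map_mul]
  have huι : ∀ k, u * u * ι k = ι ((σ⁻¹ * σ⁻¹) k) * (u * u) := fun k => by
    rw [mul_assoc, D.hu', ← mul_assoc, D.hu', mul_assoc, RingAut.mul_apply]
  have huU : ∀ a ∈ U, (u * u) a ∈ U := fun a ha => by
    rw [hmemU] at ha ⊢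
    have h1 : (ι η * (u * u)) = u * u * ι η := by rw [huι, hτη]
    show (y * (u * u)) a = (ι η * (u * u)) a
    rw [h1, show y * (u * u) = u * u * y from (((Commute.refl u).pow_left n).mul_right ((Commute.refl u).pow_left n)).eq]
    show (u * u) (y a) = _
    rw [ha]
    rfl
  obtain ⟨w, hwU, hw0, μ, hμ0, hw⟩ := exists_eigen ι (σ⁻¹ * σ⁻¹) (u * u) huι hτη hη0 U hιU huU
    ((hmemU z).2 hz) hz0 (by
      rw [hτ, ← pow_two, ← pow_mul, Nat.mul_div_cancel' heven]
      exact hz)
  have hinjU : ∀ a, y a = ι η a → u a = 0 → a = 0 := fun a ha h0 => by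
    refine apply_injective (D.unit_ι hη0) ?_
    rw [map_zero, ← ha, hy]
    obtain ⟨j, hj⟩ : ∃ j, n = j + 1 := ⟨n - 1, (Nat.succ_pred_eq_of_pos (orderOf_pos σ)).symm⟩
    rw [hj, pow_succ]
    show (u ^ j) (u a) = 0
    rw [h0, map_zero]
  let φ : K × K →+ M :=
    (smulHom ι w).comp (AddMonoidHom.fst K K) + (smulHom ι (u w)).comp (AddMonoidHom.snd K K)
  have hφ : ∀ a, φ a = ι a.1 w + ι a.2 (u w) := fun a => rfl
  have hu_apply : ∀ k, u (ι k w) = ι (σ⁻¹ k) (u w) := fun k => by
    show (u * ι k) w = _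
    rw [D.hu']
    rfl
  have hu_apply' : ∀ k, u (ι k (u w)) = ι (σ⁻¹ k * μ) w := fun k => by
    show (u * ι k) (u w) = _
    rw [D.hu']
    show ι _ ((u * u) w) = _
    rw [hw, map_mul]
    rfl
  let W := φ.range
  have hwW : w ∈ W := ⟨(1, 0), by rw [hφ]; simp⟩
  obtain ⟨hle, hsq⟩ := D.count huv hvu hβ W hwW hw0
    (by
      rintro k _ ⟨a, rfl⟩
      refine ⟨(k * a.1, k * a.2), ?_⟩
      rw [hφ, hφ, map_add, map_mul, map_mul]
      rfl)
    (by
      rintro _ ⟨a, rfl⟩
      refine ⟨(σ⁻¹ a.2 * μ, σ⁻¹ a.1), ?_⟩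
      rw [hφ, hφ, map_add, hu_apply, hu_apply', add_comm])
    (by
      rintro _ ⟨a, rfl⟩ _ ⟨b, rfl⟩ h
      have h0 : u (φ (a - b)) = 0 := by rw [map_sub, map_sub, h, sub_self]
      rw [hφ, map_add, hu_apply, hu_apply'] at h0
      have huinj : ∀ p q : K, ι p w + ι q (u w) = 0 → p = 0 ∧ q = 0 := by
        intro p q hpq
        by_cases hq : q = 0
        · subst hq
          rw [map_zero, show (0 : AddMonoid.End M) (u w) = 0 from rfl, add_zero] at hpq
          refine ⟨by_contra fun hp => hw0 (apply_injective (D.unit_ι hp) (hpq.trans (map_zero _).symm)), rfl⟩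
        · exfalso
          refine hη ?_
          have h1 : u w = ι (-(q⁻¹ * p)) w := by
            refine apply_injective (D.unit_ι hq) ?_
            rw [show ι q (ι (-(q⁻¹ * p)) w) = ι (q * -(q⁻¹ * p)) w by rw [map_mul]; rfl, mul_neg,
              mul_inv_cancel_left₀ hq, map_neg]
            exact eq_neg_of_add_eq_zero_right hpq
          have hwy : y w = ι η w := hwU
          have h2 : y (u w) = ι η (u w) := by rw [h1, hyι, hwy]; show (ι _ * ι η) w = (ι η * ι _) w; rw [← map_mul, mul_comm, map_mul]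
          have h3 : ι η (u w) = u (ι η w) := by
            rw [← h2, ← hwy]
            show (y * u) w = (u * y) w
            rw [hy, show u ^ n * u = u * u ^ n from ((Commute.refl u).pow_left n).eq]
          rw [hu_apply] at h3
          have h4 : η = σ⁻¹ η := by
            refine sub_eq_zero.1 (by_contra fun hne => hw0 (hinjU w hwy ?_))
            refine apply_injective (D.unit_ι hne) ?_
            rw [map_zero, map_sub]
            exact sub_eq_zero.2 h3
          conv_lhs => rw [h4]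
          exact σ.apply_symm_apply η
      obtain ⟨h1, h2⟩ := huinj _ _ ((add_comm _ _).trans h0)
      have ha1 : (a - b).1 = 0 := (map_eq_zero_iff (σ⁻¹) (σ⁻¹).injective).1 h2
      have ha2 : (a - b).2 = 0 :=
        (map_eq_zero_iff (σ⁻¹) (σ⁻¹).injective).1 ((mul_eq_zero.1 h1).resolve_right hμ0)
      rw [show a = b from sub_eq_zero.1 (Prod.ext ha1 ha2)])
  have hW : Nat.card W ≤ Nat.card K ^ 2 := by
    rw [pow_two, ← Nat.card_prod]
    exact Nat.card_le_card_of_surjective φ.rangeRestrict φ.rangeRestrict_surjective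
  obtain ⟨η', hη'⟩ := D.scalar_of_sq huv hvu hβ (hsq hW)
  exact D.no_fixed_eigen huv hvu hβ (D.scalar_fixed huv hvu hβ hη') hz0 (by rw [hη'])

/-- The pair of components does not exist. -/
theorem absurd_conf : False := by
  obtain ⟨c, N, hcσ, hNσ, -, hN, hquad⟩ := D.quad huv hvu hβ
  set n := orderOf σ with hn
  set y := u ^ n with hy
  obtain ⟨z, hz⟩ : ∃ z : M, z ≠ 0 := by
    by_contra h
    push Not at h
    exact D.u0 (DFunLike.ext _ _ fun a => h _)
  have hyK : ∀ k, ι k * y = y * ι k := D.comm_un huv hvu hβ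
  have hne : ∀ k a, (y - ι k) a = 0 → a = 0 := fun k a h => by
    by_contra ha
    exact D.no_eigen huv hvu hβ ha (sub_eq_zero.1 h)
  have hyinj : Function.Injective y := (injective_iff_map_eq_zero y).2 fun a ha => hne 0 a (by
    rw [map_zero, sub_zero]; exact ha)
  have huinj : Function.Injective u := (injective_iff_map_eq_zero u).2 fun a ha => hyinj (by
    obtain ⟨j, hj⟩ : ∃ j, n = j + 1 := ⟨n - 1, (Nat.succ_pred_eq_of_pos (orderOf_pos σ)).symm⟩
    rw [map_zero, hy, hj, pow_succ]
    show (u ^ j) (u a) = 0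
    rw [ha, map_zero])
  obtain ⟨U, hU⟩ := isUnit_of_injective huinj
  have hquad' : y * y = ι c * y - ι N := eq_sub_of_add_eq hquad
  let L : Subring (AddMonoid.End M) :=
    { carrier := {a | ∃ k l, a = ι k + ι l * y}
      one_mem' := ⟨1, 0, by simp⟩
      zero_mem' := ⟨0, 0, by simp⟩
      add_mem' := by
        rintro _ _ ⟨k, l, rfl⟩ ⟨k', l', rfl⟩
        exact ⟨k + k', l + l', by rw [map_add, map_add, add_mul]; abel⟩
      neg_mem' := by
        rintro _ ⟨k, l, rfl⟩
        exact ⟨-k, -l, by rw [map_neg, map_neg, neg_mul]; abel⟩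
      mul_mem' := by
        rintro _ _ ⟨k, l, rfl⟩ ⟨k', l', rfl⟩
        refine ⟨k * k' - l * l' * N, k * l' + l * k' + l * l' * c, ?_⟩
        calc (ι k + ι l * y) * (ι k' + ι l' * y)
            = ι k * ι k' + ι k * (ι l' * y) + ι l * (y * ι k') + ι l * (y * ι l') * y := by
              simp only [add_mul, mul_add, mul_assoc]; abel
          _ = ι k * ι k' + ι k * (ι l' * y) + ι l * (ι k' * y) + ι l * ι l' * (y * y) := by
              rw [← hyK, ← hyK]; simp only [mul_assoc]
          _ = _ := by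
              rw [hquad']
              simp only [map_add, map_sub, map_mul, add_mul, mul_sub, mul_assoc]
              abel }
  have hcomm : ∀ a b : L, a * b = b * a := by
    rintro ⟨_, k, l, rfl⟩ ⟨_, k', l', rfl⟩
    refine Subtype.ext (show Commute (ι k + ι l * y) (ι k' + ι l' * y) from ?_)
    have hcy : ∀ x, Commute y (ι x) := fun x => (hyK x).symm
    have hc : ∀ p q, Commute (ι p) (ι q) := fun p q => (Commute.all p q).map ι
    exact ((hc k k').add_right ((hc k l').mul_right (hcy k).symm)).add_left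
      (((hc l k').mul_left (hcy k')).add_right (((hc l l').mul_left (hcy l')).mul_right
        ((hcy l).symm.mul_left (Commute.refl y))))
  have hunit : ∀ a : L, a ≠ 0 → IsUnit (a : AddMonoid.End M) := by
    rintro ⟨_, k, l, rfl⟩ ha
    by_cases hl : l = 0
    · subst hl
      have hk : k ≠ 0 := fun h => ha (Subtype.ext (by simp [h]))
      simpa using D.unit_ι hk
    · refine isUnit_of_injective ((injective_iff_map_eq_zero _).2 fun a h => hne (-(l⁻¹ * k)) a ?_)
      refine apply_injective (D.unit_ι hl) ?_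
      rw [map_zero]
      refine Eq.trans (DFunLike.congr_fun (?_ : ι l * (y - ι (-(l⁻¹ * k))) = ι k + ι l * y) a) h
      rw [map_neg, sub_neg_eq_add, mul_add, ← map_mul, mul_inv_cancel_left₀ hl, add_comm]
  have : Nontrivial (AddMonoid.End M) := D.nontrivial
  have : Nontrivial L := ⟨⟨0, 1, fun h => zero_ne_one (congrArg Subtype.val h : (0 : AddMonoid.End M) = 1)⟩⟩
  letI : CommRing L := { (inferInstance : Ring L) with mul_comm := hcomm }
  have : NoZeroDivisors L := ⟨fun {a b} h => by
    refine or_iff_not_imp_left.2 fun ha => Subtype.ext ?_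
    exact (hunit a ha).mul_right_eq_zero.1 (congrArg Subtype.val h)⟩
  have : IsDomain L := NoZeroDivisors.to_isDomain L
  letI : Field L := (Finite.isField_of_domain L).toField
  have hιL : ∀ k, ι k ∈ L := fun k => ⟨k, 0, by simp⟩
  have hyL : y ∈ L := ⟨0, 1, by simp⟩
  have hconj : ∀ a : L, (U : AddMonoid.End M) * a * (↑U⁻¹ : AddMonoid.End M) ∈ L := by
    rintro ⟨_, k, l, rfl⟩
    refine ⟨σ⁻¹ k, σ⁻¹ l, ?_⟩
    rw [Units.mul_inv_eq_iff_eq_mul, hU, mul_add, ← mul_assoc, D.hu', D.hu', add_mul, mul_assoc (ι (σ⁻¹ l)), mul_assoc (ι (σ⁻¹ l)), hy,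
      ((Commute.refl u).pow_right n).eq]
  let f : L →+* L :=
    { toFun := fun a => ⟨_, hconj a⟩
      map_one' := Subtype.ext (by simp)
      map_zero' := Subtype.ext (by simp)
      map_mul' := fun a b => Subtype.ext (by
        show (U : AddMonoid.End M) * ((a : AddMonoid.End M) * b) * ↑U⁻¹ =
          (U : AddMonoid.End M) * a * ↑U⁻¹ * ((U : AddMonoid.End M) * b * ↑U⁻¹)
        simp only [mul_assoc, Units.inv_mul_cancel_left])
      map_add' := fun a b => Subtype.ext (by
        show (U : AddMonoid.End M) * ((a : AddMonoid.End M) + b) * ↑U⁻¹ = _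
        rw [mul_add, add_mul]
        rfl) }
  let τ : RingAut L := RingEquiv.ofBijective f (Finite.injective_iff_bijective.1 f.injective)
  have hτ : ∀ a : L, u * (a : AddMonoid.End M) = (τ a : AddMonoid.End M) * u := fun a => by
    show _ = (U : AddMonoid.End M) * a * ↑U⁻¹ * u
    rw [← hU, Units.inv_mul_cancel_right]
  have hτpow : ∀ (j : ℕ) (a : L), u ^ j * (a : AddMonoid.End M) = ((τ ^ j) a : AddMonoid.End M) * u ^ j := by
    intro j
    induction j with
    | zero => intro a; simp
    | succ j ih =>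
      intro a
      rw [pow_succ u, mul_assoc, hτ, ← mul_assoc, ih, pow_succ τ, RingAut.mul_apply, mul_assoc]
  have hord : orderOf τ = n := by
    refine (orderOf_eq_iff (orderOf_pos σ)).2 ⟨RingEquiv.ext fun a => Subtype.ext ?_, fun j hj hj0 h => ?_⟩
    · have h1 := hτpow n a
      have h2 : (a : AddMonoid.End M) * y = y * a := congrArg Subtype.val (hcomm a ⟨y, hyL⟩)
      rw [← hy, ← h2] at h1
      exact ((isUnit_of_injective hyinj).mul_left_inj.1 h1).symm
    · have h1 : σ ^ j = 1 := RingEquiv.ext fun k => D.inj (by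
        have h2 := hτpow j ⟨ι k, hιL k⟩
        rw [h] at h2
        change u ^ j * ι k = ι k * u ^ j at h2
        rw [pow_semi D.hu] at h2
        exact ((isUnit_of_injective huinj).pow j).mul_right_inj.1 h2.symm)
      exact hj0.ne' (Nat.eq_zero_of_dvd_of_lt (orderOf_dvd_of_pow_eq_one h1) hj)
  have hτy : τ ⟨y, hyL⟩ = ⟨y, hyL⟩ := Subtype.ext (by
    refine (isUnit_of_injective huinj).mul_left_inj.1 ?_
    rw [← hτ]
    exact ((Commute.refl u).pow_right n).eq)
  obtain ⟨w, -, hw0, μ, hμ0, hw⟩ := exists_eigen L.subtype τ u hτ hτy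
    (fun h => hz (hyinj (by
      rw [show y = (0 : AddMonoid.End M) from congrArg Subtype.val h]; rfl)))
    ⊤ (fun _ _ _ => trivial) (fun _ _ => trivial) (z := z) trivial hz (by rw [hord]; rfl)
  let W := (smulHom L.subtype w).range
  obtain ⟨hle, hsq⟩ := D.count huv hvu hβ W ⟨1, rfl⟩ hw0
    (by rintro k _ ⟨a, rfl⟩; exact ⟨⟨ι k, hιL k⟩ * a, rfl⟩)
    (by
      rintro _ ⟨a, rfl⟩
      refine ⟨τ a * μ, ?_⟩
      show _ = (u * (a : AddMonoid.End M)) w
      rw [hτ]
      show _ = (τ a : AddMonoid.End M) (u w)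
      rw [hw]
      rfl)
    huinj.injOn
  have hW : Nat.card W ≤ Nat.card K ^ 2 := by
    refine (Nat.card_le_card_of_surjective (smulHom L.subtype w).rangeRestrict
      (smulHom L.subtype w).rangeRestrict_surjective).trans ?_
    rw [pow_two, ← Nat.card_prod]
    refine Nat.card_le_card_of_surjective (fun a : K × K => (⟨ι a.1 + ι a.2 * y, a.1, a.2, rfl⟩ : L)) ?_
    rintro ⟨_, k, l, rfl⟩
    exact ⟨(k, l), rfl⟩
  obtain ⟨η, hη⟩ := D.scalar_of_sq huv hvu hβ (hsq hW)
  exact D.no_eigen huv hvu hβ hz (η := η) (by rw [hη])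

end Conf

end Cfsg.Agent.ProjPlane.SpreadCore
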