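import Cfsg.Agent.ProjPlane.SpreadCore

/-!
# The powers of the components
-/

set_option autoImplicit false
set_option linter.unusedSectionVars false

open Finset

namespace Cfsg.Agent.ProjPlane.SpreadCore

open SpreadAux SpreadProj

variable {M : Type*} [AddCommGroup M] [Finite M] {K : Type*} [Field K] [Finite K] [Fintype (RingAut K)]
  [DecidableEq (RingAut K)]

/-- The remainders of the powers of `u + v`. -/
def rem (ι : K →+* AddMonoid.End M) (u v : AddMonoid.End M) (j : ℕ) : AddSubgroup (AddMonoid.End M) :=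
  AddSubgroup.closure {w | ∃ a, a < j ∧ ∃ k, w = u ^ a * ι k ∨ w = v ^ a * ι k}

namespace Conf

variable {S : AddSubgroup (AddMonoid.End M)} {ι : K →+* AddMonoid.End M} {σ : RingAut K} {u v : AddMonoid.End M}
  (D : Conf S ι σ u v)
include D

theorem pow_mem_S {x : AddMonoid.End M} (hx : x ∈ S) : ∀ j : ℕ, x ^ j ∈ S
  | 0 => by rw [pow_zero]; exact D.one
  | 1 => by rwa [pow_one]
  | j + 2 => by
    have := D.conj x hx _ (pow_mem_S hx j)
    rwa [← pow_succ', ← pow_succ] at this

variable {α β : K} (huv : u * v = ι α) (hvu : v * u = ι β) (hβ : β = σ α)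
include huv hvu hβ

theorem unit_u (h : α ≠ 0) : IsUnit u := by
  refine isUnit_of_injective fun a b e => apply_injective (D.unit_ι (k := β) (by
    rw [hβ]; exact (map_ne_zero_iff σ σ.injective).2 h)) ?_
  rw [← hvu]
  exact congrArg v e

theorem succ_sigma_inv {j : ℕ} (hj : j + 1 = orderOf σ) : (σ⁻¹) ^ j = σ := by
  rw [inv_pow]
  exact inv_eq_of_mul_eq_one_right (by rw [← pow_succ, hj, pow_orderOf_eq_one])

theorem u_comm_vn : u * v ^ orderOf σ = v ^ orderOf σ * u := by
  obtain ⟨j, hj⟩ : ∃ j, j + 1 = orderOf σ := ⟨orderOf σ - 1, Nat.succ_pred_eq_of_pos (orderOf_pos σ)⟩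
  rw [← hj]
  calc u * v ^ (j + 1) = ι α * v ^ j := by rw [pow_succ', ← mul_assoc, huv]
    _ = v ^ j * ι β := by rw [pow_semi D.hv, D.succ_sigma_inv huv hvu hβ hj, hβ]
    _ = v ^ (j + 1) * u := by rw [pow_succ, mul_assoc, hvu]

theorem v_comm_un : v * u ^ orderOf σ = u ^ orderOf σ * v := by
  obtain ⟨j, hj⟩ : ∃ j, j + 1 = orderOf σ := ⟨orderOf σ - 1, Nat.succ_pred_eq_of_pos (orderOf_pos σ)⟩
  rw [← hj]
  calc v * u ^ (j + 1) = ι β * u ^ j := by rw [pow_succ', ← mul_assoc, hvu]
    _ = u ^ j * ι α := by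
      rw [pow_semi D.hu, hβ, ← RingAut.mul_apply, ← pow_succ, hj, pow_orderOf_eq_one]
      rfl
    _ = u ^ (j + 1) * v := by rw [pow_succ, mul_assoc, huv]

theorem prod_range : ∀ j : ℕ, ∃ c, u ^ j * v ^ j = ι c
  | 0 => ⟨1, by simp⟩
  | j + 1 => by
    obtain ⟨c, hc⟩ := prod_range j
    refine ⟨c * (σ⁻¹ ^ j) α, ?_⟩
    rw [pow_succ u, pow_succ' v, mul_assoc, ← mul_assoc u, huv, pow_semi D.hv, ← mul_assoc, hc, map_mul]

theorem mul_rem {j : ℕ} {w : AddMonoid.End M} (hw : w ∈ SpreadCore.rem ι u v j) :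
    (u + v) * w ∈ SpreadCore.rem ι u v (j + 1) := by
  induction hw using AddSubgroup.closure_induction with
  | mem w h =>
    obtain ⟨a, ha, k, hk | hk⟩ := h
    · rw [hk, add_mul]
      refine add_mem (AddSubgroup.subset_closure ⟨a + 1, by omega, k, Or.inl (by rw [pow_succ', mul_assoc])⟩) ?_
      rcases a with _ | a
      · exact AddSubgroup.subset_closure ⟨1, by omega, k, Or.inr (by simp)⟩
      · refine AddSubgroup.subset_closure ⟨a, by omega, (σ ^ a) β * k, Or.inl ?_⟩
        rw [pow_succ', ← mul_assoc, ← mul_assoc, hvu, pow_semi D.hu, mul_assoc, ← map_mul]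
    · rw [hk, add_mul]
      refine add_mem ?_ (AddSubgroup.subset_closure ⟨a + 1, by omega, k, Or.inr (by rw [pow_succ', mul_assoc])⟩)
      rcases a with _ | a
      · exact AddSubgroup.subset_closure ⟨1, by omega, k, Or.inl (by simp)⟩
      · refine AddSubgroup.subset_closure ⟨a, by omega, (σ⁻¹ ^ a) α * k, Or.inr ?_⟩
        rw [pow_succ', ← mul_assoc, ← mul_assoc, huv, pow_semi D.hv, mul_assoc, ← map_mul]
  | zero => rw [mul_zero]; exact zero_mem _
  | add a b _ _ ha hb => rw [mul_add]; exact add_mem ha hb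
  | neg a _ ha => rw [mul_neg]; exact neg_mem ha

theorem pow_sub_mem : ∀ j : ℕ, (u + v) ^ (j + 1) - u ^ (j + 1) - v ^ (j + 1) ∈ SpreadCore.rem ι u v (j + 1)
  | 0 => by simp
  | j + 1 => by
    have h1 := D.mul_rem huv hvu hβ (pow_sub_mem j)
    have h2 : v * u ^ (j + 1) + u * v ^ (j + 1) ∈ SpreadCore.rem ι u v (j + 2) := by
      refine add_mem ?_ ?_
      · refine AddSubgroup.subset_closure ⟨j, by omega, (σ ^ j) β, Or.inl ?_⟩
        rw [pow_succ', ← mul_assoc, hvu, pow_semi D.hu]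
      · refine AddSubgroup.subset_closure ⟨j, by omega, (σ⁻¹ ^ j) α, Or.inr ?_⟩
        rw [pow_succ', ← mul_assoc, huv, pow_semi D.hv]
    convert add_mem h1 h2 using 1
    rw [pow_succ' (u + v), pow_succ' u (j + 1), pow_succ' v (j + 1)]
    simp only [mul_sub, add_mul]
    abel

/-- The quadratic equation of the `n`-th power of `u`. -/
theorem quad : ∃ c N : K, σ c = c ∧ σ N = N ∧ u ^ orderOf σ + v ^ orderOf σ = ι c ∧
    u ^ orderOf σ * v ^ orderOf σ = ι N ∧
    u ^ orderOf σ * u ^ orderOf σ + ι N = ι c * u ^ orderOf σ := by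
  classical
  obtain ⟨m, e, f, hef⟩ := exists_dual K
  have hef' : ∀ τ : RingAut K, ∑ i ∈ range m, e i * τ (f i) = if τ = 1 then 1 else 0 := fun τ => by
    rw [hef]
    split_ifs <;> rfl
  have hL : ∀ a ∈ S, ∀ x ∈ S, ∀ c ∈ S, a * x * c + c * x * a ∈ S := fun a ha x hx c hc => by
    have := sub_mem (sub_mem (D.conj _ (add_mem ha hc) x hx) (D.conj a ha x hx)) (D.conj c hc x hx)
    convert this using 1
    simp only [add_mul, mul_add]
    abel
  set n := orderOf σ with hn
  have hX : u + v ∈ S := by simpa using D.pair 1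
  have hcy : ∀ k, ι k * u ^ n = u ^ n * ι k := fun k => by
    rw [pow_semi D.hu, hn, pow_orderOf_eq_one]; rfl
  have hcy' : ∀ k, ι k * v ^ n = v ^ n * ι k := fun k => by
    rw [pow_semi D.hv, hn, inv_pow, pow_orderOf_eq_one, inv_one]; rfl
  obtain ⟨c, hc⟩ : ∃ c, u ^ n + v ^ n = ι c := by
    have hpos : 0 < n := orderOf_pos σ
    have hmem := D.pow_sub_mem huv hvu hβ (n - 1)
    rw [Nat.sub_add_cancel hpos] at hmem
    have hrange : ∀ w ∈ SpreadCore.rem ι u v n, proj ι m e f 1 w ∈ ι.range := by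
      intro w hw
      induction hw using AddSubgroup.closure_induction with
      | mem w h =>
        obtain ⟨a, ha, k, hk | hk⟩ := h
        · have h1 : ∀ l, ι l * w = w * ι ((σ ^ a) l) := fun l => by
            rw [hk, ← mul_assoc, pow_semi D.hu, mul_assoc, ← map_mul, mul_comm, map_mul, ← mul_assoc]
          rw [proj_semi hef' h1]
          split_ifs with h
          · have : a = 0 := Nat.eq_zero_of_dvd_of_lt (orderOf_dvd_of_pow_eq_one h.symm) ha
            exact ⟨k, by rw [hk, this, pow_zero, one_mul]⟩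
          · exact ι.range.zero_mem
        · have h1 : ∀ l, ι l * w = w * ι ((σ⁻¹ ^ a) l) := fun l => by
            rw [hk, ← mul_assoc, pow_semi D.hv, mul_assoc, ← map_mul, mul_comm, map_mul, ← mul_assoc]
          rw [proj_semi hef' h1]
          split_ifs with h
          · rw [inv_pow] at h
            have : a = 0 := Nat.eq_zero_of_dvd_of_lt (orderOf_dvd_of_pow_eq_one (inv_eq_one.1 h.symm)) ha
            exact ⟨k, by rw [hk, this, pow_zero, one_mul]⟩
          · exact ι.range.zero_mem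
      | zero => rw [proj_zero]; exact ι.range.zero_mem
      | add a b _ _ ha hb => rw [proj_add]; exact add_mem ha hb
      | neg a _ ha =>
        have : proj ι m e f 1 (-a) = -proj ι m e f 1 a := by simp [proj]
        rw [this]; exact neg_mem ha
    obtain ⟨r, hr⟩ := hrange _ hmem
    obtain ⟨c, hc⟩ := D.maximal _ (invol_mem hef' D.conj hL D.mem (D.pow_mem_S hX n) (σ := 1) inv_one)
      fun k => (comm_proj hef' 1 k _).trans rfl
    refine ⟨c - r, ?_⟩
    have h1 : proj ι m e f 1 (u ^ n + v ^ n) = u ^ n + v ^ n := by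
      rw [proj_semi hef' (τ := 1) (fun k => by rw [mul_add, hcy, hcy', ← add_mul]; rfl), if_pos rfl]
    rw [map_sub, hc, hr, ← h1]
    have h2 : proj ι m e f 1 ((u + v) ^ n) =
        proj ι m e f 1 ((u + v) ^ n - u ^ n - v ^ n) + proj ι m e f 1 (u ^ n + v ^ n) := by
      rw [← proj_add]
      congr 1
      abel
    rw [h2, add_sub_cancel_left]
  obtain ⟨N, hN⟩ := D.prod_range huv hvu hβ n
  have hun : u * v ^ n = v ^ n * u := D.u_comm_vn huv hvu hβ
  have huy : u * u ^ n = u ^ n * u := ((Commute.refl u).pow_right n).eq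
  have hfix : ∀ k, u * ι k = ι k * u → σ k = k := fun k hk => by
    refine sub_eq_zero.1 (by_contra fun h => D.u0 ((D.unit_ι h).mul_left_eq_zero.1 ?_))
    rw [map_sub, mul_sub, ← D.hu, hk, sub_self]
  refine ⟨c, N, hfix c ?_, hfix N ?_, hc, hN, ?_⟩
  · rw [← hc, mul_add, add_mul, huy, hun]
  · rw [← hN, ← mul_assoc, huy, mul_assoc, hun, mul_assoc]
  · rw [← hN, ← mul_add, hc, hcy]

end Conf

end Cfsg.Agent.ProjPlane.SpreadCore
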