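import Cfsg.Agent.ProjPlane.SpreadAux

/-!
# The components of a Jordan closed set of maps under a subfield

For a finite field mapped into the endomorphisms, the components of a map for the automorphisms of the field,
and the symmetrised components of a Jordan closed set.
-/

set_option autoImplicit false
set_option linter.unusedSectionVars false

open Finset

namespace Cfsg.Agent.ProjPlane.SpreadProj

variable {R : Type*} [Ring R] {K : Type*} [Field K]

/-- The component of `b` for the automorphism `σ`. -/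
def proj (ι : K →+* R) (m : ℕ) (e f : ℕ → K) (σ : RingAut K) (b : R) : R :=
  ∑ i ∈ range m, ι (e i) * b * ι (σ (f i))

variable {ι : K →+* R} {m : ℕ} {e f : ℕ → K}

theorem proj_add (σ : RingAut K) (a b : R) : proj ι m e f σ (a + b) = proj ι m e f σ a + proj ι m e f σ b := by
  simp [proj, mul_add, add_mul, sum_add_distrib]

theorem proj_zero (σ : RingAut K) : proj ι m e f σ (0 : R) = 0 := by simp [proj]

/-- The trace to the prime field. -/
noncomputable def tr [Fintype (RingAut K)] (x : K) : K := ∑ τ : RingAut K, τ x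

/-- Sums of a symmetrical family lie in the subgroup. -/
theorem sum_symm_mem {S : AddSubgroup R} (F : ℕ → ℕ → R) (hd : ∀ i, F i i ∈ S)
    (hs : ∀ i j, F i j + F j i ∈ S) : ∀ n, ∑ i ∈ range n, ∑ j ∈ range n, F i j ∈ S
  | 0 => by simp [S.zero_mem]
  | n + 1 => by
    have h : ∑ i ∈ range (n + 1), ∑ j ∈ range (n + 1), F i j =
        ∑ i ∈ range n, ∑ j ∈ range n, F i j + ∑ i ∈ range n, (F i n + F n i) + F n n := by
      simp only [sum_range_succ, sum_add_distrib]
      abel
    rw [h]
    exact add_mem (add_mem (sum_symm_mem F hd hs n) (sum_mem fun i _ => hs i n)) (hd n)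

variable [Finite K] [Fintype (RingAut K)] [DecidableEq (RingAut K)]

/-- The trace lies in the prime field. -/
theorem tr_natCast (x : K) : ∃ n : ℕ, tr x = (n : K) := by
  obtain ⟨p, hp⟩ := CharP.exists K
  have : Fact p.Prime := ⟨CharP.char_is_prime K p⟩
  have hfix : tr x ^ p = tr x := by
    have : ExpChar K p := ExpChar.prime Fact.out
    let φ : RingAut K := frobeniusEquiv K p
    have h : φ (tr x) = tr x := by
      rw [tr, map_sum]
      exact Fintype.sum_bijective (fun τ => φ * τ) (Group.mulLeft_bijective φ) _ _ fun τ => rfl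
    exact h
  have h := (Subfield.mem_bot_iff_pow_eq_self (F := K) (p := p)).2 hfix
  rw [← ZMod.fieldRange_castHom_eq_bot p] at h
  obtain ⟨n, hn⟩ := h
  refine ⟨n.val, ?_⟩
  rw [← hn, ← ZMod.natCast_zmod_val n]
  simp

theorem tr_map (σ : RingAut K) (x : K) : tr (σ x) = tr x :=
  Fintype.sum_bijective (fun τ => τ * σ) (Group.mulRight_bijective σ) _ _ fun τ => rfl

theorem cast_tr_comm (x : K) (r : R) : ι (tr x) * r = r * ι (tr x) := by
  obtain ⟨n, hn⟩ := tr_natCast x
  rw [hn, map_natCast]
  exact (Nat.cast_commute n r).eq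

variable (hef : ∀ τ : RingAut K, ∑ i ∈ range m, e i * τ (f i) = if τ = 1 then 1 else 0)
include hef

theorem dual' (τ : RingAut K) : ∑ i ∈ range m, f i * τ (e i) = if τ = 1 then 1 else 0 := by
  have h := congrArg τ (hef τ⁻¹)
  rw [map_sum] at h
  simp only [map_mul, show ∀ y, τ (τ⁻¹ y) = y from τ.apply_symm_apply] at h
  rw [show (∑ i ∈ range m, f i * τ (e i)) = ∑ i ∈ range m, τ (e i) * f i from
    sum_congr rfl fun i _ => mul_comm _ _, h]
  simp only [inv_eq_one]
  split_ifs <;> simp

theorem expand_e (a : K) : ∑ i ∈ range m, e i * tr (f i * a) = a := by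
  simp only [tr, mul_sum]
  rw [sum_comm]
  have : ∀ τ : RingAut K, ∑ i ∈ range m, e i * τ (f i * a) = if τ = 1 then a else 0 := fun τ => by
    simp only [map_mul, ← mul_assoc]
    rw [← sum_mul, hef]
    split_ifs with h
    · rw [h, one_mul]; rfl
    · rw [zero_mul]
  rw [sum_congr rfl fun τ _ => this τ]
  simp

theorem expand_f (a : K) : ∑ i ∈ range m, f i * tr (e i * a) = a := by
  simp only [tr, mul_sum]
  rw [sum_comm]
  have : ∀ τ : RingAut K, ∑ i ∈ range m, f i * τ (e i * a) = if τ = 1 then a else 0 := fun τ => by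
    simp only [map_mul, ← mul_assoc]
    rw [← sum_mul, dual' hef]
    split_ifs with h
    · rw [h, one_mul]; rfl
    · rw [zero_mul]
  rw [sum_congr rfl fun τ _ => this τ]
  simp

/-- The multipliers pass through a component by the automorphism. -/
theorem comm_proj (σ : RingAut K) (k : K) (b : R) :
    ι k * proj ι m e f σ b = proj ι m e f σ b * ι (σ k) := by
  have h1 : ∀ i, ι k * (ι (e i) * b * ι (σ (f i))) =
      ∑ j ∈ range m, ι (e j) * b * ι (σ (f i * tr (f j * (k * e i)))) := fun i => by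
    have hs : ∀ j, ι (e j) * b * ι (σ (f i * tr (f j * (k * e i)))) =
        ι (e j * tr (f j * (k * e i))) * b * ι (σ (f i)) := fun j => by
      obtain ⟨n, hn⟩ := tr_natCast (f j * (k * e i))
      rw [hn, map_mul, map_natCast, map_mul, map_mul, map_natCast]
      simp only [mul_assoc]
      rw [(Nat.cast_commute n b).left_comm, (Nat.cast_commute n (ι (σ (f i)))).eq]
    rw [sum_congr rfl fun j _ => hs j, ← sum_mul, ← sum_mul, ← map_sum, expand_e hef, map_mul]
    simp only [mul_assoc]
  rw [proj, mul_sum, sum_mul, sum_congr rfl fun i _ => h1 i, sum_comm]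
  refine sum_congr rfl fun j _ => ?_
  rw [← mul_sum, ← map_sum, ← map_sum, mul_assoc (ι (e j) * b), ← map_mul, ← map_mul]
  congr 3
  calc ∑ i ∈ range m, f i * tr (f j * (k * e i)) = ∑ i ∈ range m, f i * tr (e i * (f j * k)) := by
        refine sum_congr rfl fun i _ => ?_
        rw [show f j * (k * e i) = e i * (f j * k) by ring]
    _ = f j * k := expand_f hef _

/-- A map semilinear for `τ` is its own component. -/
theorem proj_semi {τ : RingAut K} {w : R} (hw : ∀ k, ι k * w = w * ι (τ k)) (σ : RingAut K) :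
    proj ι m e f σ w = if σ = τ then w else 0 := by
  rw [proj]
  have h : ∀ i, ι (e i) * w * ι (σ (f i)) = w * ι (τ (e i * (τ⁻¹ * σ) (f i))) := fun i => by
    rw [hw, mul_assoc, ← map_mul, show τ (e i * (τ⁻¹ * σ) (f i)) = τ (e i) * σ (f i) by
      rw [map_mul, RingAut.mul_apply, show τ (τ⁻¹ (σ (f i))) = σ (f i) from τ.apply_symm_apply _]]
  rw [sum_congr rfl fun i _ => h i, ← mul_sum, ← map_sum, ← map_sum, hef]
  by_cases hστ : σ = τ
  · rw [if_pos hστ, if_pos (by rw [hστ, inv_mul_cancel]), map_one, map_one, mul_one]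
  · rw [if_neg hστ, if_neg (fun h => hστ (inv_mul_eq_one.1 h).symm), map_zero, map_zero, mul_zero]

theorem sum_proj (b : R) : ∑ σ : RingAut K, proj ι m e f σ b = b := by
  simp only [proj]
  rw [sum_comm]
  have h : ∀ i, ∑ σ : RingAut K, ι (e i) * b * ι (σ (f i)) = ι (e i * tr (f i * 1)) * b := fun i => by
    rw [← mul_sum, ← map_sum, mul_one, map_mul, mul_assoc (ι (e i)) (ι (tr (f i))), cast_tr_comm, mul_assoc]
    rfl
  rw [sum_congr rfl fun i _ => h i, ← sum_mul, ← map_sum, expand_e hef, map_one, one_mul]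

/-- The other form of the component for the inverse automorphism. -/
theorem proj_inv (σ : RingAut K) (b : R) :
    ∑ i ∈ range m, ι (σ (f i)) * b * ι (e i) = proj ι m e f σ⁻¹ b := by
  have h1 : ∀ i, ι (σ (f i)) * b * ι (e i) =
      ∑ j ∈ range m, ι (e j) * b * ι (e i * tr (f j * σ (f i))) := fun i => by
    have hs : ∀ j, ι (e j) * b * ι (e i * tr (f j * σ (f i))) = ι (e j * tr (f j * σ (f i))) * b * ι (e i) :=
      fun j => by
        obtain ⟨n, hn⟩ := tr_natCast (f j * σ (f i))
        rw [hn, map_mul, map_natCast, map_mul, map_natCast]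
        simp only [mul_assoc]
        rw [(Nat.cast_commute n b).left_comm, (Nat.cast_commute n (ι (e i))).eq]
    rw [sum_congr rfl fun j _ => hs j, ← sum_mul, ← sum_mul, ← map_sum, expand_e hef]
  rw [sum_congr rfl fun i _ => h1 i, sum_comm]
  refine sum_congr rfl fun j _ => ?_
  rw [← mul_sum, ← map_sum]
  congr 2
  calc ∑ i ∈ range m, e i * tr (f j * σ (f i)) = ∑ i ∈ range m, e i * tr (f i * σ⁻¹ (f j)) := by
        refine sum_congr rfl fun i _ => ?_
        rw [← tr_map σ (f i * σ⁻¹ (f j)), map_mul, show σ (σ⁻¹ (f j)) = f j from σ.apply_symm_apply _,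
          mul_comm (f j)]
    _ = σ⁻¹ (f j) := expand_e hef _

variable {S : AddSubgroup R} (hU : ∀ a ∈ S, ∀ x ∈ S, a * x * a ∈ S)
  (hL : ∀ a ∈ S, ∀ x ∈ S, ∀ c ∈ S, a * x * c + c * x * a ∈ S) (hι : ∀ k, ι k ∈ S)
include hL hι

/-- The two components of inverse automorphisms, with a multiplier. -/
theorem pair_mem {b : R} (hb : b ∈ S) (σ : RingAut K) (k : K) :
    ι k * proj ι m e f σ b + proj ι m e f σ⁻¹ b * ι k ∈ S := by
  rw [← proj_inv hef, proj, mul_sum, sum_mul, ← sum_add_distrib]
  refine sum_mem fun i _ => ?_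
  have := hL _ (hι (k * e i)) b hb _ (hι (σ (f i)))
  rwa [map_mul, show ι (σ (f i)) * b * (ι k * ι (e i)) = ι (σ (f i)) * b * ι (e i) * ι k by
    rw [← map_mul ι k, mul_comm k, map_mul]; simp only [mul_assoc], show ι k * ι (e i) * b * ι (σ (f i)) =
      ι k * (ι (e i) * b * ι (σ (f i))) by simp only [mul_assoc]] at this

include hU

/-- The component of an automorphism equal to its inverse. -/
theorem invol_mem {b : R} (hb : b ∈ S) {σ : RingAut K} (hσ : σ⁻¹ = σ) : proj ι m e f σ b ∈ S := by
  let F : ℕ → ℕ → R := fun i j => ι (tr (f j * σ (f i))) * (ι (e i) * b * ι (e j))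
  have hF : proj ι m e f σ b = ∑ i ∈ range m, ∑ j ∈ range m, F i j := by
    refine sum_congr rfl fun i _ => ?_
    have hs : ∀ j, F i j = ι (e i) * b * ι (e j * tr (f j * σ (f i))) := fun j => by
      rw [map_mul, ← cast_tr_comm (ι := ι) (f j * σ (f i)) (ι (e j))]
      show ι (tr (f j * σ (f i))) * (ι (e i) * b * ι (e j)) = _
      rw [← mul_assoc, cast_tr_comm (ι := ι) (f j * σ (f i)) (ι (e i) * b)]
      simp only [mul_assoc]
    rw [sum_congr rfl fun j _ => hs j, ← mul_sum, ← map_sum, expand_e hef]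
  have hsmul : ∀ (x : K) (r : R), r ∈ S → ι (tr x) * r ∈ S := fun x r hr => by
    obtain ⟨n, hn⟩ := tr_natCast x
    rw [hn, map_natCast, ← nsmul_eq_mul]
    exact S.nsmul_mem hr n
  rw [hF]
  refine sum_symm_mem F (fun i => hsmul _ _ (hU _ (hι _) b hb)) (fun i j => ?_) m
  have hc : tr (f i * σ (f j)) = tr (f j * σ (f i)) := by
    rw [← tr_map σ (f i * σ (f j)), map_mul, show σ (σ (f j)) = f j by
      conv_lhs => arg 1; rw [← hσ]
      exact σ.symm_apply_apply _, mul_comm]
  simp only [F, hc, ← mul_add]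
  exact hsmul _ _ (hL _ (hι _) b hb _ (hι _))

end Cfsg.Agent.ProjPlane.SpreadProj
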