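import Cfsg.Agent.ProjPlane.Persp

/-!
# Fixed subplanes

A subgroup fixing a quadrangle fixes a subplane, on which its normaliser acts by collineations.
Baer: the subplane of an involution has order the square root.
-/

set_option autoImplicit false
set_option linter.unusedSectionVars false

open scoped Classical

namespace Cfsg.Agent.ProjPlane

open Configuration

variable {G P L : Type*} [Group G] [Membership P L] [MulAction G P] [MulAction G L]

variable (P) in
/-- The fixed points of a subgroup. -/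
abbrev FP (U : Subgroup G) : Type _ := {p : P // ∀ g ∈ U, g • p = p}

variable (L) in
/-- The fixed lines of a subgroup. -/
abbrev FL (U : Subgroup G) : Type _ := {l : L // ∀ g ∈ U, g • l = l}

variable {U : Subgroup G}

instance fixMembership : Membership (FP P U) (FL L U) := ⟨fun l p => (p : P) ∈ (l : L)⟩

theorem fix_mem_iff {p : FP P U} {l : FL L U} : p ∈ l ↔ (p : P) ∈ (l : L) := Iff.rfl

/-- The normaliser acts on the fixed points. -/
instance fixAction {α : Type*} [MulAction G α] (U : Subgroup G) :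
    MulAction (Subgroup.normalizer (U : Set G)) {a : α // ∀ g ∈ U, g • a = a} where
  smul x a := ⟨(x : G) • a.1, fun g hg => by
    have h := a.2 _ ((Subgroup.mem_normalizer_iff''.1 x.2 g).1 hg)
    rw [mul_smul, mul_smul, inv_smul_eq_iff] at h
    exact h⟩
  one_smul a := Subtype.ext (one_smul G a.1)
  mul_smul x y a := Subtype.ext (mul_smul (x : G) (y : G) a.1)

theorem coe_fix_smul {α : Type*} [MulAction G α] (x : Subgroup.normalizer (U : Set G))
    (a : {a : α // ∀ g ∈ U, g • a = a}) : ((x • a : {a : α // ∀ g ∈ U, g • a = a}) : α) =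
      (x : G) • (a : α) := rfl

variable (P L) in
/-- The action of the normaliser on the fixed subplane. -/
def fixHom (U : Subgroup G) :
    Subgroup.normalizer (U : Set G) →* Equiv.Perm (FP P U) × Equiv.Perm (FL L U) :=
  (MulAction.toPermHom _ _).prod (MulAction.toPermHom _ _)

variable (P L) in
/-- The group induced on the fixed subplane. -/
abbrev FixGrp (U : Subgroup G) : Type _ := (fixHom P L U).range

instance fixGrpPoints : MulAction (FixGrp P L U) (FP P U) where
  smul x p := (x : Equiv.Perm (FP P U) × Equiv.Perm (FL L U)).1 p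
  one_smul _ := rfl
  mul_smul _ _ _ := rfl

instance fixGrpLines : MulAction (FixGrp P L U) (FL L U) where
  smul x l := (x : Equiv.Perm (FP P U) × Equiv.Perm (FL L U)).2 l
  one_smul _ := rfl
  mul_smul _ _ _ := rfl

theorem rangeRestrict_smul_point (x : Subgroup.normalizer (U : Set G)) (p : FP P U) :
    (fixHom P L U).rangeRestrict x • p = x • p := rfl

theorem rangeRestrict_smul_line (x : Subgroup.normalizer (U : Set G)) (l : FL L U) :
    (fixHom P L U).rangeRestrict x • l = x • l := rfl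

variable [IsColl G P L]

instance fixColl : IsColl (FixGrp P L U) (FP P U) (FL L U) where
  smul_mem_smul x p l := by
    obtain ⟨y, rfl⟩ := (fixHom P L U).rangeRestrict_surjective x
    exact smul_mem_iff (y : G) (p := p.1) (l := l.1)

variable [ProjectivePlane P L] [Finite P] [Finite L]

theorem Quad.two {a b c d : P} (h : Quad L a b c d) (x : P) :
    ∃ u v w : P, (u = a ∨ u = b ∨ u = c) ∧ (v = a ∨ v = b ∨ v = c) ∧ u ≠ v ∧ x ≠ u ∧ x ≠ v ∧
      w = d := by
  obtain ⟨hab, hac, hbc⟩ := ne_of_not_col h.abc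
  by_cases h1 : x = a
  · exact ⟨b, c, d, by simp, by simp, hbc, h1 ▸ hab, h1 ▸ hac, rfl⟩
  by_cases h2 : x = b
  · exact ⟨a, c, d, by simp, by simp, hac, h1, h2 ▸ hbc, rfl⟩
  · exact ⟨a, b, d, by simp, by simp, hab, h1, h2, rfl⟩

variable [hQ : Fact (QuadFix (P := P) L (U : Set G))]

/-- The fixed subplane. -/
noncomputable instance fixPlane : ProjectivePlane (FP P U) (FL L U) :=
  have hquad : ∃ a b c d : FP P U, Quad L a.1 b.1 c.1 d.1 := by
    obtain ⟨a, b, c, d, hq, hf⟩ := hQ.out
    exact ⟨⟨a, fun g hg => (hf g hg).1⟩, ⟨b, fun g hg => (hf g hg).2.1⟩,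
      ⟨c, fun g hg => (hf g hg).2.2.1⟩, ⟨d, fun g hg => (hf g hg).2.2.2⟩, hq⟩
  have line : ∀ {p q : FP P U}, p ≠ q → ∀ g ∈ U, g • ln L p.1 q.1 = ln L p.1 q.1 :=
    fun {p q} h g hg => fix_ln (fun e => h (Subtype.ext e)) (p.2 g hg) (q.2 g hg)
  { exists_point := fun l => by
      obtain ⟨a, b, c, d, hq⟩ := hquad
      by_contra hall
      push Not at hall
      exact hq.abc ⟨l.1, hall a, hall b, hall c⟩
    exists_line := fun p => by
      obtain ⟨a, b, c, d, hq⟩ := hquad
      obtain ⟨hab, hac, hbc⟩ := ne_of_not_col hq.abc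
      by_contra hall
      push Not at hall
      have h1 : p.1 ∈ ln L a.1 b.1 := hall ⟨_, line (fun e => hab (congrArg Subtype.val e))⟩
      have h2 : p.1 ∈ ln L a.1 c.1 := hall ⟨_, line (fun e => hac (congrArg Subtype.val e))⟩
      obtain ⟨-, hbd, hcd⟩ := ne_of_not_col hq.bcd
      have h3 : p.1 ∈ ln L b.1 d.1 := hall ⟨_, line (fun e => hbd (congrArg Subtype.val e))⟩
      have hne : ln L a.1 b.1 ≠ ln L a.1 c.1 := fun e =>
        hq.abc ⟨_, left_ln hab, right_ln hab, e ▸ right_ln hac⟩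
      have hpa : p.1 = a.1 := eq_of_two' hne h1 (left_ln hab) h2 (left_ln hac)
      rw [hpa] at h3
      exact hq.abd ⟨_, h3, left_ln hbd, right_ln hbd⟩
    eq_or_eq := fun {p₁ p₂ l₁ l₂} h1 h2 h3 h4 =>
      (Nondegenerate.eq_or_eq (P := P) (L := L) (p₁ := p₁.1) (p₂ := p₂.1) (l₁ := l₁.1)
        (l₂ := l₂.1) h1 h2 h3 h4).imp Subtype.ext Subtype.ext
    mkPoint := fun {l₁ l₂} h => ⟨pt P l₁.1 l₂.1, fun g hg =>
      fix_point_of_two (fun e => h (Subtype.ext e)) (pt_left (fun e => h (Subtype.ext e)))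
        (pt_right (fun e => h (Subtype.ext e))) (l₁.2 g hg) (l₂.2 g hg)⟩
    mkPoint_ax := fun h => ⟨pt_left (fun e => h (Subtype.ext e)),
      pt_right (fun e => h (Subtype.ext e))⟩
    mkLine := fun {p₁ p₂} h => ⟨ln L p₁.1 p₂.1, line h⟩
    mkLine_ax := fun h => ⟨left_ln (fun e => h (Subtype.ext e)),
      right_ln (fun e => h (Subtype.ext e))⟩
    exists_config := by
      obtain ⟨a, b, c, d, hq⟩ := hquad
      obtain ⟨hab, hac, hbc⟩ := ne_of_not_col hq.abc
      obtain ⟨had, hbd⟩ : a.1 ≠ d.1 ∧ b.1 ≠ d.1 :=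
        ⟨(ne_of_not_col hq.abd).2.1, (ne_of_not_col hq.abd).2.2⟩
      obtain ⟨-, hcd⟩ : a.1 ≠ c.1 ∧ c.1 ≠ d.1 :=
        ⟨hac, (ne_of_not_col hq.acd).2.2⟩
      refine ⟨a, b, c, ⟨ln L a.1 d.1, line (fun e => had (congrArg Subtype.val e))⟩,
        ⟨ln L b.1 c.1, line (fun e => hbc (congrArg Subtype.val e))⟩,
        ⟨ln L b.1 d.1, line (fun e => hbd (congrArg Subtype.val e))⟩, ?_, ?_, ?_, ?_, ?_, ?_, ?_, ?_⟩
      · exact fun h : a.1 ∈ ln L b.1 c.1 => hq.abc ⟨_, h, left_ln hbc, right_ln hbc⟩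
      · exact fun h : a.1 ∈ ln L b.1 d.1 => hq.abd ⟨_, h, left_ln hbd, right_ln hbd⟩
      · exact fun h : b.1 ∈ ln L a.1 d.1 => hq.abd ⟨_, left_ln had, h, right_ln had⟩
      · exact left_ln hbc
      · exact left_ln hbd
      · exact fun h : c.1 ∈ ln L a.1 d.1 => hq.acd ⟨_, left_ln had, h, right_ln had⟩
      · exact right_ln hbc
      · exact fun h : c.1 ∈ ln L b.1 d.1 => hq.bcd ⟨_, left_ln hbd, h, right_ln hbd⟩ }

omit [Fact _] in
theorem fix_faithful_aux {x : FixGrp P L U} (h : ∀ p : FP P U, x • p = p)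
    [Fact (QuadFix (P := P) L (U : Set G))] : x = 1 := by
  refine Subtype.ext (Prod.ext (Equiv.ext h) (Equiv.ext fun l => ?_))
  exact fix_lines (P := FP P U) h l

instance fixFaithful : FaithfulSMul (FixGrp P L U) (FP P U) where
  eq_of_smul_eq_smul {x y} h := inv_mul_eq_one.1 (fix_faithful_aux fun p => by
    rw [mul_smul, ← h p, inv_smul_smul]) |>.symm |> Eq.symm

/-- The order of the fixed subplane is smaller. -/
theorem ord_fix_lt [FaithfulSMul G P] (hU : U ≠ ⊥) : ord (FP P U) (FL L U) < ord P L := by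
  have key : ∀ l : FL L U, ord (FP P U) (FL L U) + 1 ≤ ord P L + 1 ∧
      (ord (FP P U) (FL L U) = ord P L → ∀ g ∈ U, IsAxis P g l.1) := by
    intro l
    let f : {p : FP P U // p ∈ l} → {p : P // p ∈ l.1} := fun p => ⟨p.1.1, p.2⟩
    have hf : Function.Injective f := fun p q e =>
      Subtype.ext (Subtype.ext (congrArg (fun x : {p : P // p ∈ l.1} => x.1) e))
    refine ⟨?_, fun e g hg p hp => ?_⟩
    · rw [← card_on (P := FP P U) l, ← card_on (P := P) l.1]
      exact Nat.card_le_card_of_injective f hf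
    · have hb := (Nat.bijective_iff_injective_and_card f).2 ⟨hf, by rw [card_on, card_on, e]⟩
      obtain ⟨q, hq⟩ := hb.2 ⟨p, hp⟩
      have e' : q.1.1 = p := congrArg Subtype.val hq
      rw [← e']
      exact q.1.2 g hg
  obtain ⟨p₀, -⟩ := @ProjectivePlane.exists_config (FP P U) (FL L U) _ _
  obtain ⟨l, hl⟩ := exists_line_through (L := FL L U) p₀
  refine lt_of_le_of_ne (Nat.succ_le_succ_iff.1 (key l).1) fun e => hU ?_
  obtain ⟨m, hm⟩ := Nondegenerate.exists_line (L := FL L U) p₀
  refine (Subgroup.eq_bot_iff_forall U).2 fun g hg => ?_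
  by_contra hne
  obtain ⟨c, hc⟩ := exists_cent ((key l).2 e g hg) hne
  have h := hc.axis_unique ((key m).2 e g hg)
  exact hm (by rw [fix_mem_iff, h]; exact hl)

omit [Fact _] in
/-- **Baer**: the subplane of an involution has order the square root. -/
theorem ord_baer [FaithfulSMul G P] {g : G} (h2 : g * g = 1) (hg : g ≠ 1)
    [hF : Fact (QuadFix (P := P) L ((Subgroup.zpowers g : Subgroup G) : Set G))] :
    ord P L = ord (FP P (Subgroup.zpowers g)) (FL L (Subgroup.zpowers g)) ^ 2 := by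
  set U := Subgroup.zpowers g with hU
  have hfix : ∀ {α : Type _} [MulAction G α] {a : α}, g • a = a → ∀ k ∈ U, k • a = a := by
    intro α _ a ha k hk
    exact (Subgroup.zpowers_le.2 (MulAction.mem_stabilizer_iff.2 ha) : U ≤ MulAction.stabilizer G a) hk
  set m := ord (FP P U) (FL L U) with hm
  have hlt : m < ord P L := ord_fix_lt fun e => hg (Subgroup.zpowers_eq_bot.1 e)
  obtain ⟨p₀, -⟩ := @ProjectivePlane.exists_config (FP P U) (FL L U) _ _
  obtain ⟨l, hl⟩ := exists_line_through (L := FL L U) p₀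
  have hgl : g • l.1 = l.1 := l.2 g (Subgroup.mem_zpowers g)
  -- a moved point on a fixed line
  obtain ⟨x, hxl, hgx⟩ : ∃ x, x ∈ l.1 ∧ g • x ≠ x := by
    by_contra hall
    push Not at hall
    have h1 : ord P L + 1 ≤ m + 1 := by
      rw [← card_on (P := P) l.1, hm, ← card_on (P := FP P U) l]
      refine Nat.card_le_card_of_injective
        (fun p : {p : P // p ∈ l.1} => (⟨⟨p.1, fun k hk => hfix (hall p.1 p.2) k hk⟩, p.2⟩ :
          {p : FP P U // p ∈ l})) fun p q e => ?_
      exact Subtype.ext (congrArg (fun y : {p : FP P U // p ∈ l} => y.1.1) e)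
    omega
  have huniq : ∀ {k : L}, x ∈ k → g • k = k → k = l.1 := fun {k} hxk hk => by
    by_contra hne
    exact hgx (fix_point_of_two hne hxk hxl hk hgl)
  have hnf : ∀ {k : L}, x ∈ k → k ≠ l.1 → ∃ p : FP P U, p.1 ∈ k ∧ p ∉ l := fun {k} hxk hne => by
    obtain ⟨p, hp, hgp⟩ := invol_line (P := P) h2 hg k
    refine ⟨⟨p, fun j hj => hfix hgp j hj⟩, hp, fun (hpl : p ∈ l.1) => hgx ?_⟩
    rwa [eq_of_two' hne hp hxk hpl hxl] at hgp
  -- lines through `x` off `l` correspond to fixed points off `l`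
  have hbij : Nat.card {p : FP P U // p ∉ l} = Nat.card {k : L // x ∈ k ∧ k ≠ l.1} := by
    have hxp : ∀ p : {p : FP P U // p ∉ l}, x ≠ p.1.1 := fun p e => p.2 (e ▸ hxl : p.1.1 ∈ l.1)
    refine Nat.card_eq_of_bijective (fun p => ⟨ln L x p.1.1, left_ln (hxp p), fun e =>
      p.2 (by have := right_ln (L := L) (hxp p); rwa [e] at this)⟩) ⟨?_, ?_⟩
    · intro p q e
      by_contra hne
      have e' : ln L x p.1.1 = ln L x q.1.1 := congrArg Subtype.val e
      have hpq : p.1.1 ≠ q.1.1 := fun h => hne (Subtype.ext (Subtype.ext h))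
      have hfixk : g • ln L x p.1.1 = ln L x p.1.1 := fix_line_of_two hpq (right_ln (hxp p))
        (by rw [e']; exact right_ln (hxp q)) (p.1.2 g (Subgroup.mem_zpowers g))
        (q.1.2 g (Subgroup.mem_zpowers g))
      exact p.2 (show p.1.1 ∈ l.1 by rw [← huniq (left_ln (hxp p)) hfixk]; exact right_ln (hxp p))
    · rintro ⟨k, hxk, hne⟩
      obtain ⟨p, hp, hpl⟩ := hnf hxk hne
      exact ⟨⟨p, hpl⟩, Subtype.ext (eq_ln (hxp ⟨p, hpl⟩) hxk hp).symm⟩
  have hR : Nat.card {k : L // x ∈ k ∧ k ≠ l.1} + 1 = ord P L + 1 := by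
    cases nonempty_fintype L
    rw [← card_through (L := L) x, Nat.card_eq_fintype_card, Nat.card_eq_fintype_card,
      Fintype.card_subtype, Fintype.card_subtype]
    rw [← Finset.card_erase_add_one (s := Finset.univ.filter fun k : L => x ∈ k) (a := l.1) (by simp [hxl])]
    congr 1
    refine congrArg Finset.card ?_
    ext k; simp [and_comm]
  have hL' : Nat.card {p : FP P U // p ∉ l} + (m + 1) = m ^ 2 + m + 1 := by
    cases nonempty_fintype (FP P U)
    rw [← natCard_points (FP P U) (FL L U), ← card_on (P := FP P U) l, Nat.card_eq_fintype_card,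
      Nat.card_eq_fintype_card, Nat.card_eq_fintype_card, Fintype.card_subtype_compl]
    exact Nat.sub_add_cancel (Fintype.card_subtype_le _)
  omega

end Cfsg.Agent.ProjPlane
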